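import Groth.Agent.DimLib.Algebra
import Groth.Agent.ProjLib.GradedGen
import Groth.Agent.CAlgH3.QuotientLocal
import Groth.Agent.CAlgH3.CMRing
import Groth.Agent.CAlgH3.Depth
import Mathlib.RingTheory.GradedAlgebra.Radical

/-!
# Dimension and depth of graded algebras at the vertex
-/

universe u v

namespace Groth.Agent.W4Gr15

variable {K : Type u} [Field K] {A : Type v} [CommRing A] [Algebra K A]

/-- If all minimal primes lie below a maximal ideal, that ideal computes the dimension. -/
lemma ringKrullDim_eq_height_of_minimalPrimes_le {B : Type v} [CommRing B] [Algebra K B] [Algebra.FiniteType K B]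
    (m : Ideal B) [m.IsMaximal] (hm : ∀ q ∈ minimalPrimes B, q ≤ m) :
    ringKrullDim B = (m.height : WithBot ℕ∞) := by
  refine le_antisymm (iSup_le fun l => ?_) (Ideal.height_le_ringKrullDim_of_ne_top (Ideal.IsMaximal.ne_top ‹_›))
  obtain ⟨q, hq, hle⟩ := Ideal.exists_minimalPrimes_le (I := (⊥ : Ideal B)) (J := l.head.asIdeal) bot_le
  haveI : q.IsPrime := hq.1.1
  let g := Ideal.Quotient.mk q
  have hs : Function.Surjective g := Ideal.Quotient.mk_surjective
  haveI hM : (m.map g).IsMaximal := by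
    refine (Ideal.map_eq_top_or_isMaximal_of_surjective g hs (I := m) ‹_›).resolve_left fun h => ?_
    have h' := congrArg (Ideal.comap g) h
    rw [Ideal.comap_map_of_surjective g hs, ← RingHom.ker_eq_comap_bot, Ideal.mk_ker,
      sup_eq_left.2 (hm q hq), Ideal.comap_top] at h'
    exact (Ideal.IsMaximal.ne_top ‹_›) h'
  have hker : ∀ i, RingHom.ker g ≤ (l i).asIdeal := fun i => by
    rw [Ideal.mk_ker]
    exact hle.trans (show l.head ≤ l i from l.head_le i)
  let l' : LTSeries (PrimeSpectrum (B ⧸ q)) :=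
    { length := l.length
      toFun := fun i => ⟨(l i).asIdeal.map g, Ideal.map_isPrime_of_surjective hs (hker i)⟩
      step := fun i => by
        have hlt : l i.castSucc < l i.succ := l.step i
        refine lt_of_le_of_ne (Ideal.map_mono hlt.le) fun he => hlt.ne ?_
        replace he : (l i.castSucc).asIdeal.map g = (l i.succ).asIdeal.map g := he
        have := congrArg (Ideal.comap g) he
        simp only [Ideal.comap_map_of_surjective g hs, ← RingHom.ker_eq_comap_bot,
          sup_eq_left.2 (hker _)] at this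
        exact PrimeSpectrum.ext this }
  have h1 : (l.length : WithBot ℕ∞) ≤ ringKrullDim (B ⧸ q) := Order.LTSeries.length_le_krullDim l'
  refine h1.trans ?_
  rw [← DimLib.height_eq_of_isMaximal (k := K) (m.map g), WithBot.coe_le_coe,
    PrimeSpectrum.height_eq_orderHeight ⟨m.map g, hM.isPrime⟩, PrimeSpectrum.height_eq_orderHeight ⟨m, inferInstance⟩]
  have hmap : PrimeSpectrum.comap g ⟨m.map g, hM.isPrime⟩ = ⟨m, inferInstance⟩ := by
    ext1
    change (m.map g).comap g = m
    rw [Ideal.comap_map_of_surjective g hs, ← RingHom.ker_eq_comap_bot, Ideal.mk_ker, sup_eq_left.2 (hm q hq)]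
  rw [← hmap]
  exact Order.height_le_height_apply_of_strictMono _
    (Monotone.strictMono_of_injective (f := PrimeSpectrum.comap g) (fun x y h => Ideal.comap_mono h)
      (PrimeSpectrum.comap_injective_of_surjective g hs)) _

variable (𝒜 : ℕ → Submodule K A) [GradedAlgebra 𝒜] (h0 : ∀ a ∈ 𝒜 0, ∃ c : K, algebraMap K A c = a)

include h0 in
lemma irrelevant_isMaximal [Nontrivial A] : (HomogeneousIdeal.irrelevant 𝒜).toIdeal.IsMaximal := by
  classical
  refine Ideal.isMaximal_iff.2 ⟨fun h => ?_, fun J x hJ hx hxJ => ?_⟩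
  · have : (DirectSum.decompose 𝒜 (1 : A) 0 : A) = 0 := h
    rw [DirectSum.decompose_of_mem_same 𝒜 SetLike.GradedOne.one_mem] at this
    exact one_ne_zero this
  · obtain ⟨c, hc⟩ := h0 _ (DirectSum.decompose 𝒜 x 0).2
    have hc0 : c ≠ 0 := fun h => hx (by
      change (DirectSum.decompose 𝒜 x 0 : A) = 0
      rw [← hc, h, map_zero])
    have hmem : algebraMap K A c⁻¹ * x - 1 ∈ (HomogeneousIdeal.irrelevant 𝒜).toIdeal := by
      change (DirectSum.decompose 𝒜 (algebraMap K A c⁻¹ * x - 1) 0 : A) = 0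
      rw [← Algebra.smul_def, DirectSum.decompose_sub, DirectSum.decompose_smul, DirectSum.sub_apply,
        AddSubgroupClass.coe_sub, DirectSum.decompose_of_mem_same 𝒜 SetLike.GradedOne.one_mem]
      change c⁻¹ • (DirectSum.decompose 𝒜 x 0 : A) - 1 = 0
      rw [← hc, Algebra.smul_def, ← map_mul, inv_mul_cancel₀ hc0, map_one, sub_self]
    have := J.sub_mem (J.mul_mem_left (algebraMap K A c⁻¹) hxJ) (hJ hmem)
    rwa [sub_sub_cancel] at this

include h0 in
lemma finiteType_of_graded [IsNoetherianRing A] : Algebra.FiniteType K A := by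
  obtain ⟨s, hs, hspan⟩ :=
    ProjLib.exists_finset_homogeneous_span_eq_irrelevant 𝒜 (IsNoetherian.noetherian (HomogeneousIdeal.irrelevant 𝒜).toIdeal)
  have h := ProjLib.adjoin_eq_top_of_irrelevant_le_span 𝒜 hs hspan.le
  refine ⟨⟨s, eq_top_iff.2 fun x _ => ?_⟩⟩
  have hx : x ∈ Algebra.adjoin (𝒜 0) (s : Set A) := h ▸ Algebra.mem_top
  induction hx using Algebra.adjoin_induction with
  | mem x hx => exact Algebra.subset_adjoin hx
  | algebraMap r =>
    obtain ⟨c, hc⟩ := h0 _ r.2
    change (r : A) ∈ _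
    rw [← hc]
    exact (Algebra.adjoin K (s : Set A)).algebraMap_mem c
  | add x y _ _ hx hy => exact add_mem (hx trivial) (hy trivial)
  | mul x y _ _ hx hy => exact mul_mem (hx trivial) (hy trivial)

include h0 in
lemma homogeneous_le_irrelevant {Q : Ideal A} (hQ : Q.IsHomogeneous 𝒜) (hQ' : Q ≠ ⊤) :
    Q ≤ (HomogeneousIdeal.irrelevant 𝒜).toIdeal := by
  classical
  intro x hx
  change (DirectSum.decompose 𝒜 x 0 : A) = 0
  by_contra hne
  obtain ⟨c, hc⟩ := h0 _ (DirectSum.decompose 𝒜 x 0).2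
  have hu : IsUnit (DirectSum.decompose 𝒜 x 0 : A) := by
    rw [← hc]
    exact (isUnit_iff_ne_zero.2 fun h => hne (by rw [← hc, h, map_zero])).map _
  exact hQ' (Ideal.eq_top_of_isUnit_mem _ (hQ 0 hx) hu)

include h0 in
lemma minimalPrimes_le_irrelevant {H : Ideal A} (hH : H.IsHomogeneous 𝒜) {q : Ideal A} (hq : q ∈ H.minimalPrimes) :
    q ≤ (HomogeneousIdeal.irrelevant 𝒜).toIdeal := by
  haveI : q.IsPrime := hq.1.1
  have hcore : (q.homogeneousCore 𝒜).toIdeal.IsPrime := Ideal.IsPrime.homogeneousCore hq.1.1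
  have hle : (q.homogeneousCore 𝒜).toIdeal ≤ q := Ideal.toIdeal_homogeneousCore_le 𝒜 q
  have hH' : H ≤ (q.homogeneousCore 𝒜).toIdeal := by
    rw [← hH.toIdeal_homogeneousCore_eq_self]
    exact Ideal.homogeneousCore_mono 𝒜 hq.1.2
  exact (hq.2 ⟨hcore, hH'⟩ hle).trans
    (homogeneous_le_irrelevant 𝒜 h0 (q.homogeneousCore 𝒜).isHomogeneous hcore.ne_top)

include h0 in
/-- The dimension of `A/H` is attained at the vertex. -/
lemma ringKrullDim_quotient_eq_height [IsNoetherianRing A] {H : Ideal A} (hH : H.IsHomogeneous 𝒜) (hH' : H ≠ ⊤) :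
    ((HomogeneousIdeal.irrelevant 𝒜).toIdeal.map (Ideal.Quotient.mk H)).IsMaximal ∧
      ringKrullDim (A ⧸ H) =
        ((HomogeneousIdeal.irrelevant 𝒜).toIdeal.map (Ideal.Quotient.mk H)).height := by
  haveI : Nontrivial (A ⧸ H) := Ideal.Quotient.nontrivial_iff.2 hH'
  haveI : Nontrivial A := (Ideal.Quotient.mk H).domain_nontrivial
  haveI := irrelevant_isMaximal 𝒜 h0
  haveI := finiteType_of_graded 𝒜 h0
  set P := (HomogeneousIdeal.irrelevant 𝒜).toIdeal
  have hHP : H ≤ P := homogeneous_le_irrelevant 𝒜 h0 hH hH'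
  have hcm : (P.map (Ideal.Quotient.mk H)).comap (Ideal.Quotient.mk H) = P := by
    rw [Ideal.comap_map_of_surjective _ Ideal.Quotient.mk_surjective, ← RingHom.ker_eq_comap_bot, Ideal.mk_ker,
      sup_eq_left.2 hHP]
  haveI : (P.map (Ideal.Quotient.mk H)).IsMaximal := by
    refine (Ideal.map_eq_top_or_isMaximal_of_surjective _ Ideal.Quotient.mk_surjective (I := P) ‹_›).resolve_left
      fun h => ?_
    rw [h, Ideal.comap_top] at hcm
    exact (Ideal.IsMaximal.ne_top ‹_›) hcm.symm
  refine ⟨‹_›, ringKrullDim_eq_height_of_minimalPrimes_le (K := K) _ fun q hq => ?_⟩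
  haveI : q.IsPrime := hq.1.1
  have hc : q.comap (Ideal.Quotient.mk H) ∈ H.minimalPrimes := by
    have := Ideal.minimalPrimes_eq_comap (I := H)
    rw [this]
    exact ⟨q, hq, rfl⟩
  have := Ideal.map_mono (f := Ideal.Quotient.mk H) (minimalPrimes_le_irrelevant 𝒜 h0 hH hc)
  rwa [Ideal.map_comap_of_surjective _ Ideal.Quotient.mk_surjective] at this

include h0 in
/-- Elements off the irrelevant ideal are regular modulo a homogeneous ideal. -/
lemma mem_of_mul_mem {H : Ideal A} (hH : H.IsHomogeneous 𝒜) {g f : A}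
    (hg : g ∉ (HomogeneousIdeal.irrelevant 𝒜).toIdeal) (h : g * f ∈ H) : f ∈ H := by
  classical
  obtain ⟨c, hc⟩ := h0 _ (DirectSum.decompose 𝒜 g 0).2
  have hu : IsUnit (DirectSum.decompose 𝒜 g 0 : A) := by
    rw [← hc]
    exact (isUnit_iff_ne_zero.2 fun h => hg (by
      change (DirectSum.decompose 𝒜 g 0 : A) = 0
      rw [← hc, h, map_zero])).map _
  rw [← DirectSum.sum_support_decompose 𝒜 f]
  suffices key : ∀ k, (DirectSum.decompose 𝒜 f k : A) ∈ H from sum_mem fun k _ => key k
  intro k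
  induction k using Nat.strong_induction_on with
  | _ k ih =>
    have hk := hH k h
    rw [DirectSum.decompose_mul, DirectSum.coe_mul_apply_eq_sum_antidiagonal,
      ← Finset.add_sum_erase _ _ (show (0, k) ∈ Finset.antidiagonal k by simp [Finset.mem_antidiagonal])] at hk
    have hrest : ∑ x ∈ (Finset.antidiagonal k).erase (0, k),
        (DirectSum.decompose 𝒜 g x.1 : A) * (DirectSum.decompose 𝒜 f x.2 : A) ∈ H := by
      refine sum_mem fun x hx => H.mul_mem_left _ (ih x.2 ?_)
      rw [Finset.mem_erase, Finset.mem_antidiagonal] at hx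
      by_contra hlt
      exact hx.1 (Prod.ext (by simp only; omega) (by simp only; omega))
    exact (Ideal.unit_mul_mem_iff_mem H hu).1 ((Ideal.add_mem_iff_left H hrest).1 hk)

/-- The local ring of a quotient, as a module. -/
lemma depth_locQuot_eq [IsNoetherianRing A] (H : Ideal A) (q : Ideal (A ⧸ H)) [q.IsPrime] (m : Ideal A) [m.IsPrime]
    (h : q.comap (Ideal.Quotient.mk H) = m) :
    LocCoh.depth (Localization.AtPrime m) (Localization.AtPrime m ⧸ H.map (algebraMap A (Localization.AtPrime m))) =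
      LocCoh.depth (Localization.AtPrime q) (Localization.AtPrime q) := by
  subst h
  obtain ⟨e, -⟩ := CAlgH3.exists_quotientLocalEquiv H q
  haveI := e.symm.isLocalRing
  rw [← CAlgH3.depth_quotient_ring]
  exact CAlgH3.depth_ringEquiv e

end Groth.Agent.W4Gr15
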