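import Groth.Agent.W4Gr15.GradedVertex
import Mathlib.RingTheory.MvPolynomial.Homogeneous
import Mathlib.RingTheory.Nullstellensatz
import Mathlib.Algebra.Module.Submodule.Union
import Mathlib.RingTheory.Ideal.AssociatedPrime.Finiteness

/-!
# A cone is Cohen–Macaulay iff it is so at its vertex

Depth at any closed point is bounded below by depth at the vertex: cut by a linear form through the point.
-/

universe u

open MvPolynomial IsLocalRing
open scoped Pointwise

attribute [local instance] MvPolynomial.gradedAlgebra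

namespace Groth.Agent.W4Gr15

variable {K : Type u} [Field K] {N : ℕ}

variable (K N) in
/-- The vertex. -/
noncomputable abbrev coneVtx : Ideal (MvPolynomial (Fin N) K) :=
  (HomogeneousIdeal.irrelevant (homogeneousSubmodule (Fin N) K)).toIdeal

lemma cone_degZero : ∀ a ∈ homogeneousSubmodule (Fin N) K 0, ∃ c : K, algebraMap K (MvPolynomial (Fin N) K) c = a := by
  intro a ha
  refine ⟨coeff 0 a, ?_⟩
  rw [MvPolynomial.algebraMap_eq, ← homogeneousComponent_zero, homogeneousComponent_of_mem ha, if_pos rfl]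

lemma coneVtx_eq : coneVtx K N = RingHom.ker (MvPolynomial.constantCoeff : MvPolynomial (Fin N) K →+* K) := by
  ext f
  change (DirectSum.decompose (homogeneousSubmodule (Fin N) K) f 0 : MvPolynomial (Fin N) K) = 0 ↔ _
  rw [show (DirectSum.decompose (homogeneousSubmodule (Fin N) K) f 0 : MvPolynomial (Fin N) K) =
    homogeneousComponent 0 f from decomposition.decompose'_apply f 0, homogeneousComponent_zero, RingHom.mem_ker,
    C_eq_zero, constantCoeff_eq]

instance : (coneVtx K N).IsMaximal := irrelevant_isMaximal _ cone_degZero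

/-- `(S/I)_n`. -/
abbrev locCone (I n : Ideal (MvPolynomial (Fin N) K)) [n.IsPrime] : Type u :=
  Localization.AtPrime n ⧸ I.map (algebraMap (MvPolynomial (Fin N) K) (Localization.AtPrime n))

lemma locCone_subsingleton {I n : Ideal (MvPolynomial (Fin N) K)} [n.IsPrime] (h : ¬ I ≤ n) :
    Subsingleton (locCone I n) := by
  refine Ideal.Quotient.subsingleton_iff.2 ?_
  by_contra hne
  refine h fun a ha => ?_
  have := IsLocalRing.le_maximalIdeal hne (Ideal.mem_map_of_mem _ ha)
  rwa [← IsLocalization.AtPrime.to_map_mem_maximal_iff (Localization.AtPrime n) n]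

lemma isSMulRegular_locCone {I n : Ideal (MvPolynomial (Fin N) K)} [n.IsPrime] {x : MvPolynomial (Fin N) K}
    (hx : ∀ g, x * g ∈ I → g ∈ I) :
    IsSMulRegular (locCone I n) (algebraMap (MvPolynomial (Fin N) K) (Localization.AtPrime n) x) := by
  intro a b hab
  obtain ⟨a, rfl⟩ := Ideal.Quotient.mk_surjective a
  obtain ⟨b, rfl⟩ := Ideal.Quotient.mk_surjective b
  rw [Ideal.Quotient.mk_eq_mk_iff_sub_mem]
  obtain ⟨g, s, hgs⟩ := IsLocalization.exists_mk'_eq n.primeCompl (a - b)
  have h : algebraMap _ (Localization.AtPrime n) x * (a - b) ∈ I.map (algebraMap _ (Localization.AtPrime n)) := by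
    rw [mul_sub, ← Ideal.Quotient.mk_eq_mk_iff_sub_mem]
    exact hab
  rw [← hgs, IsLocalization.mul_mk'_eq_mk'_of_mul, IsLocalization.mk'_mem_map_algebraMap_iff] at h
  rw [← hgs, IsLocalization.mk'_mem_map_algebraMap_iff]
  obtain ⟨t, ht, htg⟩ := h
  exact ⟨t, ht, hx _ (by rwa [mul_left_comm] at htg)⟩

/-- Reduction by a regular element. -/
lemma depth_locCone_step {I n : Ideal (MvPolynomial (Fin N) K)} [n.IsPrime] {x : MvPolynomial (Fin N) K}
    (hxn : x ∈ n) (hx : ∀ g, x * g ∈ I → g ∈ I) :
    LocCoh.depth (Localization.AtPrime n) (locCone (I ⊔ Ideal.span {x}) n) + 1 =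
      LocCoh.depth (Localization.AtPrime n) (locCone I n) := by
  set A := Localization.AtPrime n
  set y := algebraMap (MvPolynomial (Fin N) K) A x
  have hym : y ∈ maximalIdeal A := (IsLocalization.AtPrime.to_map_mem_maximal_iff A n _).2 hxn
  rw [← CAlgH3.depth_quotSMulTop_add_one hym (isSMulRegular_locCone hx)]
  congr 1
  refine (CAlgH3.depth_congr ?_).symm
  set J := I.map (algebraMap (MvPolynomial (Fin N) K) A)
  have hmap : (I ⊔ Ideal.span {x}).map (algebraMap (MvPolynomial (Fin N) K) A) = J ⊔ Ideal.span {y} := by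
    rw [Ideal.map_sup, Ideal.map_span, Set.image_singleton]
  let e2 : (A ⧸ (J ⊔ Ideal.span {y})) ≃ₗ[A] locCone (I ⊔ Ideal.span {x}) n := Submodule.quotEquivOfEq _ _ hmap.symm
  suffices hEq : (y • ⊤ : Submodule A (A ⧸ J)) = Submodule.map J.mkQ (J ⊔ Ideal.span {y}) from
    ((Submodule.quotEquivOfEq _ _ hEq).trans (Submodule.quotientQuotientEquivQuotient J (J ⊔ Ideal.span {y}) le_sup_left)).trans e2
  rw [Submodule.map_sup, Submodule.mkQ_map_self, bot_sup_eq, ← Submodule.ideal_span_singleton_smul]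
  apply le_antisymm
  · refine Submodule.smul_le.2 fun r hr z _ => ?_
    obtain ⟨z, rfl⟩ := Submodule.mkQ_surjective _ z
    rw [← map_smul]
    exact Submodule.mem_map_of_mem (by rw [smul_eq_mul]; exact Ideal.mul_mem_right _ _ hr)
  · rintro _ ⟨r, hr, rfl⟩
    rw [show r = r • (1 : A) by rw [smul_eq_mul, mul_one], map_smul]
    exact Submodule.smul_mem_smul hr Submodule.mem_top

variable {I : Ideal (MvPolynomial (Fin N) K)}

lemma regular_of_notMem_ass {x : MvPolynomial (Fin N) K}
    (h : ∀ q ∈ associatedPrimes (MvPolynomial (Fin N) K) (MvPolynomial (Fin N) K ⧸ I), x ∉ q) :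
    ∀ g, x * g ∈ I → g ∈ I := by
  intro g hg
  by_contra hgI
  have hx : x ∈ {r : MvPolynomial (Fin N) K | ∃ z : MvPolynomial (Fin N) K ⧸ I, z ≠ 0 ∧ r • z = 0} :=
    ⟨Ideal.Quotient.mk I g, fun h => hgI (Ideal.Quotient.eq_zero_iff_mem.1 h), Ideal.Quotient.eq_zero_iff_mem.2 hg⟩
  rw [← biUnion_associatedPrimes_eq_zero_divisors] at hx
  obtain ⟨q, hq, hxq⟩ := Set.mem_iUnion₂.1 hx
  exact h q hq hxq

lemma ass_le_vtx (hI : I.IsHomogeneous (homogeneousSubmodule (Fin N) K)) {q : Ideal (MvPolynomial (Fin N) K)}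
    (hq : q ∈ associatedPrimes (MvPolynomial (Fin N) K) (MvPolynomial (Fin N) K ⧸ I)) : q ≤ coneVtx K N := by
  obtain ⟨hqp, z, hz⟩ := isAssociatedPrime_iff.1 hq
  obtain ⟨f, rfl⟩ := Ideal.Quotient.mk_surjective z
  intro g hg
  by_contra hgv
  rw [hz, Submodule.mem_colon_singleton, Submodule.mem_bot] at hg
  refine hqp.ne_top ?_
  rw [hz, eq_top_iff]
  intro r _
  rw [Submodule.mem_colon_singleton, Submodule.mem_bot,
    Ideal.Quotient.eq_zero_iff_mem.2 (mem_of_mul_mem _ cone_degZero hI hgv (Ideal.Quotient.eq_zero_iff_mem.1 hg)),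
    smul_zero]

lemma map_ass_mem (hI : I.IsHomogeneous (homogeneousSubmodule (Fin N) K)) {q : Ideal (MvPolynomial (Fin N) K)}
    (hq : q ∈ associatedPrimes (MvPolynomial (Fin N) K) (MvPolynomial (Fin N) K ⧸ I)) :
    q.map (algebraMap _ (Localization.AtPrime (coneVtx K N))) ∈
      associatedPrimes (Localization.AtPrime (coneVtx K N)) (locCone I (coneVtx K N)) := by
  have hle := ass_le_vtx hI hq
  obtain ⟨hqp, z, hz⟩ := isAssociatedPrime_iff.1 hq
  obtain ⟨f, rfl⟩ := Ideal.Quotient.mk_surjective z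
  have hmem : ∀ g, g ∈ q ↔ g * f ∈ I := fun g => by
    rw [hz, Submodule.mem_colon_singleton, Submodule.mem_bot]
    exact Ideal.Quotient.eq_zero_iff_mem
  set L := Localization.AtPrime (coneVtx K N)
  refine isAssociatedPrime_iff.2 ⟨IsLocalization.isPrime_of_isPrime_disjoint (coneVtx K N).primeCompl L q hqp
    (Set.disjoint_compl_left_iff_subset.2 hle), Ideal.Quotient.mk _ (algebraMap _ L f), ?_⟩
  ext w
  obtain ⟨g, s, rfl⟩ := IsLocalization.exists_mk'_eq (coneVtx K N).primeCompl w
  rw [Submodule.mem_colon_singleton, Submodule.mem_bot, IsLocalization.mk'_mem_map_algebraMap_iff]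
  change _ ↔ Ideal.Quotient.mk _ (IsLocalization.mk' L g s * algebraMap _ L f) = 0
  rw [Ideal.Quotient.eq_zero_iff_mem, mul_comm, IsLocalization.mul_mk'_eq_mk'_of_mul,
    IsLocalization.mk'_mem_map_algebraMap_iff]
  constructor
  · rintro ⟨t, ht, htg⟩
    exact ⟨t, ht, by rw [mul_left_comm, mul_comm]; exact (hmem _).1 htg⟩
  · rintro ⟨t, ht, htg⟩
    exact ⟨t, ht, (hmem _).2 (by rw [mul_comm, ← mul_left_comm]; exact htg)⟩

/-- A prime below the vertex containing the linear forms vanishing at a point `a ≠ 0` is the vertex or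
one-dimensional. -/
lemma eq_vtx_or_dim_le_one {q : Ideal (MvPolynomial (Fin N) K)} [q.IsPrime] (hle : q ≤ coneVtx K N)
    {a : Fin N → K} {j : Fin N} (hj : a j ≠ 0) (h : ∀ i, X i - C (a i / a j) * X j ∈ q) :
    q = coneVtx K N ∨ ringKrullDim (MvPolynomial (Fin N) K ⧸ q) ≤ 1 := by
  let ψ : Polynomial K →ₐ[K] MvPolynomial (Fin N) K ⧸ q := Polynomial.aeval (Ideal.Quotient.mk q (X j))
  have hψ : Function.Surjective ψ := by
    intro z
    obtain ⟨f, rfl⟩ := Ideal.Quotient.mk_surjective z
    induction f using MvPolynomial.induction_on with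
    | C c => exact ⟨Polynomial.C c, Polynomial.aeval_C _ c⟩
    | add p r hp hr =>
      obtain ⟨p', hp'⟩ := hp
      obtain ⟨r', hr'⟩ := hr
      exact ⟨p' + r', by rw [map_add, hp', hr', map_add]⟩
    | mul_X p i hp =>
      obtain ⟨p', hp'⟩ := hp
      refine ⟨p' * (Polynomial.C (a i / a j) * Polynomial.X), ?_⟩
      rw [map_mul, map_mul, hp', map_mul, Polynomial.aeval_C, Polynomial.aeval_X]
      congr 1
      rw [Ideal.Quotient.mk_eq_mk_iff_sub_mem (X i) (C (a i / a j) * X j) |>.2 (h i), map_mul]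
      rfl
  rcases eq_or_ne (RingHom.ker ψ) ⊥ with hker | hker
  · refine Or.inr ((ringKrullDim_eq_of_ringEquiv (RingEquiv.ofBijective ψ
      ⟨(RingHom.injective_iff_ker_eq_bot _).2 hker, hψ⟩)).symm.le.trans ?_)
    rw [Polynomial.ringKrullDim_of_isNoetherianRing, ringKrullDim_eq_zero_of_field, zero_add]
  · haveI : (RingHom.ker ψ).IsPrime := RingHom.ker_isPrime _
    haveI : (RingHom.ker ψ).IsMaximal := IsPrime.to_maximal_ideal hker
    have hfld : IsField (MvPolynomial (Fin N) K ⧸ q) :=
      (RingHom.quotientKerEquivOfSurjective hψ).symm.toMulEquiv.isField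
        ((Ideal.Quotient.maximal_ideal_iff_isField_quotient _).1 ‹_›)
    exact Or.inl (((Ideal.Quotient.maximal_ideal_iff_isField_quotient q).2 hfld).eq_of_le
      (Ideal.IsMaximal.ne_top (inferInstanceAs (coneVtx K N).IsMaximal)) hle)

variable [IsAlgClosed K]

theorem depth_locCone_ge : ∀ (e : ℕ) (I : Ideal (MvPolynomial (Fin N) K)),
    I.IsHomogeneous (homogeneousSubmodule (Fin N) K) →
    (e : ℕ∞) ≤ LocCoh.depth (Localization.AtPrime (coneVtx K N)) (locCone I (coneVtx K N)) →
    ∀ (n : Ideal (MvPolynomial (Fin N) K)) [n.IsMaximal],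
      (e : ℕ∞) ≤ LocCoh.depth (Localization.AtPrime n) (locCone I n) := by
  classical
  intro e
  induction e with
  | zero => intro I _ _ n _; simp
  | succ e ih =>
    intro I hI hv n _
    by_cases hIn : I ≤ n
    swap
    · haveI := locCone_subsingleton hIn
      rw [CAlgH3.depth_eq_top_of_subsingleton]
      exact le_top
    by_cases hnv : n = coneVtx K N
    · subst hnv; exact hv
    have hI' : I ≠ ⊤ := fun h => (Ideal.IsMaximal.ne_top ‹_›) (eq_top_iff.2 (h ▸ hIn))
    have hfin := associatedPrimes.finite (MvPolynomial (Fin N) K) (MvPolynomial (Fin N) K ⧸ I)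
    have hnot : ∀ q ∈ associatedPrimes (MvPolynomial (Fin N) K) (MvPolynomial (Fin N) K ⧸ I), ¬ n ≤ q :=
      fun q hq hle => hnv ((‹n.IsMaximal›).eq_of_le (Ideal.IsMaximal.ne_top (inferInstanceAs (coneVtx K N).IsMaximal))
        (hle.trans (ass_le_vtx hI hq)))
    rcases Nat.eq_zero_or_pos e with rfl | he
    · obtain ⟨x, hxn, hx⟩ : ∃ x ∈ n, ∀ q ∈ hfin.toFinset, x ∉ (q : Ideal _) := by
        by_contra hcon
        push_neg at hcon
        have hsub : (n : Set (MvPolynomial (Fin N) K)) ⊆ ⋃ q ∈ (hfin.toFinset : Set (Ideal (MvPolynomial (Fin N) K))), (id q : Ideal _) := fun x hx => by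
          obtain ⟨q, hq, hxq⟩ := hcon x hx
          exact Set.mem_biUnion hq hxq
        obtain ⟨q, hq, hle⟩ := (Ideal.subset_union_prime ⊥ ⊥ (fun q hq _ _ =>
          IsAssociatedPrime.isPrime (hfin.mem_toFinset.1 hq))).1 hsub
        exact hnot q (hfin.mem_toFinset.1 hq) hle
      have hreg := regular_of_notMem_ass (I := I) fun q hq => hx q (hfin.mem_toFinset.2 hq)
      rw [← depth_locCone_step hxn hreg, zero_add, Nat.cast_one]
      exact le_add_self
    obtain ⟨a, ha⟩ := (MvPolynomial.isMaximal_iff_eq_vanishingIdeal_singleton (K := K)).1 ‹n.IsMaximal›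
    obtain ⟨j, hj⟩ : ∃ j, a j ≠ 0 := by
      by_contra h0
      push_neg at h0
      refine hnv ((‹n.IsMaximal›).eq_of_le (Ideal.IsMaximal.ne_top (inferInstanceAs (coneVtx K N).IsMaximal)) ?_)
      intro f hf
      rw [ha, mem_vanishingIdeal_singleton_iff] at hf
      rw [coneVtx_eq, RingHom.mem_ker]
      rw [show a = 0 from funext h0] at hf
      simpa using hf
    let φ : (Fin N → K) →ₗ[K] MvPolynomial (Fin N) K :=
      ∑ i, (LinearMap.proj i).smulRight (X i - C (a i / a j) * X j)
    haveI : Finite {q // q ∈ hfin.toFinset} := inferInstance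
    have hne : ∀ q : {q // q ∈ hfin.toFinset}, (q.1.restrictScalars K).comap φ ≠ ⊤ := by
      rintro ⟨q, hq⟩ htop
      have hq' := hfin.mem_toFinset.1 hq
      haveI := IsAssociatedPrime.isPrime hq'
      have hgen : ∀ i, X i - C (a i / a j) * X j ∈ q := fun i => by
        have : Pi.single i (1 : K) ∈ (q.restrictScalars K).comap φ := by rw [htop]; trivial
        simpa [φ, Pi.single_apply] using this
      have hdep := CAlgH3.depth_le_ringKrullDim_quotient (map_ass_mem hI hq')
      set L := Localization.AtPrime (coneVtx K N)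
      have hdim : ringKrullDim (L ⧸ q.map (algebraMap _ L)) ≤ 1 := by
        rcases eq_vtx_or_dim_le_one (ass_le_vtx hI hq') hj hgen with rfl | hd
        · rw [Localization.AtPrime.map_eq_maximalIdeal]
          haveI : (maximalIdeal L).IsMaximal := IsLocalRing.maximalIdeal.isMaximal L
          letI := Ideal.Quotient.field (maximalIdeal L)
          rw [ringKrullDim_eq_zero_of_field]
          exact zero_le_one
        · have hle := ass_le_vtx hI hq'
          haveI hqm : ((coneVtx K N).map (Ideal.Quotient.mk q)).IsPrime :=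
            Ideal.map_isPrime_of_surjective Ideal.Quotient.mk_surjective (by rw [Ideal.mk_ker]; exact hle)
          obtain ⟨ε, -⟩ := CAlgH3.exists_quotientLocalEquiv q ((coneVtx K N).map (Ideal.Quotient.mk q))
          have hc : ((coneVtx K N).map (Ideal.Quotient.mk q)).comap (Ideal.Quotient.mk q) = coneVtx K N := by
            rw [Ideal.comap_map_of_surjective _ Ideal.Quotient.mk_surjective, ← RingHom.ker_eq_comap_bot,
              Ideal.mk_ker, sup_eq_left.2 hle]
          have key : ∀ (p : Ideal (MvPolynomial (Fin N) K)) [p.IsPrime]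
              (_ : ((coneVtx K N).map (Ideal.Quotient.mk q)).comap (Ideal.Quotient.mk q) = p),
              ringKrullDim (Localization.AtPrime p ⧸ q.map (algebraMap _ (Localization.AtPrime p))) ≤ 1 := by
            intro p _ hp
            subst hp
            rw [ringKrullDim_eq_of_ringEquiv ε, IsLocalization.AtPrime.ringKrullDim_eq_height
              ((coneVtx K N).map (Ideal.Quotient.mk q))]
            exact (Ideal.height_le_ringKrullDim_of_ne_top hqm.ne_top).trans hd
          exact key _ hc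
      have h2 : ((2 : ℕ) : WithBot ℕ∞) ≤ ((1 : ℕ) : WithBot ℕ∞) := by
        refine le_trans ?_ ((hdep.trans hdim).trans Nat.cast_one.ge)
        exact WithBot.coe_le_coe.2 ((show ((2 : ℕ) : ℕ∞) ≤ ((e + 1 : ℕ) : ℕ∞) by exact_mod_cast (by omega : 2 ≤ e + 1)).trans hv)
      have := Nat.cast_le.1 h2
      omega
    obtain ⟨c, hc⟩ := Submodule.exists_forall_notMem_of_forall_ne_top _ hne
    have hreg := regular_of_notMem_ass (I := I) (x := φ c) fun q hq h => hc ⟨q, hfin.mem_toFinset.2 hq⟩ h
    have hlin : ∀ i, (X i - C (a i / a j) * X j).IsHomogeneous 1 := fun i =>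
      (isHomogeneous_X K i).sub (isHomogeneous_C_mul_X _ _)
    have hφ : φ c ∈ homogeneousSubmodule (Fin N) K 1 := by
      simp only [φ, LinearMap.sum_apply, LinearMap.smulRight_apply]
      exact sum_mem fun i _ => Submodule.smul_mem _ _ (hlin i)
    have hxn : φ c ∈ n := by
      simp only [φ, LinearMap.sum_apply, LinearMap.smulRight_apply]
      refine sum_mem fun i _ => Submodule.smul_of_tower_mem _ _ ?_
      rw [ha, mem_vanishingIdeal_singleton_iff]
      simp [div_mul_cancel₀ _ hj]
    have hxv : φ c ∈ coneVtx K N := ProjLib.mem_irrelevant_of_pos _ one_pos hφ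
    have hI'' : (I ⊔ Ideal.span {φ c}).IsHomogeneous (homogeneousSubmodule (Fin N) K) :=
      hI.sup (Ideal.homogeneous_span _ _ fun z hz => by rw [Set.mem_singleton_iff.1 hz]; exact ⟨1, hφ⟩)
    have hv' : (e : ℕ∞) ≤ LocCoh.depth (Localization.AtPrime (coneVtx K N))
        (locCone (I ⊔ Ideal.span {φ c}) (coneVtx K N)) := by
      rw [← depth_locCone_step hxv hreg, Nat.cast_succ] at hv
      exact (WithTop.add_le_add_iff_right ENat.one_ne_top).1 hv
    rw [← depth_locCone_step hxn hreg, Nat.cast_succ]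
    exact add_le_add (ih _ hI'' hv' n) le_rfl

theorem cone_cm {I : Ideal (MvPolynomial (Fin N) K)} (hI : I.IsHomogeneous (homogeneousSubmodule (Fin N) K))
    (hI' : I ≠ ⊤) [hm : ((coneVtx K N).map (Ideal.Quotient.mk I)).IsPrime] :
    LocCoh.IsCohenMacaulayRing (MvPolynomial (Fin N) K ⧸ I) ↔
      LocCoh.IsCohenMacaulayLocalRing (Localization.AtPrime ((coneVtx K N).map (Ideal.Quotient.mk I))) := by
  refine ⟨fun h => h.isCohenMacaulayLocalRing_localization _, fun h => ?_⟩
  set v := (coneVtx K N).map (Ideal.Quotient.mk I)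
  obtain ⟨-, hd⟩ := ringKrullDim_quotient_eq_height _ cone_degZero hI hI'
  have hv := (CAlgH3.isCohenMacaulayLocalRing_iff_depth (Localization.AtPrime v)).1 h
  rw [IsLocalization.AtPrime.ringKrullDim_eq_height v (Localization.AtPrime v), ← hd] at hv
  have hc : v.comap (Ideal.Quotient.mk I) = coneVtx K N := by
    rw [Ideal.comap_map_of_surjective _ Ideal.Quotient.mk_surjective, ← RingHom.ker_eq_comap_bot, Ideal.mk_ker,
      sup_eq_left.2 (homogeneous_le_irrelevant _ cone_degZero hI hI')]
  rw [← depth_locQuot_eq I v _ hc] at hv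
  refine CAlgH3.isCohenMacaulayRing_of_isMaximal fun q _ => ?_
  haveI : (q.comap (Ideal.Quotient.mk I)).IsMaximal :=
    Ideal.comap_isMaximal_of_surjective _ Ideal.Quotient.mk_surjective
  rw [CAlgH3.isCohenMacaulayLocalRing_iff_depth]
  apply le_antisymm
  · rw [IsLocalization.AtPrime.ringKrullDim_eq_height q (Localization.AtPrime q)]
    refine (Ideal.height_le_ringKrullDim_of_ne_top (Ideal.IsMaximal.ne_top ‹_›)).trans (hv.le.trans ?_)
    rw [← depth_locQuot_eq I q _ rfl]
    refine WithBot.coe_le_coe.2 (ENat.forall_natCast_le_iff_le.1 fun k hk => ?_)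
    exact depth_locCone_ge k I hI hk _
  · have := CAlgH3.depth_le_supportDim (R := Localization.AtPrime q) (M := Localization.AtPrime q)
    rwa [Module.supportDim_self_eq_ringKrullDim] at this

end Groth.Agent.W4Gr15
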