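import Groth.Agent.W4Gr15.Chart
import Mathlib.LinearAlgebra.Matrix.SchurComplement
import Mathlib.LinearAlgebra.Matrix.NonsingularInverse
import Mathlib.LinearAlgebra.Dual.Lemmas
import Mathlib.LinearAlgebra.Matrix.ToLin
import Mathlib.LinearAlgebra.Matrix.SpecialLinearGroup
import Mathlib.Algebra.Polynomial.Roots
import Mathlib.Tactic.FieldSimp

/-!
# Points of the Grassmannian
-/

universe u

open MvPolynomial W4bk4grassmannian

namespace Groth.Agent.W4Gr15

variable {d n : ℕ} {K : Type u} [Field K]

lemma exists_minor_ne_zero {A : Matrix (Fin n) (Fin d) K} (hA : LinearIndependent K A.transpose) :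
    ∃ θ : Idx d n, (A.submatrix θ.1 id).det ≠ 0 := by
  classical
  obtain ⟨κ, a, ha, hsp, hli⟩ := exists_linearIndependent' K (fun i => A i)
  have htop : Submodule.span K (Set.range fun i => A i) = ⊤ :=
    (span_flip_eq_top_iff_linearIndependent (f := fun t i => A i t)).2 hA
  haveI : Fintype κ := Fintype.ofInjective a ha
  have b := Module.Basis.mk hli (by rw [hsp, htop])
  have hcard : Fintype.card κ = d := by
    rw [← Module.finrank_eq_card_basis b, Module.finrank_pi, Fintype.card_fin]
  let e : Fin d ≃ κ := (Fintype.equivFinOfCardEq hcard).symm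
  have hu : (Matrix.of fun s t => A (a (e s)) t).det ≠ 0 :=
    ((Matrix.isUnit_iff_isUnit_det _).1
      (Matrix.linearIndependent_rows_iff_isUnit.1 (hli.comp e e.injective))).ne_zero
  have hdet := det_rows_eq (fun i t => A i t) (a ∘ e)
  simp only [Function.comp_apply] at hdet
  rw [hdet] at hu
  split_ifs at hu with h
  · exact ⟨_, (mul_ne_zero_iff.1 hu).2⟩
  · exact absurd rfl hu

/-- Proportional Plücker coordinates give the same column space. -/
theorem span_le_of_minors (A A' : Matrix (Fin n) (Fin d) K)
    (hA : LinearIndependent K A.transpose) (c : K)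
    (h : ∀ θ : Idx d n, (A.submatrix θ.1 id).det = c * (A'.submatrix θ.1 id).det) :
    Submodule.span K (Set.range A.transpose) ≤ Submodule.span K (Set.range A'.transpose) := by
  classical
  obtain ⟨w, hw⟩ := exists_minor_ne_zero hA
  have hrow : ∀ a : Fin d → Fin n,
      rowDet (fun i t => A i t) a = c * rowDet (fun i t => A' i t) a := by
    intro a
    simp only [rowDet, det_rows_eq (fun i t => A i t) a, det_rows_eq (fun i t => A' i t) a]
    split_ifs with ha
    · rw [show (Matrix.of fun s t => A ((sortIdx d n a ha).1 s) t).det = _ from h (sortIdx d n a ha)]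
      exact mul_left_comm _ _ _
    · rw [mul_zero]
  set U := A.submatrix w.1 id
  set U' := A'.submatrix w.1 id
  have key : A * U.adjugate = c • (A' * U'.adjugate) := by
    ext i t
    have := hrow (Function.update w.1 t i)
    rw [rowDet_update_eq_sum, rowDet_update_eq_sum] at this
    rw [Matrix.mul_apply, Matrix.smul_apply, Matrix.mul_apply, smul_eq_mul]
    exact this
  have hA' : A = A' * ((c * U.det⁻¹) • (U'.adjugate * U)) := by
    calc A = U.det⁻¹ • (A * U.adjugate * U) := by
          rw [Matrix.mul_assoc, Matrix.adjugate_mul, Matrix.mul_smul, Matrix.mul_one,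
            inv_smul_smul₀ hw]
      _ = _ := by
          rw [key, Matrix.smul_mul, smul_smul, Matrix.mul_smul, Matrix.mul_assoc, mul_comm]
  rw [Submodule.span_le]
  rintro _ ⟨t, rfl⟩
  rw [show A.transpose t = ∑ k, ((c * U.det⁻¹) • (U'.adjugate * U)) k t • A'.transpose k by
    funext i
    conv_lhs => rw [hA']
    simp only [Matrix.mul_apply, Matrix.smul_apply, smul_eq_mul, Matrix.transpose_apply,
      Finset.sum_apply, Pi.smul_apply]
    exact Finset.sum_congr rfl fun _ _ => mul_comm _ _]
  exact Submodule.sum_mem _ fun k _ => Submodule.smul_mem _ _ (Submodule.subset_span ⟨k, rfl⟩)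

/-- Semistable means of full rank. -/
theorem semistable_iff [Infinite K] (hd : 0 < d) (A : Matrix (Fin n) (Fin d) K) :
    LinearIndependent K A.transpose ↔
      ∃ f : MatRing K d n, (∀ g : Matrix.SpecialLinearGroup (Fin d) K,
        MvPolynomial.eval (fun p : Fin n × Fin d => (A * (g : Matrix (Fin d) (Fin d) K)) p.1 p.2) f = 0) ∧
        MvPolynomial.eval (fun _ : Fin n × Fin d => (0 : K)) f ≠ 0 := by
  classical
  constructor
  · intro hA
    obtain ⟨θ, hθ⟩ := exists_minor_ne_zero hA
    refine ⟨minor K d n θ.1 - C (A.submatrix θ.1 id).det, fun g => ?_, ?_⟩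
    · rw [map_sub, eval_C, minor, RingHom.map_det, sub_eq_zero]
      have : (MvPolynomial.eval fun p : Fin n × Fin d => (A * (g : Matrix (Fin d) (Fin d) K)) p.1 p.2).mapMatrix
          (Matrix.of fun s t => (X (θ.1 s, t) : MatRing K d n)) =
          A.submatrix θ.1 id * (g : Matrix (Fin d) (Fin d) K) := by
        ext s t; simp [Matrix.mul_apply]
      rw [this, Matrix.det_mul, g.2, mul_one]
    · rw [map_sub, eval_C, minor, RingHom.map_det]
      haveI : Nonempty (Fin d) := ⟨⟨0, hd⟩⟩
      have : (MvPolynomial.eval fun _ : Fin n × Fin d => (0 : K)).mapMatrix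
          (Matrix.of fun s t => (X (θ.1 s, t) : MatRing K d n)) = 0 := by
        ext s t; simp
      rw [this, Matrix.det_zero, zero_sub, neg_ne_zero]
      exact hθ
  · rintro ⟨f, hf, hf0⟩
    by_contra hA
    obtain ⟨v, hv, i₀, hi₀⟩ := Fintype.not_linearIndependent_iff.1 hA
    have hAv : A.mulVec v = 0 := by
      funext i
      have := congrFun hv i
      simpa [Matrix.mulVec, dotProduct, mul_comm] using this
    let φ : Fin d → K := Pi.single i₀ (v i₀)⁻¹
    have horb : ∀ s : K, s ≠ 0 →
        MvPolynomial.eval (fun p : Fin n × Fin d => s * A p.1 p.2) f = 0 := by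
      intro s hs
      let G : Matrix (Fin d) (Fin d) K := s • (1 + Matrix.replicateCol Unit (((s ^ d)⁻¹ - 1) • v) *
        Matrix.replicateRow Unit φ)
      have hdet : G.det = 1 := by
        rw [Matrix.det_smul, Matrix.det_one_add_replicateCol_mul_replicateRow, Fintype.card_fin,
          dotProduct_smul, single_dotProduct, inv_mul_cancel₀ hi₀, smul_eq_mul, mul_one,
          add_sub_cancel, mul_inv_cancel₀ (pow_ne_zero _ hs)]
      have := hf ⟨G, hdet⟩
      have hAG : A * G = s • A := by
        rw [Matrix.mul_smul, Matrix.mul_add, Matrix.mul_one, ← Matrix.mul_assoc,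
          ← Matrix.replicateCol_mulVec, Matrix.mulVec_smul, hAv, smul_zero]
        simp [Matrix.replicateCol_zero]
      simp only [hAG] at this
      simpa using this
    let p : Polynomial K := MvPolynomial.aeval
      (fun q : Fin n × Fin d => Polynomial.C (A q.1 q.2) * Polynomial.X) f
    have hp : ∀ s : K, p.eval s = MvPolynomial.eval (fun q : Fin n × Fin d => s * A q.1 q.2) f := by
      intro s
      simp only [p]
      clear hf hf0 horb p
      induction f using MvPolynomial.induction_on with
      | C c => simp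
      | add f g hf hg => simp only [map_add, Polynomial.eval_add, hf, hg]
      | mul_X f q hf =>
        simp only [map_mul, Polynomial.eval_mul, hf, aeval_X, eval_X, Polynomial.eval_C, Polynomial.eval_X]
        ring
    have hp0 : p = 0 := by
      refine Polynomial.eq_zero_of_infinite_isRoot p (Set.Infinite.mono (s := {(0 : K)}ᶜ) (fun s hs => ?_)
        (Set.finite_singleton _).infinite_compl)
      exact (hp s).trans (horb s hs)
    refine hf0 ?_
    have := hp 0
    rw [hp0, Polynomial.eval_zero] at this
    simpa using this.symm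

section quadrics

variable {e : ℕ}

lemma sum_quadric_minors (M : Fin n → Fin (e + 1) → K) (a : Fin e → Fin n) (v : Fin (e + 2) → Fin n) :
    ∑ h : Fin (e + 2), (-1) ^ (h.val + 1) * rowDet M (Fin.snoc a (v h)) *
      rowDet M (v ∘ h.succAbove) = 0 := by
  have hz : ∀ b : Fin (e + 1),
      ∑ h : Fin (e + 2), (-1) ^ h.val * M (v h) b * rowDet M (v ∘ h.succAbove) = 0 := by
    intro b
    let P : Matrix (Fin (e + 2)) (Fin (e + 2)) K :=
      Matrix.of fun h => (Fin.cons (M (v h) b) (M (v h)) : Fin (e + 2) → K)
    have hP : P.det = 0 := Matrix.det_zero_of_column_eq (Fin.succ_ne_zero b).symm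
      fun h => by simp [P]
    rw [Matrix.det_succ_column_zero] at hP
    rw [← hP]
    refine Finset.sum_congr rfl fun h _ => ?_
    simp only [P, Matrix.of_apply, Fin.cons_zero]
    congr 1
  have hsnoc : ∀ x, rowDet M (Fin.snoc a x) = ∑ b, M x b *
      (Matrix.of fun s t => M ((Fin.snoc a (v 0) : Fin (e + 1) → Fin n) s) t).adjugate b (Fin.last e) :=
    fun x => by rw [← rowDet_update_eq_sum, Fin.update_snoc_last]
  simp only [hsnoc, Finset.mul_sum, Finset.sum_mul]
  rw [Finset.sum_comm]
  refine Finset.sum_eq_zero fun b _ => ?_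
  have := congrArg (fun x => -x * (Matrix.of fun s t =>
    M ((Fin.snoc a (v 0) : Fin (e + 1) → Fin n) s) t).adjugate b (Fin.last e)) (hz b)
  rw [neg_zero, zero_mul, ← Finset.sum_neg_distrib, Finset.sum_mul] at this
  refine Eq.trans (Finset.sum_congr rfl fun h _ => ?_) this
  rw [pow_succ]
  ring

/-- The signed coordinate of a tuple at a point. -/
noncomputable def qval (q : Idx d n → K) (a : Fin d → Fin n) : K := MvPolynomial.eval q (coord K d n a)

lemma qval_idx (q : Idx d n → K) (θ : Idx d n) : qval q θ.1 = q θ := by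
  rw [qval, coord_idx, eval_X]

lemma qval_minors (M : Fin n → Fin d → K) (a : Fin d → Fin n) :
    qval (fun θ => rowDet M θ.1) a = rowDet M a := by
  rw [qval, ← MvPolynomial.coe_aeval_eq_eval]
  exact map_coord K M a

lemma qval_congr {q q' : Idx d n → K} {a : Fin d → Fin n}
    (h : ∀ θ : Idx d n, Finset.univ.image θ.1 = Finset.univ.image a → q θ = q' θ) :
    qval q a = qval q' a := by
  simp only [qval, coord]
  split_ifs with ha
  · simp only [map_mul, map_pow, map_neg, map_one, eval_X]
    rw [h]
    exact Finset.image_orderEmbOfFin_univ _ ha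
  · simp

/-- A nonzero solution of the quadrics is a vector of minors. -/
theorem exists_matrix_of_quadrics (q : Idx (e + 1) n → K) (hq : q ≠ 0)
    (h : ∀ (i' : Idx e n) (j' : Idx (e + 2) n), MvPolynomial.eval q (quadric K i' j') = 0) :
    ∃ A : Matrix (Fin n) (Fin (e + 1)) K, ∀ θ : Idx (e + 1) n, q θ = (A.submatrix θ.1 id).det := by
  classical
  obtain ⟨w, hw⟩ : ∃ w, q w ≠ 0 := Function.ne_iff.1 hq
  let M : Fin n → Fin (e + 1) → K := fun i t =>
    (if t = 0 then 1 else (q w)⁻¹) * qval q (Function.update w.1 t i)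
  refine ⟨Matrix.of M, fun θ => ?_⟩
  set p : Idx (e + 1) n → K := fun θ => rowDet M θ.1
  change q θ = p θ
  have hupd : ∀ t i, qval p (Function.update w.1 t i) = qval q (Function.update w.1 t i) := by
    intro t i
    rw [qval_minors, rowDet_update]
    have hU : (Matrix.of fun s t => M (w.1 s) t) =
        Matrix.diagonal fun t : Fin (e + 1) => if t = 0 then q w else 1 := by
      ext s b
      simp only [Matrix.of_apply, M]
      by_cases hsb : s = b
      · subst hsb
        rw [Function.update_eq_self, qval_idx, Matrix.diagonal_apply_eq]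
        split_ifs with h0
        · rw [one_mul]
        · exact inv_mul_cancel₀ hw
      · rw [Matrix.diagonal_apply_ne _ hsb, qval, coord_update_pivot w hsb, map_zero, mul_zero]
    rw [hU, ← Matrix.cramer_transpose_apply, Matrix.cramer_eq_adjugate_mulVec,
      Matrix.diagonal_transpose, Matrix.adjugate_diagonal, Matrix.mulVec_diagonal]
    by_cases ht : t = 0
    · subst ht
      rw [Finset.prod_eq_one (s := Finset.univ.erase (0 : Fin (e + 1)))
        fun x hx => if_neg (Finset.ne_of_mem_erase hx)]
      simp [M]
    · rw [Finset.prod_eq_single_of_mem (0 : Fin (e + 1))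
        (Finset.mem_erase.2 ⟨Ne.symm ht, Finset.mem_univ _⟩) fun x _ hx => if_neg hx]
      simp only [M, if_neg ht, if_true]
      rw [← mul_assoc, mul_inv_cancel₀ hw, one_mul]
  set S : Finset (Fin n) := Finset.univ.image w.1
  have hcard : ∀ φ : Idx (e + 1) n, (Finset.univ.image φ.1).card = e + 1 := fun φ => by
    rw [Finset.card_image_of_injective _ φ.2.injective, Finset.card_fin]
  have hone : ∀ φ : Idx (e + 1) n, ((Finset.univ.image φ.1) \ S).card ≤ 1 → p φ = q φ := by
    intro φ hφ
    obtain ⟨t, i, hti⟩ : ∃ t i, Finset.univ.image φ.1 = Finset.univ.image (Function.update w.1 t i) := by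
      rcases Nat.le_one_iff_eq_zero_or_eq_one.1 hφ with h0 | h1
      · refine ⟨0, w.1 0, ?_⟩
        rw [Function.update_eq_self]
        exact Finset.eq_of_subset_of_card_le
          (Finset.sdiff_eq_empty_iff_subset.1 (Finset.card_eq_zero.1 h0)) (by rw [hcard, hcard])
      · obtain ⟨i, hi⟩ := Finset.card_eq_one.1 h1
        have hiS : i ∈ Finset.univ.image φ.1 \ S := by rw [hi]; exact Finset.mem_singleton_self i
        rw [Finset.mem_sdiff] at hiS
        obtain ⟨x, hxS, hxφ⟩ : ∃ x ∈ S, x ∉ Finset.univ.image φ.1 := by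
          by_contra hno
          push_neg at hno
          refine hiS.2 ?_
          rw [Finset.eq_of_subset_of_card_le hno (by rw [hcard, hcard])]
          exact hiS.1
        obtain ⟨t, -, rfl⟩ := Finset.mem_image.1 hxS
        refine ⟨t, i, Finset.eq_of_subset_of_card_le (fun y hy => ?_) ?_⟩
        · by_cases hyi : y = i
          · exact hyi ▸ Finset.mem_image.2 ⟨t, Finset.mem_univ _, Function.update_self _ _ _⟩
          · have hyS : y ∈ S := by
              by_contra hyS
              exact hyi (Finset.mem_singleton.1 (hi ▸ Finset.mem_sdiff.2 ⟨hy, hyS⟩))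
            obtain ⟨s, -, rfl⟩ := Finset.mem_image.1 hyS
            exact Finset.mem_image.2 ⟨s, Finset.mem_univ _,
              Function.update_of_ne (fun hst => hxφ (by rw [← hst]; exact hy)) _ _⟩
        · exact Finset.card_image_le.trans (by rw [hcard, Finset.card_fin])
    have hc : (Finset.univ.image (Function.update w.1 t i)).card = e + 1 := hti ▸ hcard φ
    have hsort : sortIdx (e + 1) n (Function.update w.1 t i) hc = φ := Subtype.ext
      (Finset.orderEmbOfFin_unique hc (fun x => hti ▸ Finset.mem_image_of_mem _ (Finset.mem_univ x)) φ.2).symm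
    have := hupd t i
    simp only [qval, coord, dif_pos hc, hsort, map_mul, map_pow, map_neg, map_one, eval_X] at this
    exact mul_left_cancel₀ (pow_ne_zero _ (neg_ne_zero.2 one_ne_zero)) this
  have main : ∀ k (φ : Idx (e + 1) n), ((Finset.univ.image φ.1) \ S).card = k → p φ = q φ := by
    intro k
    induction k using Nat.strong_induction_on with
    | _ k ih =>
    intro φ hk
    rcases le_or_gt k 1 with hk1 | hk1
    · exact hone φ (by omega)
    obtain ⟨a, ha⟩ := Finset.card_pos.1 (show 0 < (Finset.univ.image φ.1 \ S).card by omega)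
    rw [Finset.mem_sdiff] at ha
    have hci : ((Finset.univ.image φ.1).erase a).card = e := by
      rw [Finset.card_erase_of_mem ha.1, hcard, Nat.add_sub_cancel]
    have hcj : (insert a S).card = e + 2 := by rw [Finset.card_insert_of_notMem ha.2, hcard]
    let i' : Idx e n := ⟨_, (((Finset.univ.image φ.1).erase a).orderEmbOfFin hci).strictMono⟩
    let j' : Idx (e + 2) n := ⟨_, ((insert a S).orderEmbOfFin hcj).strictMono⟩
    have hi' : Finset.univ.image i'.1 = (Finset.univ.image φ.1).erase a :=
      Finset.image_orderEmbOfFin_univ _ hci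
    have hj' : Finset.univ.image j'.1 = insert a S := Finset.image_orderEmbOfFin_univ _ hcj
    obtain ⟨ha0, -, hha⟩ := Finset.mem_image.1
      (show a ∈ Finset.univ.image j'.1 by rw [hj']; exact Finset.mem_insert_self _ _)
    have hsnoc : ∀ x, Finset.univ.image (Fin.snoc i'.1 x) = insert x ((Finset.univ.image φ.1).erase a) := by
      intro x
      rw [← hi']
      ext y
      simp only [Finset.mem_image, Finset.mem_univ, true_and, Finset.mem_insert, Fin.exists_fin_succ',
        Fin.snoc_castSucc, Fin.snoc_last]
      exact ⟨fun h => h.elim Or.inr fun h => Or.inl h.symm, fun h => h.elim (fun h => Or.inr h.symm) Or.inl⟩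
    have hterm : ∀ hh : Fin (e + 2), hh ≠ ha0 →
        qval p (Fin.snoc i'.1 (j'.1 hh)) * qval p (j'.1 ∘ hh.succAbove) =
          qval q (Fin.snoc i'.1 (j'.1 hh)) * qval q (j'.1 ∘ hh.succAbove) := by
      intro hh hne
      have hbS : j'.1 hh ∈ S := by
        have hm : j'.1 hh ∈ Finset.univ.image j'.1 := Finset.mem_image_of_mem _ (Finset.mem_univ _)
        rw [hj'] at hm
        exact (Finset.mem_insert.1 hm).resolve_left fun he => hne (j'.2.injective (he.trans hha.symm))
      refine congrArg₂ (· * ·) (qval_congr fun ψ hψ => ?_) (qval_congr fun ψ hψ => hone ψ ?_)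
      · rw [hsnoc] at hψ
        refine ih _ ?_ ψ rfl
        rw [hψ, Finset.insert_sdiff_of_mem _ hbS, ← hk, Finset.erase_sdiff_comm,
          Finset.card_erase_of_mem (Finset.mem_sdiff.2 ha)]
        omega
      · rw [hψ]
        refine (Finset.card_le_card (t := {a}) fun y hy => ?_).trans (by simp)
        obtain ⟨hy1, hy2⟩ := Finset.mem_sdiff.1 hy
        obtain ⟨x, -, rfl⟩ := Finset.mem_image.1 hy1
        have hm : (j'.1 ∘ hh.succAbove) x ∈ Finset.univ.image j'.1 :=
          Finset.mem_image_of_mem j'.1 (Finset.mem_univ _)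
        rw [hj'] at hm
        exact Finset.mem_singleton.2 ((Finset.mem_insert.1 hm).resolve_right hy2)
    have hQ : ∀ r : Idx (e + 1) n → K, MvPolynomial.eval r (quadric K i' j') =
        ∑ hh : Fin (e + 2), (-1) ^ (hh.val + 1) * qval r (Fin.snoc i'.1 (j'.1 hh)) *
          qval r (j'.1 ∘ hh.succAbove) := fun r => by
      simp [quadric, qval]
    have hp0 : ∑ hh : Fin (e + 2), (-1) ^ (hh.val + 1) * qval p (Fin.snoc i'.1 (j'.1 hh)) *
        qval p (j'.1 ∘ hh.succAbove) = 0 := by
      simp only [p, qval_minors]
      exact sum_quadric_minors M i'.1 j'.1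
    have hq0 := (hQ q).symm.trans (h i' j')
    rw [← Finset.add_sum_erase _ _ (Finset.mem_univ ha0)] at hp0 hq0
    rw [Finset.sum_congr rfl fun hh hhh => by
      rw [mul_assoc, hterm hh (Finset.ne_of_mem_erase hhh), ← mul_assoc]] at hp0
    have heq := add_right_cancel (hp0.trans hq0.symm)
    have hjw : j'.1 ∘ ha0.succAbove = w.1 := by
      refine (Finset.orderEmbOfFin_unique (hcard w) (fun x => ?_)
        (j'.2.comp (Fin.strictMono_succAbove ha0))).trans
        (Finset.orderEmbOfFin_unique (hcard w)
          (fun x => Finset.mem_image_of_mem _ (Finset.mem_univ x)) w.2).symm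
      have hm : (j'.1 ∘ ha0.succAbove) x ∈ Finset.univ.image j'.1 :=
        Finset.mem_image_of_mem j'.1 (Finset.mem_univ _)
      rw [hj'] at hm
      exact (Finset.mem_insert.1 hm).resolve_left fun he =>
        Fin.succAbove_ne ha0 x (j'.2.injective (he.trans hha.symm))
    rw [hjw, qval_idx, qval_idx, hone w (by simp [S]), hha] at heq
    have h3 := mul_left_cancel₀ (pow_ne_zero _ (neg_ne_zero.2 one_ne_zero))
      (mul_right_cancel₀ hw heq)
    have hc : (Finset.univ.image (Fin.snoc i'.1 a)).card = e + 1 := by
      rw [hsnoc, Finset.insert_erase ha.1, hcard]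
    have hsort : sortIdx (e + 1) n (Fin.snoc i'.1 a) hc = φ := Subtype.ext
      (Finset.orderEmbOfFin_unique hc (fun x => by
        rw [hsnoc, Finset.insert_erase ha.1]
        exact Finset.mem_image_of_mem _ (Finset.mem_univ x)) φ.2).symm
    simp only [qval, coord, dif_pos hc, hsort, map_mul, map_pow, map_neg, map_one, eval_X] at h3
    exact mul_left_cancel₀ (pow_ne_zero _ (neg_ne_zero.2 one_ne_zero)) h3
  exact (main _ θ rfl).symm

theorem quadrics_iff (q : Idx (e + 1) n → K) (hq : q ≠ 0) :
    (∀ (i' : Idx e n) (j' : Idx (e + 2) n), MvPolynomial.eval q (quadric K i' j') = 0) ↔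
      ∃ A : Matrix (Fin n) (Fin (e + 1)) K, ∀ θ : Idx (e + 1) n, q θ = (A.submatrix θ.1 id).det := by
  refine ⟨exists_matrix_of_quadrics q hq, ?_⟩
  rintro ⟨A, hA⟩ i' j'
  have hq' : q = fun θ => rowDet (fun i t => A i t) θ.1 := funext hA
  subst hq'
  have := sum_quadric_minors (fun i t => A i t) i'.1 j'.1
  refine Eq.trans ?_ this
  simp only [quadric, map_sum, map_mul, map_pow, map_neg, map_one]
  exact Finset.sum_congr rfl fun hh _ => congrArg₂ (fun x y => (-1 : K) ^ (hh.val + 1) * x * y)
    (qval_minors _ _) (qval_minors _ _)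

end quadrics

end Groth.Agent.W4Gr15
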