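import Groth.Agent.W4Gr15.Basis

/-!
# Unions, intersections and divisors of Schubert varieties
-/

universe u

open MvPolynomial W4bk4grassmannian

namespace Groth.Agent.W4Gr15

variable {d n : ℕ}

lemma codeg_lt {a b : Idx d n} (h : a < b) : codeg a < codeg b := by
  refine Finset.sum_lt_sum (fun t _ => ?_) ?_
  · have := Fin.le_def.1 (h.le t); omega
  · by_contra hno
    push_neg at hno
    refine h.ne (Subtype.ext (funext fun t => Fin.ext ?_))
    have h1 := Fin.le_def.1 (h.le t)
    have h2 := hno t (Finset.mem_univ _)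
    have h3 := val_le_idx a t
    omega

lemma codeg_mono {a b : Idx d n} (h : a ≤ b) : codeg a ≤ codeg b :=
  Finset.sum_le_sum fun t _ => by have := Fin.le_def.1 (h t); omega

/-- Every element below `w` lies below a divisor of `w`. -/
theorem exists_divisor {τ w : Idx d n} (h : τ < w) : ∃ φ ∈ divisors w, τ ≤ φ := by
  classical
  have hne : (Finset.univ.filter fun t => τ.1 t < w.1 t).Nonempty := by
    by_contra hno
    refine h.ne (Subtype.ext (funext fun t => le_antisymm (h.le t) (not_lt.1 fun ht => hno ⟨t, ?_⟩)))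
    simpa using ht
  set t := (Finset.univ.filter fun t => τ.1 t < w.1 t).min' hne
  have ht : (τ.1 t).val < (w.1 t).val := Fin.lt_def.1 (Finset.mem_filter.1 (Finset.min'_mem _ hne)).2
  have hlow : ∀ s < t, (τ.1 s).val = (w.1 s).val := fun s hs => by
    refine le_antisymm (Fin.le_def.1 (h.le s)) (not_lt.1 fun hlt => ?_)
    exact absurd (Finset.min'_le _ s (by simpa using Fin.lt_def.2 hlt)) (not_le.2 hs)
  let v : Fin n := ⟨(w.1 t).val - 1, by omega⟩
  have hmono : StrictMono (Function.update w.1 t v) := by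
    intro a b hab
    have hw := Fin.lt_def.1 (w.2 hab)
    by_cases ha : a = t
    · subst ha
      rw [Function.update_self, Function.update_of_ne hab.ne', Fin.lt_def]
      simp only [v]; omega
    · by_cases hb : b = t
      · subst hb
        rw [Function.update_of_ne ha, Function.update_self, Fin.lt_def]
        have := Fin.lt_def.1 (τ.2 hab)
        have := hlow a hab
        simp only [v]; omega
      · rw [Function.update_of_ne ha, Function.update_of_ne hb]
        exact w.2 hab
  refine ⟨⟨_, hmono⟩, ⟨?_, ?_⟩, fun s => ?_⟩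
  · refine lt_of_le_of_ne (fun s => ?_) fun he => ?_
    · by_cases hs : s = t
      · subst hs; simp only [Function.update_self, Fin.le_def, v]; omega
      · simp [hs]
    · have := congrArg (fun a : Idx d n => (a.1 t).val) he
      simp [v] at this
      omega
  · have hval : ∀ s, ((Function.update w.1 t v s).val - s.val) =
        if s = t then (w.1 t).val - 1 - t.val else (w.1 s).val - s.val := fun s => by
      by_cases hs : s = t
      · subst hs; simp [v]
      · simp [hs]
    rw [codeg, codeg, ← Finset.add_sum_erase _ _ (Finset.mem_univ t),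
      ← Finset.add_sum_erase _ _ (Finset.mem_univ t), hval, if_pos rfl,
      Finset.sum_congr rfl fun s hs => (hval s).trans (if_neg (Finset.ne_of_mem_erase hs))]
    have := val_le_idx τ t
    omega
  · by_cases hs : s = t
    · subst hs; simp only [Function.update_self, Fin.le_def, v]; omega
    · simp only [Function.update_of_ne hs]; exact h.le s

lemma le_top_of_chain {e : Chain d n} {τ : Idx d n} (h : 0 < e.1) (h0 : e.2.1 ⟨0, h⟩ ≤ τ) (k : Fin e.1) :
    e.2.1 k ≤ τ := (e.2.2 (Nat.zero_le k.val)).trans h0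

variable {K : Type u} [Field K] [Infinite K]

lemma mon_mem_schubertVanishing (hd : 0 < d) {τ : Idx d n} {e : Chain d n}
    (h : ¬ ∀ k, e.2.1 k ≤ τ) : mon K e ∈ schubertVanishing K d n τ := by
  rw [schubertVanishing_eq_bandIdeal hd (idx_le_of_nonempty τ)]
  obtain ⟨k, hk⟩ := not_forall.1 h
  exact mon_mem_of_exists K fun hb => hk hb.2

lemma schubertVanishing_anti (hd : 0 < d) {a b : Idx d n} (h : a ≤ b) :
    schubertVanishing K d n b ≤ schubertVanishing K d n a := by
  intro f hf
  obtain ⟨v, hv⟩ := exists_comb K f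
  exact (mem_schubertVanishing_iff hd hv).2 fun e he =>
    (mem_schubertVanishing_iff hd hv).1 hf e fun k => (he k).trans h

lemma X_mem_schubertVanishing (τ φ : Idx d n) (h : ¬ φ ≤ τ) : X φ ∈ schubertVanishing K d n τ :=
  plIdeal_le_schubertVanishing τ (Ideal.subset_span (Or.inr ⟨φ, h, rfl⟩))

lemma X_notMem_schubertVanishing (hd : 0 < d) {τ φ : Idx d n} (h : φ ≤ τ) :
    X φ ∉ schubertVanishing K d n τ := by
  rw [schubertVanishing_eq_bandIdeal hd (idx_le_of_nonempty τ), ← ker_psi hd, RingHom.mem_ker,
    psi_X]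
  intro h0
  have := coeff_bandMinor K ⟨idxBot_le (idx_le_of_nonempty τ) φ, h⟩
  rw [h0, coeff_zero] at this
  exact zero_ne_one this

/-- `J(w₁) + J(w₂) = J(w₁ ⊓ w₂)`. -/
theorem sup_schubertVanishing (hd : 0 < d) (w₁ w₂ : Idx d n) :
    schubertVanishing K d n w₁ ⊔ schubertVanishing K d n w₂ =
      schubertVanishing K d n (W4bk4grassmannian.inf w₁ w₂) := by
  refine le_antisymm (sup_le (schubertVanishing_anti hd fun t => min_le_left _ _)
    (schubertVanishing_anti hd fun t => min_le_right _ _)) fun f hf => ?_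
  obtain ⟨v, hv⟩ := exists_comb K f
  rw [show f = (f - comb K v) + comb K v by ring]
  refine Ideal.add_mem _ (Ideal.mem_sup_left ?_) (comb_mem K fun e he => ?_)
  · rw [schubertVanishing_eq_bandIdeal hd (idx_le_of_nonempty w₁)]
    exact plIdealTop_le_bandIdeal K _ _ hv
  · by_cases h1 : ∀ k, e.2.1 k ≤ w₁
    · refine Ideal.mem_sup_right (mon_mem_schubertVanishing hd fun h2 => he ?_)
      exact (mem_schubertVanishing_iff hd hv).1 hf e fun k t => le_min (h1 k t) (h2 k t)
    · exact Ideal.mem_sup_left (mon_mem_schubertVanishing hd h1)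

lemma mem_iInf_schubertVanishing_iff (hd : 0 < d) {ι : Sort*} {τs : ι → Idx d n} {f : PlRing K d n}
    {v : Chain d n →₀ K} (h : f - comb K v ∈ plIdealTop (d := d) (n := n) K) :
    f ∈ ⨅ i, schubertVanishing K d n (τs i) ↔
      ∀ e : Chain d n, (∃ i, ∀ k, e.2.1 k ≤ τs i) → v e = 0 := by
  simp only [Ideal.mem_iInf, mem_schubertVanishing_iff hd h]
  exact ⟨fun hh e ⟨i, he⟩ => hh i e he, fun hh i e he => hh e ⟨i, he⟩⟩

/-- The boundary of a Schubert variety. -/
theorem schubertVanishing_sup_span (hd : 0 < d) (τ : Idx d n) (hτ : ∃ φ : Idx d n, φ < τ) :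
    schubertVanishing K d n τ ⊔ Ideal.span {X τ} =
      ⨅ φ ∈ divisors τ, schubertVanishing K d n φ := by
  refine le_antisymm (le_iInf₂ fun φ hφ => sup_le (schubertVanishing_anti hd hφ.1.le) ?_) fun f hf => ?_
  · rw [Ideal.span_le, Set.singleton_subset_iff]
    exact X_mem_schubertVanishing φ τ hφ.1.not_ge
  obtain ⟨v, hv⟩ := exists_comb K f
  simp only [Ideal.mem_iInf] at hf
  rw [show f = (f - comb K v) + comb K v by ring]
  refine Ideal.add_mem _ (Ideal.mem_sup_left ?_) (comb_mem K fun e he => ?_)
  · rw [schubertVanishing_eq_bandIdeal hd (idx_le_of_nonempty τ)]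
    exact plIdealTop_le_bandIdeal K _ _ hv
  by_cases h1 : ∀ k, e.2.1 k ≤ τ
  swap
  · exact Ideal.mem_sup_left (mon_mem_schubertVanishing hd h1)
  have hkey : ∀ φ ∈ divisors τ, ¬ ∀ k, e.2.1 k ≤ φ :=
    fun φ hφ h2 => he ((mem_schubertVanishing_iff hd hv).1 (hf φ hφ) e h2)
  obtain ⟨φ0, hφ0⟩ := hτ
  obtain ⟨ψ0, hψ0, -⟩ := exists_divisor hφ0
  have hpos : 0 < e.1 := Nat.pos_of_ne_zero fun h0 =>
    hkey ψ0 hψ0 fun k => absurd k.isLt (by omega)
  have htop : e.2.1 ⟨0, hpos⟩ = τ := by
    refine (h1 _).eq_or_lt.resolve_right fun hlt => ?_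
    obtain ⟨φ, hφ, hle⟩ := exists_divisor hlt
    exact hkey φ hφ fun k => le_top_of_chain hpos hle k
  refine Ideal.mem_sup_right ?_
  rw [mon, chainMon, ← Finset.mul_prod_erase _ _ (Finset.mem_univ (⟨0, hpos⟩ : Fin e.1)), htop]
  exact Ideal.mul_mem_right _ _ (Ideal.mem_span_singleton_self _)

/-- The least coordinate is prime on a Schubert variety. -/
theorem prime_bot (hd : 0 < d) (hdn : d < n) (w : Idx d n) :
    Prime (Ideal.Quotient.mk (schubertVanishing K d n w) (X (idxBot hdn.le))) := by
  set ι := idxBot hdn.le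
  let t₁ : Fin d := ⟨d - 1, by omega⟩
  let lo : Idx d n := ⟨fun t => if t = t₁ then ⟨d, hdn⟩ else ⟨t.val, by omega⟩, fun a b hab => by
    rw [Fin.lt_def] at hab
    simp only [t₁, Fin.ext_iff]
    split_ifs <;> simp only [Fin.lt_def] <;> omega⟩
  have hlo : ∀ φ : Idx d n, lo ≤ φ ↔ φ ≠ ι := by
    intro φ
    constructor
    · rintro h rfl
      have := Fin.le_def.1 (h t₁)
      simp [lo, ι, idxBot, t₁] at this
      omega
    · intro hne t
      simp only [lo]
      split_ifs with ht
      · rw [Fin.le_def]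
        by_contra hlt
        push_neg at hlt
        refine hne (Subtype.ext (funext fun s => Fin.ext ?_))
        have h2 : (φ.1 s).val + (d - 1 - s.val) ≤ (φ.1 t).val := by
          clear hlt hne
          subst ht
          generalize hk : d - 1 - s.val = k
          induction k generalizing s with
          | zero =>
            have : s = t₁ := Fin.ext (by simp [t₁]; omega)
            rw [this, add_zero]
          | succ k ih =>
            have := ih ⟨s.val + 1, by omega⟩ (by simp only []; omega)
            have h3 := Fin.lt_def.1 (φ.2 (show s < ⟨s.val + 1, by omega⟩ from Fin.lt_def.2 (by simp)))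
            omega
        have h1 := val_le_idx φ s
        simp only [] at hlt
        simp only [ι, idxBot]
        omega
      · exact Fin.le_def.2 (val_le_idx φ t)
  have hsup : schubertVanishing K d n w ⊔ Ideal.span {X ι} = bandIdeal K lo w := by
    rw [schubertVanishing_eq hd]
    refine le_antisymm (sup_le (Ideal.span_le.2 ?_) (Ideal.span_le.2 ?_))
      (sup_le ?_ (Ideal.span_le.2 ?_))
    · rintro _ (h | ⟨φ, hφ, rfl⟩)
      · exact plIdealTop_le_bandIdeal K _ _ (Ideal.subset_span h)
      · exact X_mem_bandIdeal K fun h => hφ h.2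
    · rintro _ rfl
      exact X_mem_bandIdeal K fun h => (hlo ι).1 h.1 rfl
    · exact le_sup_of_le_left (Ideal.span_mono Set.subset_union_left)
    · rintro _ ⟨φ, hφ, rfl⟩
      by_cases h2 : φ ≤ w
      · have : φ = ι := not_not.1 fun hne => hφ ⟨(hlo φ).2 hne, h2⟩
        subst this
        exact Ideal.mem_sup_right (Ideal.subset_span rfl)
      · exact Ideal.mem_sup_left (Ideal.subset_span (Or.inr ⟨φ, h2, rfl⟩))
  have hne : Ideal.Quotient.mk (schubertVanishing K d n w) (X ι) ≠ 0 := fun h =>
    X_notMem_schubertVanishing hd (idxBot_le hdn.le w) (Ideal.Quotient.eq_zero_iff_mem.1 h)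
  rw [← Ideal.span_singleton_prime hne, ← Set.image_singleton, ← Ideal.map_span]
  have hmap : (Ideal.span {X ι}).map (Ideal.Quotient.mk (schubertVanishing K d n w)) =
      (bandIdeal K lo w).map (Ideal.Quotient.mk (schubertVanishing K d n w)) := by
    rw [← hsup, Ideal.map_sup, Ideal.map_quotient_self, bot_sup_eq]
  rw [hmap]
  have := bandIdeal_isPrime (K := K) hd lo w
  exact Ideal.map_isPrime_of_surjective Ideal.Quotient.mk_surjective
    (by rw [Ideal.mk_ker, ← hsup]; exact le_sup_left)

end Groth.Agent.W4Gr15
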