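import Groth.Agent.W4Gr15.Shuffle
import Mathlib.Data.Fin.Tuple.Sort
import Mathlib.RingTheory.Ideal.Quotient.Operations
import Mathlib.Algebra.Order.BigOperators.Group.Finset

/-!
# Straightening: chains span modulo the shuffle relations

The straightening of an incomparable pair strictly increases `Σ_k (sum of the entries of c_k)²`.
-/

universe u

open MvPolynomial W4bk4grassmannian

namespace Groth.Agent.W4Gr15

variable {d n : ℕ}

/-- `Σ_t f (a_t)`: the content of a tuple tested on `f`. -/
def wt (f : Fin n → ℕ) (a : Fin d → Fin n) : ℕ := ∑ t, f (a t)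

/-- Multichains, of all lengths. -/
abbrev Chain (d n : ℕ) : Type := Σ m : ℕ, {c : Fin m → Idx d n // Antitone c}

/-- Content of a multichain. -/
def cont (f : Fin n → ℕ) (e : Chain d n) : ℕ := ∑ k, wt f (e.2.1 k).1

lemma wt_sortIdx (f : Fin n → ℕ) (a : Fin d → Fin n) (h : (Finset.univ.image a).card = d) :
    wt f (sortIdx d n a h).1 = wt f a := by
  have hinj : Set.InjOn a (Finset.univ : Finset (Fin d)) :=
    Finset.injOn_of_card_image_eq (by rw [h, Finset.card_fin])
  have := Finset.sum_map (Finset.univ : Finset (Fin d))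
    (Finset.orderEmbOfFin (Finset.univ.image a) h).toEmbedding f
  rw [Finset.map_orderEmbOfFin_univ, Finset.sum_image hinj] at this
  exact this.symm

variable (K : Type u) [CommRing K]

lemma coord_idx (i : Idx d n) : coord K d n i.1 = X i := by
  have h : (Finset.univ.image i.1).card = d := by
    rw [Finset.card_image_of_injective _ i.2.injective, Finset.card_fin]
  have h0 : invCount d n i.1 = 0 :=
    Finset.card_eq_zero.2 <| Finset.filter_eq_empty_iff.2 fun p _ hp => (i.2 hp.1).asymm hp.2
  have hs : sortIdx d n i.1 h = i := Subtype.ext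
    (Finset.orderEmbOfFin_unique h (fun t => Finset.mem_image_of_mem _ (Finset.mem_univ t)) i.2).symm
  rw [coord, dif_pos h, h0, hs, pow_zero, one_mul]

section moving

variable (i j : Idx d n) (r : Fin d)

lemma movingRows_strictMono (h : i.1 r < j.1 r) : StrictMono (movingRows i j r) := by
  intro a b hab
  rw [Fin.lt_def] at hab
  simp only [movingRows]
  split_ifs with ha hb hb
  · exact i.2 (Fin.lt_def.2 hab)
  · refine (i.2.monotone (Fin.le_def.2 (by simpa using ha))).trans_lt
      (h.trans_le (j.2.monotone (Fin.le_def.2 ?_)))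
    simp only [not_le] at hb ⊢
    omega
  · omega
  · exact j.2 (Fin.lt_def.2 (by simp only []; omega))

lemma sum_dite_le {M : Type*} [AddCommMonoid M] (g : Fin (r.val + 1) → M) (b : Fin d → M) :
    ∑ t : Fin d, (if h : t.val ≤ r.val then g ⟨t.val, by omega⟩ else b t) =
      ∑ p, g p + ∑ t ∈ Finset.univ.filter (fun t : Fin d => ¬ t.val ≤ r.val), b t := by
  rw [← Finset.sum_filter_add_sum_filter_not Finset.univ (fun t : Fin d => t.val ≤ r.val)]
  congr 1
  · refine Finset.sum_bij' (fun t ht => ⟨t.val, by simp at ht; omega⟩)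
      (fun p _ => ⟨p.val, by omega⟩) (fun _ _ => Finset.mem_univ _)
      (fun p _ => by
        simp only [Finset.mem_filter, Finset.mem_univ, true_and]; exact Nat.lt_succ_iff.1 p.isLt) (fun _ _ => rfl) (fun _ _ => rfl) fun t ht => ?_
    simp only [Finset.mem_filter, Finset.mem_univ, true_and] at ht
    rw [dif_pos ht]
  · refine Finset.sum_congr rfl fun t ht => dif_neg ?_
    simpa using ht

lemma sum_dite_lt {M : Type*} [AddCommMonoid M] (g : Fin (d - r.val) → M) (b : Fin d → M) :
    ∑ t : Fin d, (if h : t.val < r.val then b t else g ⟨t.val - r.val, by omega⟩) =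
      ∑ t ∈ Finset.univ.filter (fun t : Fin d => t.val < r.val), b t + ∑ p, g p := by
  rw [← Finset.sum_filter_add_sum_filter_not Finset.univ (fun t : Fin d => t.val < r.val)]
  congr 1
  · exact Finset.sum_congr rfl fun t ht => dif_pos (by simpa using ht)
  · refine Finset.sum_bij' (fun t _ => ⟨t.val - r.val, by omega⟩)
      (fun p _ => ⟨r.val + p.val, by omega⟩) (fun _ _ => Finset.mem_univ _)
      (fun p _ => by simp only [Finset.mem_filter, Finset.mem_univ, true_and]; omega) (fun t ht => ?_) (fun p _ => ?_) fun t ht => ?_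
    · simp only [Finset.mem_filter, Finset.mem_univ, true_and] at ht
      exact Fin.ext (by simp only []; omega)
    · exact Fin.ext (by simp)
    · simp only [Finset.mem_filter, Finset.mem_univ, true_and] at ht
      rw [dif_neg ht]

lemma wt_shuffle_add (f : Fin n → ℕ) (A : Finset (Fin (d + 1))) (hA : A.card = r.val + 1) :
    wt f (shuffleI i j r A hA) + wt f (shuffleJ i j r A hA) =
      ∑ k, f (movingRows i j r k) +
        (∑ t ∈ Finset.univ.filter (fun t : Fin d => ¬ t.val ≤ r.val), f (i.1 t) +
          ∑ t ∈ Finset.univ.filter (fun t : Fin d => t.val < r.val), f (j.1 t)) := by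
  have hI : wt f (shuffleI i j r A hA) = ∑ k ∈ A, f (movingRows i j r k) +
      ∑ t ∈ Finset.univ.filter (fun t : Fin d => ¬ t.val ≤ r.val), f (i.1 t) := by
    rw [sum_eq_sum_orderEmb A hA, ← sum_dite_le r
      (fun p => f (movingRows i j r (A.orderEmbOfFin hA p))) (fun t => f (i.1 t))]
    exact Finset.sum_congr rfl fun t _ => by rw [shuffleI]; split_ifs <;> rfl
  have hJ : wt f (shuffleJ i j r A hA) =
      ∑ t ∈ Finset.univ.filter (fun t : Fin d => t.val < r.val), f (j.1 t) +
      ∑ k ∈ Aᶜ, f (movingRows i j r k) := by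
    rw [sum_eq_sum_orderEmb Aᶜ (card_compl_of_card r A hA), ← sum_dite_lt r
      (fun p => f (movingRows i j r (Aᶜ.orderEmbOfFin (card_compl_of_card r A hA) p)))
      (fun t => f (j.1 t))]
    exact Finset.sum_congr rfl fun t _ => by unfold shuffleJ; split_ifs <;> rfl
  rw [hI, hJ, ← Finset.sum_add_sum_compl A fun k => f (movingRows i j r k)]
  abel

/-- The positions of the identity shuffle. -/
def idShuffle : Finset (Fin (d + 1)) :=
  Finset.univ.map (Fin.castLEEmb (Nat.succ_le_succ r.isLt.le) : Fin (r.val + 1) ↪ Fin (d + 1))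

lemma card_idShuffle : (idShuffle r).card = r.val + 1 := by simp [idShuffle]

lemma orderEmb_idShuffle (p : Fin (r.val + 1)) :
    (idShuffle r).orderEmbOfFin (card_idShuffle r) p = Fin.castLE (Nat.succ_le_succ r.isLt.le) p := by
  refine congrFun (Finset.orderEmbOfFin_unique (card_idShuffle r)
    (f := Fin.castLE (Nat.succ_le_succ r.isLt.le)) (fun x => ?_) (Fin.strictMono_castLE _)).symm p
  exact Finset.mem_map.2 ⟨x, Finset.mem_univ _, rfl⟩

lemma orderEmb_idShuffle_compl (p : Fin (d - r.val)) :
    ((idShuffle r)ᶜ.orderEmbOfFin (card_compl_of_card r _ (card_idShuffle r)) p).val =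
      r.val + 1 + p.val := by
  have := congrFun (Finset.orderEmbOfFin_unique (s := (idShuffle r)ᶜ)
    (card_compl_of_card r _ (card_idShuffle r))
    (f := fun p : Fin (d - r.val) => (⟨r.val + 1 + p.val, by omega⟩ : Fin (d + 1))) (fun x => ?_)
    (fun a b h => Fin.lt_def.2 (by simpa using h))).symm p
  · rw [this]
  · rw [Finset.mem_compl, idShuffle, Finset.mem_map]
    rintro ⟨y, -, hy⟩
    have := congrArg Fin.val hy
    simp at this
    omega

lemma shuffleI_idShuffle : shuffleI i j r (idShuffle r) (card_idShuffle r) = i.1 := by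
  funext t
  rw [shuffleI]
  split_ifs with h
  · rw [orderEmb_idShuffle, movingRows, dif_pos (by simpa using h)]
    rfl
  · rfl

lemma shuffleJ_idShuffle : shuffleJ i j r (idShuffle r) (card_idShuffle r) = j.1 := by
  funext t
  rw [shuffleJ]
  simp only []
  split_ifs with h
  · rfl
  · rw [movingRows, dif_neg (by rw [orderEmb_idShuffle_compl]; omega)]
    exact congrArg j.1 (Fin.ext (by simp only [orderEmb_idShuffle_compl]; omega))

lemma shuffleTerm_idShuffle : shuffleTerm K i j r (idShuffle r) = X i * X j := by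
  rw [shuffleTerm, dif_pos (card_idShuffle r), shuffleI_idShuffle, shuffleJ_idShuffle, coord_idx,
    coord_idx]
  have : shuffleSign r (idShuffle r) = 0 := by
    rw [shuffleSign, sum_eq_sum_orderEmb (idShuffle r) (card_idShuffle r)]
    simp only [orderEmb_idShuffle, Fin.val_castLE]
    rw [Fin.sum_univ_eq_sum_range (fun i => i), Finset.sum_range_id, Nat.add_sub_cancel, mul_comm]
    omega
  rw [this, pow_zero, one_mul]

lemma wt_val_shuffleI_lt (h : i.1 r < j.1 r) (A : Finset (Fin (d + 1))) (hA : A.card = r.val + 1)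
    (hne : A ≠ idShuffle r) : wt Fin.val i.1 < wt Fin.val (shuffleI i j r A hA) := by
  have hv := movingRows_strictMono i j r h
  have key : ∀ (p : Fin (r.val + 1)),
      i.1 ⟨p.val, by omega⟩ = movingRows i j r (Fin.castLE (Nat.succ_le_succ r.isLt.le) p) := fun p => by
    rw [movingRows, dif_pos (by simpa using Nat.lt_succ_iff.1 p.isLt)]
    rfl
  refine Finset.sum_lt_sum (fun t _ => ?_) ?_
  · rw [shuffleI]
    split_ifs with ht
    · rw [key ⟨t.val, by omega⟩]
      exact Fin.le_def.1 (hv.monotone (Fin.le_def.2 (sum_orderEmb_val_ge A hA ⟨t.val, by omega⟩)))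
    · exact le_rfl
  · by_contra hno
    push_neg at hno
    apply hne
    have hfix : ∀ p : Fin (r.val + 1),
        A.orderEmbOfFin hA p = Fin.castLE (Nat.succ_le_succ r.isLt.le) p := fun p => by
      refine le_antisymm ?_ (Fin.le_def.2 (sum_orderEmb_val_ge A hA p))
      have := hno ⟨p.val, by omega⟩ (Finset.mem_univ _)
      rw [shuffleI, dif_pos (by simpa using Nat.lt_succ_iff.1 p.isLt), key p] at this
      exact hv.le_iff_le.1 (Fin.le_def.2 this)
    rw [idShuffle, ← Finset.map_orderEmbOfFin_univ A hA]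
    ext x
    simp only [Finset.mem_map, Finset.mem_univ, true_and]
    exact ⟨fun ⟨p, hp⟩ => ⟨p, by rw [← hp]; exact (hfix p).symm⟩,
      fun ⟨p, hp⟩ => ⟨p, by rw [← hp]; exact hfix p⟩⟩

end moving

/-- A pivot pair is a combination of more spread pairs with the same content. -/
lemma pair_mem_span (i j : Idx d n) (r : Fin d) (hp : IsPivot i j r) :
    Ideal.Quotient.mk (plIdealTop (d := d) (n := n) K) (X i * X j) ∈
      Submodule.span K ((fun p : Idx d n × Idx d n =>
          Ideal.Quotient.mk (plIdealTop (d := d) (n := n) K) (X p.1 * X p.2)) ''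
        {p | wt Fin.val i.1 < wt Fin.val p.1.1 ∧
          ∀ f, wt f p.1.1 + wt f p.2.1 = wt f i.1 + wt f j.1}) := by
  classical
  set I := plIdealTop (d := d) (n := n) K
  set S := Submodule.span K ((fun p : Idx d n × Idx d n => Ideal.Quotient.mk I (X p.1 * X p.2)) ''
    {p | wt Fin.val i.1 < wt Fin.val p.1.1 ∧ ∀ f, wt f p.1.1 + wt f p.2.1 = wt f i.1 + wt f j.1})
  have h0 : Ideal.Quotient.mk I (shuffleRel K i j r) = 0 :=
    Ideal.Quotient.eq_zero_iff_mem.2 (Ideal.subset_span ⟨i, j, r, hp, rfl⟩)
  rw [shuffleRel, map_sum, ← Finset.add_sum_erase _ _ (Finset.mem_univ (idShuffle r)),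
    shuffleTerm_idShuffle, add_eq_zero_iff_eq_neg] at h0
  rw [h0]
  refine S.neg_mem (S.sum_mem fun A hA => ?_)
  have hne := (Finset.mem_erase.1 hA).1
  rw [shuffleTerm]
  split_ifs with hcard
  swap
  · rw [map_zero]; exact S.zero_mem
  rw [coord, coord]
  split_ifs with h1 h2 <;> try (rw [mul_zero, map_zero]; exact S.zero_mem)
  swap
  · rw [mul_zero, zero_mul, map_zero]; exact S.zero_mem
  have hmem : Ideal.Quotient.mk I
      (X (sortIdx d n _ h1) * X (sortIdx d n _ h2)) ∈ S := by
    refine Submodule.subset_span ⟨(sortIdx d n _ h1, sortIdx d n _ h2), ⟨?_, fun f => ?_⟩, rfl⟩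
    · exact (wt_val_shuffleI_lt i j r hp.2 A hcard hne).trans_eq (wt_sortIdx Fin.val _ h1).symm
    · refine (congrArg₂ (· + ·) (wt_sortIdx f _ h1) (wt_sortIdx f _ h2)).trans ?_
      rw [wt_shuffle_add, ← wt_shuffle_add i j r f (idShuffle r)
        (card_idShuffle r), shuffleI_idShuffle, shuffleJ_idShuffle]
  convert S.smul_mem ((-1 : K) ^ (shuffleSign r A + invCount d n (shuffleI i j r A hcard) +
    invCount d n (shuffleJ i j r A hcard))) hmem using 1
  rw [show ∀ (a : K) (x : PlRing K d n), a • Ideal.Quotient.mk I x = Ideal.Quotient.mk I (a • x) from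
    fun a x => (map_smul (Ideal.Quotient.mkₐ K I) a x).symm]
  congr 1
  rw [MvPolynomial.smul_eq_C_mul, map_pow, map_neg, map_one]
  ring

/-- The product of the coordinates of a chain. -/
noncomputable def mon (e : Chain d n) : PlRing K d n := chainMon K e.2.1

lemma exists_pivot {i j : Idx d n} (h : ¬ j ≤ i) : ∃ r, IsPivot i j r := by
  classical
  have hne : (Finset.univ.filter fun t => i.1 t < j.1 t).Nonempty := by
    by_contra hno
    refine h fun t => not_lt.1 fun ht => hno ⟨t, ?_⟩
    simpa using ht
  refine ⟨_, fun t ht => not_lt.1 fun hlt => ?_, (Finset.mem_filter.1 (Finset.min'_mem _ hne)).2⟩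
  exact absurd (Finset.min'_le _ t (by simpa using hlt)) (not_le.2 ht)

/-- Straightening. -/
theorem straighten {m : ℕ} (c : Fin m → Idx d n) :
    Ideal.Quotient.mk (plIdealTop (d := d) (n := n) K) (chainMon K c) ∈
      Submodule.span K ((fun e : Chain d n =>
          Ideal.Quotient.mk (plIdealTop (d := d) (n := n) K) (mon K e)) ''
        {e | e.1 = m ∧ ∀ f, cont f e = ∑ k, wt f (c k).1}) := by
  classical
  set S : Idx d n → ℕ := fun a => wt Fin.val a.1 with hSdef
  have hbound : ∀ a, S a ≤ d * n := fun a => by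
    calc S a ≤ ∑ _t : Fin d, n := Finset.sum_le_sum fun t _ => (a.1 t).isLt.le
      _ = d * n := by simp
  generalize hN : m * (d * n) ^ 2 - ∑ k, S (c k) ^ 2 = N
  induction N using Nat.strong_induction_on generalizing c with
  | _ N ih =>
  by_cases hcmp : ∀ k l, c k ≤ c l ∨ c l ≤ c k
  · -- all comparable: sort
    let σ : Equiv.Perm (Fin m) := Fin.revPerm.trans (Tuple.sort fun k => S (c k))
    have hS : ∀ {a b : Idx d n}, a ≤ b → S b ≤ S a → a = b := fun {a b} h hle => by
      refine Subtype.ext (funext fun t => ?_)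
      have heq : S a = S b := le_antisymm (Finset.sum_le_sum fun s _ => Fin.le_def.1 (h s)) hle
      exact Fin.ext ((Finset.sum_eq_sum_iff_of_le fun s _ => Fin.le_def.1 (h s)).1 heq t
        (Finset.mem_univ t))
    have hanti : Antitone fun k => c (σ k) := fun k l hkl => by
      rcases hcmp (σ l) (σ k) with h | h
      · exact h
      · refine (hS h ?_).ge
        exact Tuple.monotone_sort (fun k => S (c k)) (Fin.rev_le_rev.2 hkl)
    refine Submodule.subset_span ⟨⟨m, _, hanti⟩, ⟨rfl, fun f => ?_⟩, ?_⟩
    · exact Equiv.sum_comp σ fun k => wt f (c k).1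
    · exact congrArg _ (Equiv.prod_comp σ fun k => (X (c k) : PlRing K d n))
  · push_neg at hcmp
    obtain ⟨k, l, hkl, hlk⟩ := hcmp
    wlog hSkl : S (c l) ≤ S (c k) generalizing k l
    · exact this l k hlk hkl (le_of_not_ge hSkl)
    have hne : k ≠ l := fun h => hkl (by rw [h])
    obtain ⟨r, hr⟩ := exists_pivot (i := c k) (j := c l) hlk
    have hpair := pair_mem_span K (c k) (c l) r hr
    have hmem : k ∈ (Finset.univ : Finset (Fin m)) := Finset.mem_univ _
    have hmem' : l ∈ Finset.univ.erase k := Finset.mem_erase.2 ⟨hne.symm, Finset.mem_univ _⟩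
    have hsplit : ∀ {M : Type u} [CommMonoid M] (g : Idx d n → M) (e : Fin m → Idx d n),
        ∏ x, g (e x) = g (e k) * g (e l) * ∏ x ∈ (Finset.univ.erase k).erase l, g (e x) :=
      fun g e => by rw [← Finset.mul_prod_erase _ _ hmem, ← Finset.mul_prod_erase _ _ hmem', mul_assoc]
    have hsplit' : ∀ (g : Idx d n → ℕ) (e : Fin m → Idx d n),
        ∑ x, g (e x) = g (e k) + g (e l) + ∑ x ∈ (Finset.univ.erase k).erase l, g (e x) :=
      fun g e => by rw [← Finset.add_sum_erase _ _ hmem, ← Finset.add_sum_erase _ _ hmem', add_assoc]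
    set T := Submodule.span K ((fun e : Chain d n =>
      Ideal.Quotient.mk (plIdealTop (d := d) (n := n) K) (mon K e)) ''
        {e | e.1 = m ∧ ∀ f, cont f e = ∑ k, wt f (c k).1})
    set P := Ideal.Quotient.mk (plIdealTop (d := d) (n := n) K)
      (∏ x ∈ (Finset.univ.erase k).erase l, X (c x))
    rw [chainMon, hsplit (fun a => (X a : PlRing K d n)) c, map_mul]
    refine Submodule.span_le.2 ?_ hpair |> fun h => (h : _ ∈ T.comap (LinearMap.mulRight K P))
    rintro _ ⟨⟨a, b⟩, ⟨hlt, hcont⟩, rfl⟩
    let c' : Fin m → Idx d n := Function.update (Function.update c k a) l b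
    have hk' : c' k = a := by simp [c', hne]
    have hl' : c' l = b := by simp [c']
    have hrest : ∀ x ∈ (Finset.univ.erase k).erase l, c' x = c x := fun x hx => by
      simp only [Finset.mem_erase] at hx
      simp [c', hx.1, hx.2.1]
    have hsum : ∀ g : Idx d n → ℕ, ∑ x, g (c' x) + (g (c k) + g (c l)) =
        ∑ x, g (c x) + (g a + g b) := fun g => by
      rw [hsplit' g c', hsplit' g c, hk', hl',
        Finset.sum_congr rfl fun x hx => congrArg g (hrest x hx)]
      ring
    have hcont' : ∀ f, ∑ x, wt f (c' x).1 = ∑ x, wt f (c x).1 := fun f => by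
      have h5 : ∑ x, wt f (c' x).1 + (wt f (c k).1 + wt f (c l).1) =
          ∑ x, wt f (c x).1 + (wt f a.1 + wt f b.1) := hsum fun x => wt f x.1
      have h6 : wt f a.1 + wt f b.1 = wt f (c k).1 + wt f (c l).1 := hcont f
      omega
    have hprog : ∑ x, S (c x) ^ 2 < ∑ x, S (c' x) ^ 2 := by
      have h1 := hsum fun x => S x ^ 2
      have h2 : S a + S b = S (c k) + S (c l) := hcont Fin.val
      have h3 : S (c k) < S a := hlt
      nlinarith [Nat.le.dest h3.le]
    have hle : ∑ x, S (c' x) ^ 2 ≤ m * (d * n) ^ 2 := by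
      calc ∑ x, S (c' x) ^ 2 ≤ ∑ _x : Fin m, (d * n) ^ 2 :=
            Finset.sum_le_sum fun x _ => Nat.pow_le_pow_left (hbound _) 2
        _ = _ := by simp
    have hrec := ih _ (by omega) c' rfl
    simp only [hcont'] at hrec
    change Ideal.Quotient.mk _ (X a * X b) * P ∈ T
    rw [← map_mul]
    convert hrec using 1
    rw [chainMon, hsplit (fun a => (X a : PlRing K d n)) c', hk', hl',
        Finset.prod_congr rfl fun x hx => congrArg (fun a => (X a : PlRing K d n)) (hrest x hx)]

/-- Chains span modulo the shuffle relations. -/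
theorem span_chains :
    Submodule.span K (Set.range fun e : Chain d n =>
      Ideal.Quotient.mk (plIdealTop (d := d) (n := n) K) (mon K e)) = ⊤ := by
  classical
  refine eq_top_iff.2 fun x _ => ?_
  obtain ⟨f, rfl⟩ := Ideal.Quotient.mk_surjective x
  induction f using MvPolynomial.induction_on' with
  | add p q hp hq => rw [map_add]; exact Submodule.add_mem _ (hp trivial) (hq trivial)
  | monomial s a =>
    rw [show monomial s a = a • monomial s (1 : K) by rw [smul_monomial, smul_eq_mul, mul_one]]
    change Ideal.Quotient.mkₐ K _ (a • _) ∈ _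
    rw [map_smul]
    refine Submodule.smul_mem _ a ?_
    obtain ⟨l, hl⟩ : ∃ l : List (Idx d n), (l : Multiset (Idx d n)) = Finsupp.toMultiset s :=
      ⟨_, Multiset.coe_toList _⟩
    have h : monomial s (1 : K) = chainMon K fun k : Fin l.length => l.get k := by
      have hp : (chainMon K fun k : Fin l.length => l.get k) = (l.map X).prod := by
        rw [chainMon, ← List.prod_ofFn]
        conv_rhs => rw [← List.ofFn_get l, List.map_ofFn]
        rfl
      rw [hp, ← Multiset.prod_coe, ← Multiset.map_coe, hl, Finset.prod_multiset_map_count,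
        Finsupp.toFinset_toMultiset, monomial_eq, C_1, one_mul, Finsupp.prod]
      exact Finset.prod_congr rfl fun x _ => by rw [Finsupp.count_toMultiset]
    rw [h]
    exact Submodule.span_mono (Set.image_subset_range _ _) (straighten K _)

end Groth.Agent.W4Gr15
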