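import Groth.Agent.W4Gr15.Schubert

/-!
# Standard monomial bases of quotients, and the shape of straightening relations
-/

universe u

open MvPolynomial W4bk4grassmannian

namespace Groth.Agent.W4Gr15

variable {d n : ℕ}

/-- Standard monomials indexed by `ι` form a basis of `S/J` once `J` is cut out by their coefficients. -/
theorem std_basis {K : Type u} [CommRing K] {J : Ideal (PlRing K d n)}
    {ι : Type*} (g : ι → Chain d n) (hg : Function.Injective g)
    (hJ : ∀ f v, f - comb K v ∈ plIdealTop (d := d) (n := n) K → (f ∈ J ↔ ∀ i, v (g i) = 0)) :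
    LinearIndependent K (fun i => Ideal.Quotient.mk J (mon K (g i))) ∧
      Submodule.span K (Set.range fun i => Ideal.Quotient.mk J (mon K (g i))) = ⊤ := by
  classical
  constructor
  · rw [linearIndependent_iff]
    intro l hl
    ext i
    have hmem : comb K (l.mapDomain g) ∈ J := by
      rw [← Ideal.Quotient.eq_zero_iff_mem, ← hl, comb, Finsupp.linearCombination_mapDomain,
        Finsupp.linearCombination_apply, Finsupp.linearCombination_apply]
      change Ideal.Quotient.mkₐ K J _ = _
      rw [map_finsuppSum]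
      exact Finsupp.sum_congr fun e _ => map_smul (Ideal.Quotient.mkₐ K J) _ _
    have := (hJ _ (l.mapDomain g) (by rw [sub_self]; exact zero_mem _)).1 hmem i
    rwa [Finsupp.mapDomain_apply hg] at this
  · refine eq_top_iff.2 fun x _ => ?_
    obtain ⟨f, rfl⟩ := Ideal.Quotient.mk_surjective x
    obtain ⟨v, hv⟩ := exists_comb K f
    let w := v.comapDomain g hg.injOn
    have hmem : f - comb K (w.mapDomain g) ∈ J := by
      have hv' : f - comb K (w.mapDomain g) - comb K (v - w.mapDomain g) ∈
          plIdealTop (d := d) (n := n) K := by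
        rwa [map_sub, sub_sub, add_sub_cancel]
      refine (hJ _ _ hv').2 fun i => ?_
      rw [Finsupp.sub_apply, Finsupp.mapDomain_apply hg, Finsupp.comapDomain_apply, sub_self]
    have heq : Ideal.Quotient.mk J f = Ideal.Quotient.mk J (comb K (w.mapDomain g)) :=
      (Ideal.Quotient.mk_eq_mk_iff_sub_mem _ _).2 hmem
    rw [heq, comb, Finsupp.linearCombination_mapDomain,
      Finsupp.linearCombination_apply]
    change Ideal.Quotient.mkₐ K J _ ∈ _
    rw [map_finsuppSum, Finsupp.sum]
    refine Submodule.sum_mem _ fun i _ => ?_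
    rw [map_smul]
    exact Submodule.smul_mem _ _ (Submodule.subset_span ⟨i, rfl⟩)

/-- The image of a combination, re-indexed. -/
lemma psi_comb {K : Type u} [CommRing K] {lo hi : Idx d n} (g : Chain d n → Std lo hi)
    (hg : ∀ e, bandProd K lo hi (g e).2.1 = bandProd K lo hi e.2.1) (v : Chain d n →₀ K) :
    psi K lo hi (comb K v) =
      (v.mapDomain g).sum fun c a => a • bandProd K lo hi c.2.1 := by
  rw [← Finsupp.linearCombination_apply, Finsupp.linearCombination_mapDomain, comb,
    ← AlgHom.toLinearMap_apply, Finsupp.apply_linearCombination]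
  congr 2
  funext e
  exact (psi_mon K lo hi e).trans (hg e).symm

variable {K : Type u} [Field K] [Infinite K]

/-- The shape of the straightening relation of a skew pair. -/
theorem skew (hd : 0 < d) (hdn : d ≤ n) (τ φ : Idx d n) :
    ∃ g ∈ Submodule.span K {f : PlRing K d n | ∃ α β : Idx d n,
        β ≤ α ∧ W4bk4grassmannian.sup τ φ < α ∧ β < W4bk4grassmannian.inf τ φ ∧
          (∀ g, wt g α.1 + wt g β.1 = wt g τ.1 + wt g φ.1) ∧ f = X α * X β},
      X τ * X φ - X (W4bk4grassmannian.sup τ φ) * X (W4bk4grassmannian.inf τ φ) - g ∈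
        plIdealTop (d := d) (n := n) K := by
  classical
  set T := plIdealTop (d := d) (n := n) K
  set E : Set (Chain d n) := {e | e.1 = 2 ∧ ∀ f, cont f e = wt f τ.1 + wt f φ.1}
  obtain ⟨v, hvE, hv⟩ : ∃ v : Chain d n →₀ K, (∀ e, v e ≠ 0 → e ∈ E) ∧
      X τ * X φ - comb K v ∈ T := by
    have h := straighten K ![τ, φ]
    simp only [Fin.sum_univ_two, Matrix.cons_val_zero, Matrix.cons_val_one] at h
    rw [Finsupp.mem_span_image_iff_linearCombination] at h
    obtain ⟨v, hv, hv'⟩ := h
    refine ⟨v, fun e he => hv (Finsupp.mem_support_iff.2 he), ?_⟩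
    rw [← Ideal.Quotient.mk_eq_mk_iff_sub_mem]
    refine Eq.trans (by simp [chainMon, Fin.prod_univ_two, T]) (hv'.symm.trans ?_)
    rw [comb, Finsupp.linearCombination_apply, Finsupp.linearCombination_apply]
    change _ = Ideal.Quotient.mkₐ K T _
    rw [map_finsuppSum]
    exact Finsupp.sum_congr fun e _ => (map_smul (Ideal.Quotient.mkₐ K T) _ _).symm
  -- tops and bottoms of the chains
  have hlen : ∀ e ∈ v.support, e.1 = 2 := fun e he => (hvE e (Finsupp.mem_support_iff.1 he)).1
  have hband : ∀ lo hi : Idx d n, ¬ (lo ≤ τ ∧ τ ≤ hi ∧ lo ≤ φ ∧ φ ≤ hi) →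
      ∀ e, InB lo hi e → v e = 0 := by
    intro lo hi hn
    refine (mem_bandIdeal_iff hd hv).1 ?_
    by_cases h1 : lo ≤ τ ∧ τ ≤ hi
    · exact Ideal.mul_mem_left _ _ (X_mem_bandIdeal K fun h2 => hn ⟨h1.1, h1.2, h2.1, h2.2⟩)
    · exact Ideal.mul_mem_right _ _ (X_mem_bandIdeal K h1)
  have htop : ∀ e ∈ v.support, ∀ k, k.val = 0 → W4bk4grassmannian.sup τ φ ≤ e.2.1 k := by
    intro e he k hk
    set F : Finset (Idx d n) := v.support.biUnion fun e => (Finset.univ.filter fun k : Fin e.1 => k.val = 0).image e.2.1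
    obtain ⟨α0, hle, hmin⟩ := F.exists_le_minimal (Finset.mem_biUnion.2 ⟨e, he,
      Finset.mem_image.2 ⟨k, Finset.mem_filter.2 ⟨Finset.mem_univ _, hk⟩, rfl⟩⟩)
    obtain ⟨e0, he0, hα0⟩ := Finset.mem_biUnion.1 hmin.prop
    obtain ⟨k0, hk0, rfl⟩ := Finset.mem_image.1 hα0
    by_contra hno
    refine Finsupp.mem_support_iff.1 he0 (hband (idxBot hdn) (e0.2.1 k0) (fun h => hno ?_) e0
      fun l => ⟨idxBot_le hdn _, e0.2.2 (Fin.le_def.2 (by simp at hk0; omega))⟩)
    exact fun t => (max_le (h.2.1 t) (h.2.2.2 t)).trans (hle t)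
  have hbot : ∀ e ∈ v.support, ∀ k, k.val = 1 → e.2.1 k ≤ W4bk4grassmannian.inf τ φ := by
    intro e he k hk
    set F : Finset (Idx d n) := v.support.biUnion fun e => (Finset.univ.filter fun k : Fin e.1 => k.val = 1).image e.2.1
    obtain ⟨β0, hle, hmax⟩ := F.exists_le_maximal (Finset.mem_biUnion.2 ⟨e, he,
      Finset.mem_image.2 ⟨k, Finset.mem_filter.2 ⟨Finset.mem_univ _, hk⟩, rfl⟩⟩)
    obtain ⟨e0, he0, hβ0⟩ := Finset.mem_biUnion.1 hmax.prop
    obtain ⟨k0, hk0, rfl⟩ := Finset.mem_image.1 hβ0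
    by_contra hno
    refine Finsupp.mem_support_iff.1 he0 (hband (e0.2.1 k0) (idxTop hdn) (fun h => hno ?_) e0
      fun l => ⟨e0.2.2 (Fin.le_def.2 (by have := hlen e0 he0; have := l.isLt; simp at hk0; omega)),
        le_idxTop hdn _⟩)
    exact fun t => (hle t).trans (le_min (h.1 t) (h.2.2.1 t))
  let e₁ : Chain d n := ⟨2, ![W4bk4grassmannian.sup τ φ, W4bk4grassmannian.inf τ φ], by
    intro a b hab
    fin_cases a <;> fin_cases b <;> simp at hab ⊢
    exact fun t => (min_le_left _ _).trans (le_max_left _ _)⟩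
  have hsi : ∀ f, wt f (W4bk4grassmannian.sup τ φ).1 + wt f (W4bk4grassmannian.inf τ φ).1 =
      wt f τ.1 + wt f φ.1 := fun f => by
    simp only [wt, W4bk4grassmannian.sup, W4bk4grassmannian.inf, ← Finset.sum_add_distrib]
    refine Finset.sum_congr rfl fun t _ => ?_
    rcases le_total (τ.1 t) (φ.1 t) with h | h
    · rw [max_eq_right h, min_eq_left h, add_comm]
    · rw [max_eq_left h, min_eq_right h]
  -- an element is determined by its content
  have hwt : ∀ a b : Idx d n, (∀ f, wt f a.1 = wt f b.1) → a = b := by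
    intro a b h
    have him : Finset.univ.image a.1 = Finset.univ.image b.1 := by
      ext x
      have := h fun y => if y = x then 1 else 0
      simp only [wt, Finset.sum_boole, Nat.cast_id] at this
      simp only [Finset.mem_image, Finset.mem_univ, true_and]
      constructor <;> rintro ⟨t, ht⟩ <;> by_contra hno <;>
        rw [Finset.card_eq_zero.2 (Finset.filter_eq_empty_iff.2 fun s _ hs => hno ⟨s, hs⟩)] at this
      · exact Finset.card_ne_zero.2 ⟨t, by simpa using ht⟩ this
      · exact Finset.card_ne_zero.2 ⟨t, by simpa using ht⟩ this.symm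
    have hcard : (Finset.univ.image b.1).card = d := by
      rw [Finset.card_image_of_injective _ b.2.injective, Finset.card_fin]
    refine Subtype.ext ?_
    rw [Finset.orderEmbOfFin_unique hcard (fun t => him ▸ Finset.mem_image_of_mem _ (Finset.mem_univ t)) a.2,
      ← Finset.orderEmbOfFin_unique hcard (fun t => Finset.mem_image_of_mem _ (Finset.mem_univ t)) b.2]
  -- off the sup-inf term the inequalities are strict
  have hstrict : ∀ e ∈ v.support, e ≠ e₁ → ∃ α β : Idx d n, β ≤ α ∧ W4bk4grassmannian.sup τ φ < α ∧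
      β < W4bk4grassmannian.inf τ φ ∧ (∀ g, wt g α.1 + wt g β.1 = wt g τ.1 + wt g φ.1) ∧
        mon K e = X α * X β := by
    intro e he hne
    obtain ⟨m, c, hc⟩ := e
    obtain rfl : m = 2 := hlen _ he
    have hcont : ∀ f, wt f (c 0).1 + wt f (c 1).1 = wt f τ.1 + wt f φ.1 := fun f => by
      have := (hvE _ (Finsupp.mem_support_iff.1 he)).2 f
      simpa [cont, Fin.sum_univ_two] using this
    have h1 : W4bk4grassmannian.sup τ φ ≤ c 0 := htop _ he 0 rfl
    have h2 : c 1 ≤ W4bk4grassmannian.inf τ φ := hbot _ he 1 rfl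
    refine ⟨c 0, c 1, hc (by decide), h1.lt_of_ne fun he0 => hne ?_, h2.lt_of_ne fun he0 => hne ?_,
      hcont, by simp [mon, chainMon, Fin.prod_univ_two]⟩
    · have : c 1 = W4bk4grassmannian.inf τ φ := hwt _ _ fun f => by
        have := hcont f; have := hsi f; rw [← he0] at *; omega
      have : c = ![W4bk4grassmannian.sup τ φ, W4bk4grassmannian.inf τ φ] := by
        funext k; fin_cases k <;> simp [this, ← he0]
      simp [e₁, this]
    · have : c 0 = W4bk4grassmannian.sup τ φ := hwt _ _ fun f => by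
        have := hcont f; have := hsi f; rw [he0] at *; omega
      have : c = ![W4bk4grassmannian.sup τ φ, W4bk4grassmannian.inf τ φ] := by
        funext k; fin_cases k <;> simp [this, he0]
      simp [e₁, this]
  -- the coefficient of the sup-inf term
  have hcoef : v e₁ = 1 := by
    let toStd : Chain d n → Std (idxBot hdn) (idxTop hdn) := fun e =>
      ⟨e.1, e.2.1, e.2.2, fun k => ⟨idxBot_le hdn _, le_idxTop hdn _⟩⟩
    have hinj : Function.Injective toStd := by
      rintro ⟨m, c, hc⟩ ⟨m', c', hc'⟩ h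
      obtain ⟨rfl, h'⟩ := Sigma.mk.inj h
      simp only [heq_eq_eq, Subtype.mk.injEq] at h'
      subst h'
      rfl
    have hP := psi_comb (K := K) toStd (fun e => rfl) v
    have h0 : psi K (idxBot hdn) (idxTop hdn) (X τ * X φ - comb K v) = 0 :=
      RingHom.mem_ker.1 (bandIdeal_le_ker K _ _ (plIdealTop_le_bandIdeal K _ _ hv))
    rw [map_sub, sub_eq_zero, map_mul, psi_X, psi_X, hP] at h0
    have hin : ∀ a : Idx d n, idxBot hdn ≤ a ∧ a ≤ idxTop hdn :=
      fun a => ⟨idxBot_le hdn a, le_idxTop hdn a⟩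
    obtain ⟨hdτ, hmτ⟩ := degree_bandMinor K (hin τ)
    obtain ⟨hdφ, hmφ⟩ := degree_bandMinor K (hin φ)
    have hne : v.mapDomain toStd ≠ 0 := fun hz => by
      rw [hz, Finsupp.sum_zero_index] at h0
      rcases mul_eq_zero.1 h0 with h | h
      · exact hmτ.ne_zero h
      · exact hmφ.ne_zero h
    obtain ⟨c₀, -, hdeg, hlc, -⟩ := leading_comb hd _ hne
    rw [← h0] at hdeg hlc
    rw [MonomialOrder.degree_mul hmτ.ne_zero hmφ.ne_zero, hdτ, hdφ] at hdeg
    rw [(hmτ.mul hmφ).leadingCoeff_eq_one] at hlc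
    have hc₀ : c₀ = toStd e₁ := by
      refine std_tabExp_injective hd (hdeg.symm.trans ?_)
      change _ = tabExp ![W4bk4grassmannian.sup τ φ, W4bk4grassmannian.inf τ φ]
      rw [tabExp, Fin.sum_univ_two]
      ext ⟨i, t⟩
      simp only [Finsupp.add_apply, colExp_apply, Matrix.cons_val_zero, Matrix.cons_val_one,
        W4bk4grassmannian.sup, W4bk4grassmannian.inf]
      rcases le_total (τ.1 t) (φ.1 t) with h | h
      · rw [max_eq_right h, min_eq_left h, add_comm]
      · rw [max_eq_left h, min_eq_right h]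
    rw [hc₀, Finsupp.mapDomain_apply hinj] at hlc
    exact hlc.symm
  refine ⟨comb K (v.erase e₁), ?_, ?_⟩
  · rw [comb, Finsupp.linearCombination_apply]
    refine Submodule.sum_mem _ fun e he' => ?_
    have he := Finsupp.mem_support_iff.1 he'
    refine Submodule.smul_mem _ _ ?_
    have hne : e ≠ e₁ := fun h => he (by rw [h, Finsupp.erase_same])
    obtain ⟨α, β, h1, h2, h3, h4, h5⟩ := hstrict e (Finsupp.mem_support_iff.2 (by
      rwa [Finsupp.erase_ne hne] at he)) hne
    exact Submodule.subset_span ⟨α, β, h1, h2, h3, h4, h5⟩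
  · have h1 : comb K v = X (W4bk4grassmannian.sup τ φ) * X (W4bk4grassmannian.inf τ φ) +
        comb K (v.erase e₁) := by
      conv_lhs => rw [← Finsupp.single_add_erase e₁ v, map_add, comb_single, hcoef, one_smul]
      simp [mon, chainMon, e₁, Fin.prod_univ_two]
    rwa [h1, ← sub_sub] at hv

end Groth.Agent.W4Gr15
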