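import Groth.Agent.W4Gr15.Normal
import Groth.Agent.DimLib.Algebra
import Groth.Agent.CAlgH3.CMPolynomial
import Groth.Agent.CAlgH3.QuotientLocal
import Mathlib.RingTheory.Jacobson.Ring

/-!
# Schubert cones are Cohen–Macaulay

Depth is bounded below by induction on the dimension: off `X w = 0` the cone is a Laurent cell, on it one cuts by the
regular element `X w` and uses unions of divisors, glued along smaller unions.
-/

universe u

open MvPolynomial W4bk4grassmannian
open scoped Pointwise

namespace Groth.Agent.W4Gr15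

lemma ringKrullDim_away {K : Type u} [Field K] {A : Type u} [CommRing A] [IsDomain A] [Algebra K A]
    [Algebra.FiniteType K A] {x : A} (hx : x ≠ 0) :
    ringKrullDim (Localization.Away x) = ringKrullDim A := by
  haveI : IsJacobsonRing A := isJacobsonRing_of_finiteType (A := K) (B := A)
  haveI : IsDomain (Localization.Away x) :=
    IsLocalization.isDomain_localization (powers_le_nonZeroDivisors_of_noZeroDivisors hx)
  haveI : Algebra.FiniteType A (Localization.Away x) := IsLocalization.finiteType_of_monoid_fg (Submonoid.powers x) _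
  haveI : Algebra.FiniteType K (Localization.Away x) := Algebra.FiniteType.trans (S := A) ‹_› ‹_›
  obtain ⟨m, hm, hxm⟩ : ∃ m : Ideal A, m.IsMaximal ∧ x ∉ m := by
    have h : x ∉ Ideal.jacobson (⊥ : Ideal A) := by
      rw [IsJacobsonRing.out ‹IsJacobsonRing A› (Ideal.isPrime_bot (α := A)).isRadical]
      simpa using hx
    simp only [Ideal.jacobson, Ideal.mem_sInf, Set.mem_setOf_eq, bot_le, true_and, not_forall,
      exists_prop] at h
    exact h
  haveI := hm
  have hdisj : Disjoint (Submonoid.powers x : Set A) (m : Set A) := by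
    rw [Set.disjoint_left]
    rintro _ ⟨k, rfl⟩ hk
    exact hxm (hm.isPrime.mem_of_pow_mem k hk)
  let M := m.map (algebraMap A (Localization.Away x))
  haveI : M.IsPrime := IsLocalization.isPrime_of_isPrime_disjoint _ _ _ hm.isPrime hdisj
  have hMm : M.IsMaximal := by
    refine Ideal.isMaximal_iff.2 ⟨(Ideal.ne_top_iff_one _).1 (Ideal.IsPrime.ne_top ‹_›),
      fun N a hMN ha haN => ?_⟩
    by_contra h1
    have hNtop : N ≠ ⊤ := fun h => h1 (h ▸ Submodule.mem_top)
    obtain ⟨P, hP, hNP⟩ := N.exists_le_maximal hNtop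
    have hle : m ≤ P.comap (algebraMap A (Localization.Away x)) := Ideal.map_le_iff_le_comap.1 (hMN.trans hNP)
    have heq := hm.eq_of_le (Ideal.IsPrime.comap (algebraMap A _)).ne_top hle
    refine ha ?_
    have hP' : P = M := by
      simp only [M]
      rw [heq]
      exact (IsLocalization.map_comap (Submonoid.powers x) _ P).symm
    exact hP' ▸ hNP haN
  rw [← DimLib.height_eq_of_isMaximal (k := K) M, ← DimLib.height_eq_of_isMaximal (k := K) m,
    IsLocalization.height_map_of_disjoint (Submonoid.powers x) m hdisj]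

variable {d n : ℕ} {K : Type u} [Field K]

lemma ringKrullDim_cellLaurent (w : Idx d n) :
    ringKrullDim (CellLaurent K w) = ((codeg w + 1 : ℕ) : WithBot ℕ∞) := by
  rw [ringKrullDim_away (K := K) (X_ne_zero _), MvPolynomial.ringKrullDim_of_isNoetherianRing,
    ringKrullDim_eq_zero_of_field, zero_add, Finite.card_option, card_freePos]

variable [Infinite K]

theorem ringKrullDim_sring (hd : 0 < d) (w : Idx d n) :
    ringKrullDim (SRing K w) = ((codeg w + 1 : ℕ) : WithBot ℕ∞) := by
  haveI := sring_isDomain (K := K) hd w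
  rw [← ringKrullDim_away (K := K) (extr_ne_zero hd w),
    ringKrullDim_eq_of_ringEquiv (cellEquiv hd w).toRingEquiv, ringKrullDim_cellLaurent]

/-- The local quotient ring at `m`. -/
abbrev locQuot (I m : Ideal (PlRing K d n)) [m.IsPrime] : Type u :=
  Localization.AtPrime m ⧸ I.map (algebraMap (PlRing K d n) (Localization.AtPrime m))

/-- All local depths of `S/I` at maximal ideals are at least `e`. -/
def DepthGE (I : Ideal (PlRing K d n)) (e : ℕ) : Prop :=
  ∀ (m : Ideal (PlRing K d n)) [m.IsMaximal],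
    (e : ℕ∞) ≤ LocCoh.depth (Localization.AtPrime m) (locQuot I m)

omit [Infinite K] in
lemma locQuot_subsingleton {I m : Ideal (PlRing K d n)} [m.IsPrime] (h : ¬ I ≤ m) :
    Subsingleton (locQuot I m) := by
  refine Ideal.Quotient.subsingleton_iff.2 ?_
  by_contra hne
  refine h fun a ha => ?_
  have := IsLocalRing.le_maximalIdeal hne (Ideal.mem_map_of_mem _ ha)
  rwa [← IsLocalization.AtPrime.to_map_mem_maximal_iff (Localization.AtPrime m) m]

omit [Infinite K] in
lemma depth_locQuot (I : Ideal (PlRing K d n)) (q : Ideal (PlRing K d n ⧸ I)) [q.IsPrime]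
    (m : Ideal (PlRing K d n)) [m.IsPrime] (h : q.comap (Ideal.Quotient.mk I) = m) :
    LocCoh.depth (Localization.AtPrime m) (locQuot I m) =
      LocCoh.depth (Localization.AtPrime q) (Localization.AtPrime q) := by
  subst h
  obtain ⟨e, -⟩ := CAlgH3.exists_quotientLocalEquiv I q
  haveI := e.symm.isLocalRing
  rw [← CAlgH3.depth_quotient_ring]
  exact CAlgH3.depth_ringEquiv e

omit [Infinite K] in
lemma depthGE_zero (I : Ideal (PlRing K d n)) : DepthGE I 0 := fun _ _ => by simp

omit [Infinite K] in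
/-- Gluing along the sum. -/
lemma depthGE_inf {I J : Ideal (PlRing K d n)} {e : ℕ} (hI : DepthGE I (e + 1)) (hJ : DepthGE J (e + 1))
    (hIJ : DepthGE (I ⊔ J) e) : DepthGE (I ⊓ J) (e + 1) := by
  intro m _
  let A := Localization.AtPrime m
  let f := algebraMap (PlRing K d n) A
  have hmap : (I ⊓ J).map f = I.map f ⊓ J.map f := IsLocalization.map_inf m.primeCompl A I J
  have hinl := CAlgH3.depth_congr (R := A)
    (Submodule.quotEquivOfEq _ _ hmap : locQuot (I ⊓ J) m ≃ₗ[A] A ⧸ (I.map f ⊓ J.map f))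
  have hsup := CAlgH3.depth_congr (R := A)
    (Submodule.quotEquivOfEq _ _ (Ideal.map_sup f I J) : locQuot (I ⊔ J) m ≃ₗ[A] A ⧸ (I.map f ⊔ J.map f))
  have h3 := hIJ m
  rw [hsup] at h3
  rw [hinl]
  set P := I.map f
  set Q := J.map f
  let φ : (A ⧸ (P ⊓ Q)) →ₗ[A] (A ⧸ P) × (A ⧸ Q) :=
    LinearMap.prod (Submodule.factor inf_le_left) (Submodule.factor inf_le_right)
  let ψ : (A ⧸ P) × (A ⧸ Q) →ₗ[A] A ⧸ (P ⊔ Q) :=
    (Submodule.factor le_sup_left).comp (LinearMap.fst A _ _) -
      (Submodule.factor le_sup_right).comp (LinearMap.snd A _ _)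
  have hfac : ∀ {S T : Submodule A A} (h : S ≤ T) (a : A),
      Submodule.factor h (Submodule.Quotient.mk a) = Submodule.Quotient.mk a := fun _ _ => rfl
  have hφ : Function.Injective φ := by
    refine (injective_iff_map_eq_zero φ).2 fun x hx => ?_
    obtain ⟨a, rfl⟩ := Submodule.Quotient.mk_surjective _ x
    simp only [φ, LinearMap.prod_apply, Function.prod_apply, Prod.mk_eq_zero, hfac,
      Submodule.Quotient.mk_eq_zero] at hx ⊢
    exact hx
  have hψ : Function.Surjective ψ := fun x => by
    obtain ⟨a, rfl⟩ := Submodule.Quotient.mk_surjective _ x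
    exact ⟨(Submodule.Quotient.mk a, 0), by simp [ψ]⟩
  have hex : Function.Exact φ ψ := by
    rintro ⟨x, y⟩
    obtain ⟨a, rfl⟩ := Submodule.Quotient.mk_surjective _ x
    obtain ⟨b, rfl⟩ := Submodule.Quotient.mk_surjective _ y
    simp only [ψ, LinearMap.sub_apply, LinearMap.comp_apply, LinearMap.fst_apply, LinearMap.snd_apply,
      hfac, ← Submodule.Quotient.mk_sub, Submodule.Quotient.mk_eq_zero]
    constructor
    · intro h
      obtain ⟨p, hp, q, hq, he⟩ := Submodule.mem_sup.1 h
      refine ⟨Submodule.Quotient.mk (a - p), ?_⟩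
      simp only [φ, LinearMap.prod_apply, Function.prod_apply, hfac, Prod.mk.injEq,
        Submodule.Quotient.eq]
      exact ⟨by rw [show a - p - a = -p by ring]; exact neg_mem hp,
        by rw [show a - p - b = q by linear_combination -he]; exact hq⟩
    · rintro ⟨z, hz⟩
      obtain ⟨c, rfl⟩ := Submodule.Quotient.mk_surjective _ z
      simp only [φ, LinearMap.prod_apply, Function.prod_apply, hfac, Prod.mk.injEq,
        Submodule.Quotient.eq] at hz
      exact Submodule.mem_sup.2 ⟨-(c - a), neg_mem hz.1, c - b, hz.2, by ring⟩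
  obtain ⟨-, -, hmain⟩ := LocCoh.idealDepth_shortExact (IsLocalRing.maximalIdeal A) _ _ _ φ ψ hφ hψ hex
  obtain ⟨hprod, -, -⟩ := LocCoh.idealDepth_shortExact (IsLocalRing.maximalIdeal A) (A ⧸ P)
    ((A ⧸ P) × (A ⧸ Q)) (A ⧸ Q) (LinearMap.inl A _ _) (LinearMap.snd A _ _)
    LinearMap.inl_injective LinearMap.snd_surjective Function.Exact.inl_snd
  refine le_trans (le_min ((le_min (hI m) (hJ m)).trans hprod) ?_) hmain
  push_cast
  exact add_le_add h3 le_rfl

/-- Depth at points of the cell. -/
lemma depth_cell (hd : 0 < d) (w : Idx d n) (m : Ideal (PlRing K d n)) [m.IsMaximal]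
    (hJ : schubertVanishing K d n w ≤ m) (hx : X w ∉ m) :
    ((codeg w + 1 : ℕ) : ℕ∞) ≤ LocCoh.depth (Localization.AtPrime m)
      (locQuot (schubertVanishing K d n w) m) := by
  haveI := sring_isDomain (K := K) hd w
  let π := Ideal.Quotient.mk (schubertVanishing K d n w)
  let q : Ideal (SRing K w) := m.map π
  have hcomap : q.comap π = m := by
    rw [Ideal.comap_map_of_surjective _ Ideal.Quotient.mk_surjective, ← RingHom.ker_eq_comap_bot,
      Ideal.mk_ker, sup_eq_left.2 hJ]
  haveI hq : q.IsMaximal := by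
    refine (Ideal.map_eq_top_or_isMaximal_of_surjective π Ideal.Quotient.mk_surjective
      (I := m) ‹_›).resolve_left fun h => ?_
    rw [show m.map π = q from rfl] at h
    rw [h, Ideal.comap_top] at hcomap
    exact (Ideal.IsMaximal.ne_top ‹_›) hcomap.symm
  -- the cell is Cohen–Macaulay
  haveI : LocCoh.IsCohenMacaulayRing K := CAlgH3.isCohenMacaulayRing_of_isRegularRing
  haveI : LocCoh.IsCohenMacaulayRing (MvPolynomial (ULift.{u} (Option (FreePos w))) K) :=
    CAlgH3.isCohenMacaulayRing_mvPolynomial _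
  haveI : LocCoh.IsCohenMacaulayRing (CellPoly K w) :=
    CAlgH3.isCohenMacaulayRing_of_ringEquiv (MvPolynomial.renameEquiv K
      (Equiv.ulift.{u, 0} (α := Option (FreePos w)))).toRingEquiv
  haveI : LocCoh.IsCohenMacaulayRing (CellLaurent K w) :=
    CAlgH3.isCohenMacaulayRing_of_isLocalization (Submonoid.powers (X none : CellPoly K w))
  haveI : LocCoh.IsCohenMacaulayRing (CellLoc K w) :=
    CAlgH3.isCohenMacaulayRing_of_ringEquiv (cellEquiv hd w).symm.toRingEquiv
  have hxq : extr K w ∉ q := fun h => hx (hcomap ▸ h)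
  have hdisj : Disjoint (Submonoid.powers (extr K w) : Set (SRing K w)) (q : Set (SRing K w)) := by
    rw [Set.disjoint_left]
    rintro _ ⟨k, rfl⟩ hk
    exact hxq (hq.isPrime.mem_of_pow_mem k hk)
  let q' := q.map (algebraMap (SRing K w) (CellLoc K w))
  haveI : q'.IsPrime := IsLocalization.isPrime_of_isPrime_disjoint _ _ _ hq.isPrime hdisj
  have hunder : q'.under (SRing K w) = q := IsLocalization.under_map_of_isPrime_disjoint _ _ hq.isPrime hdisj
  haveI hloc : IsLocalization.AtPrime (Localization.AtPrime q') q := by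
    convert IsLocalization.isLocalization_isLocalization_atPrime_isLocalization
      (Submonoid.powers (extr K w)) (Localization.AtPrime q') q'
    exact hunder.symm
  have hcm := LocCoh.IsCohenMacaulayRing.isCohenMacaulayLocalRing_localization (R := CellLoc K w) q'
  haveI : LocCoh.IsCohenMacaulayLocalRing (Localization.AtPrime q) :=
    CAlgH3.isCohenMacaulayLocalRing_of_ringEquiv (IsLocalization.algEquiv q.primeCompl
      (Localization.AtPrime q') (Localization.AtPrime q)).toRingEquiv
  have hdim : ringKrullDim (Localization.AtPrime q) = ((codeg w + 1 : ℕ) : WithBot ℕ∞) := by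
    rw [IsLocalization.AtPrime.ringKrullDim_eq_height q (Localization.AtPrime q), DimLib.height_eq_of_isMaximal (k := K) q,
      ringKrullDim_sring hd]
  have hdepth := (CAlgH3.isCohenMacaulayLocalRing_iff_depth (Localization.AtPrime q)).1 inferInstance
  rw [hdim] at hdepth
  rw [depth_locQuot _ q m hcomap]
  exact_mod_cast hdepth.le

lemma extr_regular (hd : 0 < d) (w : Idx d n) (m : Ideal (PlRing K d n)) [m.IsPrime]
    (hJ : schubertVanishing K d n w ≤ m) :
    IsSMulRegular (locQuot (schubertVanishing K d n w) m)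
      (algebraMap (PlRing K d n) (Localization.AtPrime m) (X w)) := by
  set J := schubertVanishing K d n w
  have hJp : J.IsPrime := schubertVanishing_isPrime hd w
  have hdisj : Disjoint (m.primeCompl : Set (PlRing K d n)) (J : Set (PlRing K d n)) :=
    Set.disjoint_compl_left_iff_subset.2 hJ
  have hP := IsLocalization.isPrime_of_isPrime_disjoint m.primeCompl (Localization.AtPrime m) J hJp hdisj
  have hx : algebraMap (PlRing K d n) (Localization.AtPrime m) (X w) ∉
      J.map (algebraMap (PlRing K d n) (Localization.AtPrime m)) := by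
    intro h
    have hc : (J.map (algebraMap (PlRing K d n) (Localization.AtPrime m))).under (PlRing K d n) = J :=
      IsLocalization.under_map_of_isPrime_disjoint _ _ hJp hdisj
    have h' := Ideal.mem_comap.2 h
    rw [← Ideal.under_def, hc] at h'
    exact X_notMem_schubertVanishing hd le_rfl h'
  intro a b hab
  obtain ⟨a, rfl⟩ := Ideal.Quotient.mk_surjective a
  obtain ⟨b, rfl⟩ := Ideal.Quotient.mk_surjective b
  rw [Ideal.Quotient.mk_eq_mk_iff_sub_mem]
  refine (hP.mem_or_mem ?_).resolve_left hx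
  rw [mul_sub, ← Ideal.Quotient.mk_eq_mk_iff_sub_mem]
  exact hab

lemma sup_iInf_divisors (hd : 0 < d) (w : Idx d n) (Φ : Finset (Idx d n)) :
    schubertVanishing K d n w ⊔ (⨅ ψ ∈ Φ, schubertVanishing K d n ψ) =
      ⨅ ψ ∈ Φ, schubertVanishing K d n (W4bk4grassmannian.inf w ψ) := by
  refine le_antisymm (sup_le ?_ ?_) fun f hf => ?_
  · exact le_iInf₂ fun ψ _ => schubertVanishing_anti hd fun t => min_le_left _ _
  · exact iInf₂_mono fun ψ _ => schubertVanishing_anti hd fun t => min_le_right _ _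
  obtain ⟨v, hv⟩ := exists_comb K f
  simp only [Ideal.mem_iInf] at hf
  rw [show f = (f - comb K v) + comb K v by ring]
  refine Ideal.add_mem _ (Ideal.mem_sup_left ?_) (comb_mem K fun e he => ?_)
  · rw [schubertVanishing_eq_bandIdeal hd (idx_le_of_nonempty w)]
    exact plIdealTop_le_bandIdeal K _ _ hv
  by_cases h1 : ∀ k, e.2.1 k ≤ w
  · refine Ideal.mem_sup_right ?_
    simp only [Ideal.mem_iInf]
    intro ψ hψ
    refine mon_mem_schubertVanishing hd fun h2 => he ?_
    exact (mem_schubertVanishing_iff hd hv).1 (hf ψ hψ) e fun k t => le_min (h1 k t) (h2 k t)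
  · exact Ideal.mem_sup_left (mon_mem_schubertVanishing hd h1)

lemma inf_mem_divisors {w φ ψ : Idx d n} (hφ : φ ∈ divisors w) (hψ : ψ ∈ divisors w) (h : φ ≠ ψ) :
    W4bk4grassmannian.inf φ ψ ∈ divisors φ := by
  have hlt : W4bk4grassmannian.inf φ ψ < φ := lt_of_le_of_ne (fun t => min_le_left _ _)
    fun he => divisor_not_le hφ hψ h fun t => by
      rw [← he]; exact min_le_right _ _
  refine ⟨hlt, ?_⟩
  have hle : W4bk4grassmannian.sup φ ψ ≤ w := fun t => max_le (hφ.1.le t) (hψ.1.le t)
  have hgt : φ < W4bk4grassmannian.sup φ ψ := lt_of_le_of_ne (fun t => le_max_left _ _)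
    fun he => divisor_not_le hψ hφ (Ne.symm h) fun t => by
      rw [he]; exact le_max_right _ _
  have h1 := codeg_mono hle
  have h2 := codeg_lt hgt
  have h3 : codeg (W4bk4grassmannian.sup φ ψ) + codeg (W4bk4grassmannian.inf φ ψ) = codeg φ + codeg ψ := by
    simp only [codeg, W4bk4grassmannian.sup, W4bk4grassmannian.inf, ← Finset.sum_add_distrib]
    refine Finset.sum_congr rfl fun t _ => ?_
    rcases le_total (φ.1 t) (ψ.1 t) with h | h
    · rw [max_eq_right h, min_eq_left h, add_comm]
    · rw [max_eq_left h, min_eq_right h]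
  have := hφ.2; have := hψ.2
  omega

/-- Unions of divisors, given the irreducible cases. -/
lemma depthGE_union (hd : 0 < d) : ∀ (c : ℕ),
    (∀ φ : Idx d n, codeg φ ≤ c → DepthGE (schubertVanishing K d n φ) (codeg φ + 1)) →
    ∀ (w : Idx d n) (Φ : Finset (Idx d n)), codeg w = c + 1 → Φ.Nonempty → (∀ φ ∈ Φ, φ ∈ divisors w) →
      DepthGE (⨅ φ ∈ Φ, schubertVanishing K d n φ) (c + 1) := by
  classical
  intro c
  induction c using Nat.strong_induction_on with
  | _ c ih =>
  intro hirr w Φ hw hne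
  induction hne using Finset.Nonempty.cons_induction with
  | singleton φ =>
    intro hΦ
    have h := (hΦ φ (Finset.mem_singleton_self φ)).2
    simp only [Finset.mem_singleton, iInf_iInf_eq_left]
    have := hirr φ (by omega)
    rwa [show codeg φ + 1 = c + 1 by omega] at this
  | cons φ Φ' hnot hne' ihΦ =>
    intro hΦ
    rw [Finset.cons_eq_insert, Finset.iInf_insert]
    have hφ := hΦ φ (Finset.mem_cons_self _ _)
    have hc : codeg φ = c := by have := hφ.2; omega
    refine depthGE_inf ?_ (ihΦ fun ψ hψ => hΦ ψ (Finset.mem_cons_of_mem hψ)) ?_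
    · have := hirr φ hc.le
      rwa [hc] at this
    rw [sup_iInf_divisors hd φ Φ']
    have hdiv : ∀ ψ ∈ Φ', W4bk4grassmannian.inf φ ψ ∈ divisors φ := fun ψ hψ =>
      inf_mem_divisors hφ (hΦ ψ (Finset.mem_cons_of_mem hψ)) fun he => hnot (he ▸ hψ)
    obtain ⟨ψ0, hψ0⟩ := hne'
    have := (hdiv ψ0 hψ0).2
    obtain ⟨c', rfl⟩ : ∃ c', c = c' + 1 := ⟨c - 1, by omega⟩
    have h := ih c' (Nat.lt_succ_self _) (fun θ hθ => hirr θ (by omega)) φ
      (Φ'.image (W4bk4grassmannian.inf φ)) hc ⟨_, Finset.mem_image_of_mem _ hψ0⟩ fun θ hθ => by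
        obtain ⟨ψ, hψ, rfl⟩ := Finset.mem_image.1 hθ
        exact hdiv ψ hψ
    rwa [Finset.iInf_finset_image] at h

theorem depthGE_sring (hd : 0 < d) (hdn : d < n) (w : Idx d n) :
    DepthGE (schubertVanishing K d n w) (codeg w + 1) := by
  classical
  generalize hc : codeg w = c
  induction c using Nat.strong_induction_on generalizing w with
  | _ c ih =>
  subst hc
  intro m _
  by_cases hJ : schubertVanishing K d n w ≤ m
  swap
  · haveI := locQuot_subsingleton hJ
    rw [CAlgH3.depth_eq_top_of_subsingleton]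
    exact le_top
  by_cases hx : X w ∈ m
  swap
  · exact depth_cell hd w m hJ hx
  let A := Localization.AtPrime m
  set x := algebraMap (PlRing K d n) A (X w)
  have hxm : x ∈ IsLocalRing.maximalIdeal A :=
    (IsLocalization.AtPrime.to_map_mem_maximal_iff A m _).2 hx
  rw [← CAlgH3.depth_quotSMulTop_add_one hxm (extr_regular hd w m hJ), Nat.cast_add, Nat.cast_one]
  refine add_le_add ?_ le_rfl
  by_cases hw : ∃ φ : Idx d n, φ < w
  swap
  · rw [eq_idxBot_of_minimal hdn.le hw]
    simp [codeg, idxBot]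
  obtain ⟨φ0, hφ0⟩ := hw
  obtain ⟨ψ, hψ, -⟩ := exists_divisor hφ0
  obtain ⟨c', hc'⟩ : ∃ c', codeg w = c' + 1 := ⟨codeg ψ, hψ.2.symm⟩
  have hU := depthGE_union (K := K) hd c' (fun φ hφ => ih _ (by omega) φ rfl) w
    ((divisors w).toFinset) hc' ⟨ψ, Set.mem_toFinset.2 hψ⟩ (fun φ hφ => Set.mem_toFinset.1 hφ) m
  rw [show (⨅ φ ∈ (divisors w).toFinset, schubertVanishing K d n φ) =
    ⨅ φ ∈ divisors w, schubertVanishing K d n φ by simp] at hU
  rw [← schubertVanishing_sup_span hd w ⟨φ0, hφ0⟩] at hU
  rw [hc']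
  refine hU.trans_eq (CAlgH3.depth_congr ?_).symm
  set J := (schubertVanishing K d n w).map (algebraMap (PlRing K d n) A)
  have hmap : (schubertVanishing K d n w ⊔ Ideal.span {X w}).map (algebraMap (PlRing K d n) A) =
      J ⊔ Ideal.span {x} := by
    rw [Ideal.map_sup, Ideal.map_span, Set.image_singleton]
  let e2 : (A ⧸ (J ⊔ Ideal.span {x})) ≃ₗ[A] locQuot (schubertVanishing K d n w ⊔ Ideal.span {X w}) m :=
    Submodule.quotEquivOfEq _ _ hmap.symm
  suffices h1 : Nonempty (QuotSMulTop x (A ⧸ J) ≃ₗ[A] A ⧸ (J ⊔ Ideal.span {x})) from h1.some.trans e2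
  refine ⟨?_⟩
  have e3 := Submodule.quotientQuotientEquivQuotient J (J ⊔ Ideal.span {x}) le_sup_left
  suffices hEq : (x • ⊤ : Submodule A (A ⧸ J)) = Submodule.map J.mkQ (J ⊔ Ideal.span {x}) from
    (Submodule.quotEquivOfEq _ _ hEq).trans e3
  rw [Submodule.map_sup, Submodule.mkQ_map_self, bot_sup_eq, ← Submodule.ideal_span_singleton_smul]
  apply le_antisymm
  · refine Submodule.smul_le.2 fun r hr y _ => ?_
    obtain ⟨y, rfl⟩ := Submodule.mkQ_surjective _ y
    rw [← map_smul]
    exact Submodule.mem_map_of_mem (by rw [smul_eq_mul]; exact Ideal.mul_mem_right _ _ hr)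
  · rintro _ ⟨r, hr, rfl⟩
    rw [show r = r • (1 : A) by rw [smul_eq_mul, mul_one], map_smul]
    exact Submodule.smul_mem_smul hr Submodule.mem_top

omit [Infinite K] in
/-- Cohen–Macaulayness from the depth bound. -/
theorem cm_of_depthGE {I : Ideal (PlRing K d n)} {e : ℕ}
    (hdim : ringKrullDim (PlRing K d n ⧸ I) ≤ (e : WithBot ℕ∞)) (h : DepthGE I e) :
    LocCoh.IsCohenMacaulayRing (PlRing K d n ⧸ I) := by
  refine CAlgH3.isCohenMacaulayRing_of_isMaximal fun q _ => ?_
  haveI hm : (q.comap (Ideal.Quotient.mk I)).IsMaximal :=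
    Ideal.comap_isMaximal_of_surjective _ Ideal.Quotient.mk_surjective
  rw [CAlgH3.isCohenMacaulayLocalRing_iff_depth]
  apply le_antisymm
  · rw [IsLocalization.AtPrime.ringKrullDim_eq_height q (Localization.AtPrime q)]
    refine ((Ideal.height_le_ringKrullDim_of_ne_top (Ideal.IsMaximal.ne_top ‹_›)).trans hdim).trans ?_
    have := h (q.comap (Ideal.Quotient.mk I))
    rw [depth_locQuot I q _ rfl] at this
    exact_mod_cast this
  · have := CAlgH3.depth_le_supportDim (R := Localization.AtPrime q) (M := Localization.AtPrime q)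
    rwa [Module.supportDim_self_eq_ringKrullDim] at this

lemma ringKrullDim_union_le (hd : 0 < d) {c : ℕ} (Φ : Finset (Idx d n)) (h : ∀ φ ∈ Φ, codeg φ = c) :
    ringKrullDim (PlRing K d n ⧸ ⨅ φ ∈ Φ, schubertVanishing K d n φ) ≤ ((c + 1 : ℕ) : WithBot ℕ∞) := by
  set I := ⨅ φ ∈ Φ, schubertVanishing K d n φ with hI
  refine iSup_le fun l => ?_
  have hprime : (l.head.asIdeal.comap (Ideal.Quotient.mk I)).IsPrime := Ideal.IsPrime.comap _
  have hle : Φ.inf (fun φ => schubertVanishing K d n φ) ≤ l.head.asIdeal.comap (Ideal.Quotient.mk I) := by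
    rw [Finset.inf_eq_iInf, ← hI]
    intro a ha
    rw [Ideal.mem_comap, Ideal.Quotient.eq_zero_iff_mem.2 ha]
    exact Submodule.zero_mem _
  obtain ⟨φ, hφ, hle⟩ := (Ideal.IsPrime.inf_le' hprime).1 hle
  have hIφ : I ≤ schubertVanishing K d n φ := iInf₂_le φ hφ
  let g : PlRing K d n ⧸ I →+* SRing K φ := Ideal.Quotient.factor hIφ
  have hg : ∀ i, RingHom.ker g ≤ (l i).asIdeal := by
    intro i a ha
    obtain ⟨a, rfl⟩ := Ideal.Quotient.mk_surjective a
    rw [RingHom.mem_ker, Ideal.Quotient.factor_mk, Ideal.Quotient.eq_zero_iff_mem] at ha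
    exact (show l.head ≤ l i from l.head_le i) (hle ha)
  have hs : Function.Surjective g := Ideal.Quotient.factor_surjective hIφ
  let l' : LTSeries (PrimeSpectrum (SRing K φ)) :=
    { length := l.length
      toFun := fun i => ⟨(l i).asIdeal.map g, Ideal.map_isPrime_of_surjective hs (hg i)⟩
      step := fun i => by
        have hlt : l i.castSucc < l i.succ := l.step i
        refine lt_of_le_of_ne (Ideal.map_mono hlt.le) fun he => hlt.ne ?_
        replace he : (l i.castSucc).asIdeal.map g = (l i.succ).asIdeal.map g := he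
        have := congrArg (Ideal.comap g) he
        simp only [Ideal.comap_map_of_surjective g hs, ← RingHom.ker_eq_comap_bot,
          sup_eq_left.2 (hg _)] at this
        exact PrimeSpectrum.ext this }
  calc (l.length : WithBot ℕ∞) = (l'.length : WithBot ℕ∞) := rfl
    _ ≤ ringKrullDim (SRing K φ) := Order.LTSeries.length_le_krullDim l'
    _ = _ := by rw [ringKrullDim_sring hd, h φ hφ]

theorem sring_cm (hd : 0 < d) (hdn : d < n) (w : Idx d n) :
    LocCoh.IsCohenMacaulayRing (SRing K w) :=
  cm_of_depthGE (ringKrullDim_sring hd w).le (depthGE_sring hd hdn w)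

theorem union_cm (hd : 0 < d) (hdn : d < n) (τ : Idx d n) {s : ℕ} (φ : Fin s → Idx d n)
    (hφ : ∀ i, φ i ∈ divisors τ) :
    LocCoh.IsCohenMacaulayRing (PlRing K d n ⧸ ⨅ i, schubertVanishing K d n (φ i)) := by
  classical
  have hrw : (⨅ i, schubertVanishing K d n (φ i)) =
      ⨅ ψ ∈ Finset.univ.image φ, schubertVanishing K d n ψ := by
    rw [Finset.iInf_finset_image]
    simp
  rw [hrw]
  rcases Nat.eq_zero_or_pos s with rfl | hs
  · exact cm_of_depthGE (e := 0) (by
      haveI : Subsingleton (PlRing K d n ⧸ ⨅ ψ ∈ Finset.univ.image φ, schubertVanishing K d n ψ) :=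
        Ideal.Quotient.subsingleton_iff.2 (by simp)
      rw [ringKrullDim_eq_bot_of_subsingleton]
      exact bot_le) (depthGE_zero _)
  obtain ⟨c, hc⟩ : ∃ c, codeg τ = c + 1 := ⟨_, (hφ ⟨0, hs⟩).2.symm⟩
  have hmem : ∀ ψ ∈ Finset.univ.image φ, ψ ∈ divisors τ := fun ψ hψ => by
    obtain ⟨i, -, rfl⟩ := Finset.mem_image.1 hψ
    exact hφ i
  refine cm_of_depthGE (ringKrullDim_union_le hd _ fun ψ hψ => ?_)
    (depthGE_union hd c (fun θ _ => depthGE_sring hd hdn θ) τ _ hc
      ⟨φ ⟨0, hs⟩, Finset.mem_image_of_mem _ (Finset.mem_univ _)⟩ hmem)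
  have := (hmem ψ hψ).2
  omega

end Groth.Agent.W4Gr15
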