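import Groth.Agent.CAlgH3.Serre
import Mathlib.RingTheory.Regular.RegularSequence
import Mathlib.RingTheory.Ideal.Height

/-!
# Regular sequences on glued quotients; `S₂` for domains
-/

universe u

open RingTheory.Sequence IsLocalRing
open scoped Pointwise

namespace Groth.Agent.W4Gr15

variable {R : Type*} [CommRing R]

lemma isWeaklyRegular_prod : ∀ (rs : List R) (M₁ : Type u) (M₂ : Type u) [AddCommGroup M₁] [Module R M₁]
    [AddCommGroup M₂] [Module R M₂],
    IsWeaklyRegular M₁ rs → IsWeaklyRegular M₂ rs → IsWeaklyRegular (M₁ × M₂) rs := by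
  intro rs
  induction rs with
  | nil => intro M₁ M₂ _ _ _ _ _ _; simp
  | cons r rs ih =>
    intro M₁ M₂ _ _ _ _ h₁ h₂
    rw [isWeaklyRegular_cons_iff] at h₁ h₂ ⊢
    refine ⟨fun x y h => Prod.ext (h₁.1 (congrArg Prod.fst h)) (h₂.1 (congrArg Prod.snd h)), ?_⟩
    let e : QuotSMulTop r (M₁ × M₂) →ₗ[R] QuotSMulTop r M₁ × QuotSMulTop r M₂ :=
      (QuotSMulTop.map r (LinearMap.fst R M₁ M₂)).prod (QuotSMulTop.map r (LinearMap.snd R M₁ M₂))
    have he : Function.Bijective e := by
      constructor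
      · rw [← LinearMap.ker_eq_bot, eq_bot_iff]
        intro x hx
        obtain ⟨⟨a, b⟩, rfl⟩ := Submodule.Quotient.mk_surjective _ x
        rw [LinearMap.mem_ker] at hx
        have ha := congrArg Prod.fst hx
        have hb := congrArg Prod.snd hx
        simp only [e, LinearMap.prod_apply, Function.prod_apply, QuotSMulTop.map_apply_mk, LinearMap.fst_apply,
          LinearMap.snd_apply, Prod.fst_zero, Prod.snd_zero, Submodule.Quotient.mk_eq_zero,
          Submodule.mem_smul_pointwise_iff_exists] at ha hb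
        obtain ⟨a', -, rfl⟩ := ha
        obtain ⟨b', -, rfl⟩ := hb
        rw [Submodule.mem_bot, Submodule.Quotient.mk_eq_zero, Submodule.mem_smul_pointwise_iff_exists]
        exact ⟨(a', b'), trivial, rfl⟩
      · rintro ⟨x, y⟩
        obtain ⟨a, rfl⟩ := Submodule.Quotient.mk_surjective _ x
        obtain ⟨b, rfl⟩ := Submodule.Quotient.mk_surjective _ y
        exact ⟨Submodule.Quotient.mk (a, b), rfl⟩
    exact ((LinearEquiv.ofBijective e he).isWeaklyRegular_congr rs).2 (ih _ _ h₁.2 h₂.2)

/-- A regular sequence descends to the kernel, one step longer than on the cokernel. -/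
lemma isWeaklyRegular_of_exact : ∀ (rs : List R) (g : R) (L : Type u) (M : Type u) (N : Type u)
    [AddCommGroup L] [Module R L] [AddCommGroup M] [Module R M] [AddCommGroup N] [Module R N]
    (i : L →ₗ[R] M) (p : M →ₗ[R] N), Function.Injective i → Function.Exact i p → Function.Surjective p →
    IsWeaklyRegular M (rs ++ [g]) → IsWeaklyRegular N rs → IsWeaklyRegular L (rs ++ [g]) := by
  intro rs
  induction rs with
  | nil =>
    intro g L M N _ _ _ _ _ _ i p hi _ _ hM _
    rw [List.nil_append, isWeaklyRegular_singleton_iff] at hM ⊢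
    exact fun x y h => hi (hM (show g • i x = g • i y by rw [← map_smul, ← map_smul]; exact congrArg i h))
  | cons r rs ih =>
    intro g L M N _ _ _ _ _ _ i p hi he hp hM hN
    rw [List.cons_append, isWeaklyRegular_cons_iff] at hM ⊢
    rw [isWeaklyRegular_cons_iff] at hN
    refine ⟨fun x y h => hi (hM.1 (show r • i x = r • i y by rw [← map_smul, ← map_smul]; exact congrArg i h)), ?_⟩
    refine ih g _ _ _ (QuotSMulTop.map r i) (QuotSMulTop.map r p) ?_ (QuotSMulTop.map_exact r he hp)
      (QuotSMulTop.map_surjective r hp) hM.2 hN.2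
    rw [← LinearMap.ker_eq_bot, eq_bot_iff]
    intro x hx
    obtain ⟨l, rfl⟩ := Submodule.Quotient.mk_surjective _ x
    rw [LinearMap.mem_ker, QuotSMulTop.map_apply_mk, Submodule.Quotient.mk_eq_zero,
      Submodule.mem_smul_pointwise_iff_exists] at hx
    obtain ⟨m, -, hm⟩ := hx
    have h0 : p m = 0 := hN.1 (show r • p m = r • 0 by
      rw [← map_smul, hm, smul_zero, he.apply_apply_eq_zero])
    obtain ⟨l', rfl⟩ := (he m).1 h0
    rw [Submodule.mem_bot, Submodule.Quotient.mk_eq_zero, Submodule.mem_smul_pointwise_iff_exists]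
    exact ⟨l', trivial, hi (by rw [map_smul]; exact hm)⟩

variable {A : Type u} [CommRing A]

lemma exact_inf_sup (I J : Ideal A) :
    ∃ (i : A ⧸ (I ⊓ J) →ₗ[A] (A ⧸ I) × (A ⧸ J)) (p : (A ⧸ I) × (A ⧸ J) →ₗ[A] A ⧸ (I ⊔ J)),
      Function.Injective i ∧ Function.Exact i p ∧ Function.Surjective p := by
  let i : A ⧸ (I ⊓ J) →ₗ[A] (A ⧸ I) × (A ⧸ J) :=
    (Submodule.factor (p := (I ⊓ J : Submodule A A)) inf_le_left).prod
      (Submodule.factor (p := (I ⊓ J : Submodule A A)) inf_le_right)
  let p : (A ⧸ I) × (A ⧸ J) →ₗ[A] A ⧸ (I ⊔ J) :=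
    (Submodule.factor (p := (I : Submodule A A)) le_sup_left).coprod
      (-Submodule.factor (p := (J : Submodule A A)) le_sup_right)
  refine ⟨i, p, ?_, ?_, ?_⟩
  · rw [← LinearMap.ker_eq_bot, eq_bot_iff]
    intro x hx
    obtain ⟨a, rfl⟩ := Submodule.Quotient.mk_surjective _ x
    rw [LinearMap.mem_ker] at hx
    rw [Submodule.mem_bot, Submodule.Quotient.mk_eq_zero]
    exact ⟨(Submodule.Quotient.mk_eq_zero _).1 (congrArg Prod.fst hx),
      (Submodule.Quotient.mk_eq_zero _).1 (congrArg Prod.snd hx)⟩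
  · rintro ⟨x, y⟩
    obtain ⟨a, rfl⟩ := Submodule.Quotient.mk_surjective _ x
    obtain ⟨b, rfl⟩ := Submodule.Quotient.mk_surjective _ y
    constructor
    · intro h
      have h' : a - b ∈ I ⊔ J := by
        rw [← Submodule.Quotient.mk_eq_zero, Submodule.Quotient.mk_sub, sub_eq_add_neg]
        exact h
      obtain ⟨u, hu, v, hv, huv⟩ := Submodule.mem_sup.1 h'
      refine ⟨Submodule.Quotient.mk (a - u), Prod.ext ?_ ?_⟩
      · exact (Submodule.Quotient.eq I).2 (by rw [LinearMap.id_apply, sub_sub_cancel_left]; exact neg_mem hu)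
      · exact (Submodule.Quotient.eq J).2 (by
          rw [LinearMap.id_apply, show a - u - b = v by rw [sub_right_comm, ← huv, add_sub_cancel_left]]; exact hv)
    · rintro ⟨z, hz⟩
      obtain ⟨c, rfl⟩ := Submodule.Quotient.mk_surjective _ z
      rw [← hz]
      simp [i, p]
  · intro x
    obtain ⟨a, rfl⟩ := Submodule.Quotient.mk_surjective _ x
    exact ⟨(Submodule.Quotient.mk a, 0), by simp [p]⟩

lemma isRegular_inf [IsLocalRing A] (I J : Ideal A) (rs : List A) (g : A)
    (hmem : ∀ x ∈ rs ++ [g], x ∈ maximalIdeal A)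
    (hI : IsRegular (A ⧸ I) (rs ++ [g])) (hJ : IsWeaklyRegular (A ⧸ J) (rs ++ [g]))
    (hIJ : IsWeaklyRegular (A ⧸ (I ⊔ J)) rs) : IsRegular (A ⧸ (I ⊓ J)) (rs ++ [g]) := by
  obtain ⟨i, p, hi, he, hp⟩ := exact_inf_sup I J
  have hI' : I ≠ ⊤ := fun h =>
    not_subsingleton_iff_nontrivial.2 hI.nontrivial (Submodule.Quotient.subsingleton_iff.2 h)
  haveI : Nontrivial (A ⧸ (I ⊓ J)) := Submodule.Quotient.nontrivial_iff.2 fun h => hI' (eq_top_iff.2 (h ▸ inf_le_left))
  exact (IsLocalRing.isRegular_iff_isWeaklyRegular_of_subset_maximalIdeal hmem).2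
    (isWeaklyRegular_of_exact rs g _ _ _ i p hi he hp (isWeaklyRegular_prod _ _ _ hI.1 hJ) hIJ)

variable [IsDomain A] [IsNoetherianRing A]

omit [IsDomain A] in
lemma depth_quot_eq_zero_iff [IsLocalRing A] {b : A} (hbm : b ∈ maximalIdeal A) :
    LocCoh.depth A (QuotSMulTop b A) = 0 ↔ maximalIdeal A ∈ associatedPrimes A (A ⧸ Ideal.span {b}) := by
  haveI : Nontrivial (QuotSMulTop b A) := CAlgH3.nontrivial_quotSMulTop (M := A) hbm
  rw [CAlgH3.depth_eq_zero_iff, LinearEquiv.AssociatedPrimes.eq (CAlgH3.quotSMulTopSelf b)]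

lemma mem_associatedPrimes_localization {P : Ideal A} [P.IsPrime] {a : A} :
    P ∈ associatedPrimes A (A ⧸ Ideal.span {a}) ↔
      maximalIdeal (Localization.AtPrime P) ∈ associatedPrimes (Localization.AtPrime P)
        (Localization.AtPrime P ⧸ Ideal.span {algebraMap A (Localization.AtPrime P) a}) := by
  set L := Localization.AtPrime P
  have hmap : (Ideal.span {a}).map (algebraMap A L) = Ideal.span {algebraMap A L a} := by
    rw [Ideal.map_span, Set.image_singleton]
  constructor
  · intro hP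
    obtain ⟨-, x, hx⟩ := isAssociatedPrime_iff.1 hP
    obtain ⟨c, rfl⟩ := Submodule.Quotient.mk_surjective _ x
    have hmem : ∀ z, z ∈ P ↔ z * c ∈ Ideal.span {a} := fun z => by
      rw [hx, Submodule.mem_colon_singleton, Submodule.mem_bot, ← Submodule.Quotient.mk_smul,
        Submodule.Quotient.mk_eq_zero, smul_eq_mul]
    obtain ⟨hc, hkill⟩ := CAlgH3.killed_localization hmem
    rw [hmap] at hc hkill
    refine isAssociatedPrime_iff.2 ⟨inferInstance, Submodule.Quotient.mk (algebraMap A L c), ?_⟩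
    refine (IsLocalRing.maximalIdeal.isMaximal L).eq_of_le ?_ fun z hz => ?_
    · intro h
      refine hc ((Submodule.Quotient.mk_eq_zero _).1 ?_)
      have : (1 : L) ∈ (⊥ : Submodule L (L ⧸ Ideal.span {algebraMap A L a})).colon
          {Submodule.Quotient.mk (algebraMap A L c)} := by rw [h]; trivial
      rwa [Submodule.mem_colon_singleton, one_smul, Submodule.mem_bot] at this
    · rw [Submodule.mem_colon_singleton, Submodule.mem_bot, ← Submodule.Quotient.mk_smul,
        Submodule.Quotient.mk_eq_zero, smul_eq_mul]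
      exact hkill z hz
  · intro hm
    obtain ⟨-, x, hx⟩ := isAssociatedPrime_iff.1 hm
    obtain ⟨y, rfl⟩ := Submodule.Quotient.mk_surjective _ x
    obtain ⟨c, s, rfl⟩ := IsLocalization.exists_mk'_eq P.primeCompl y
    have hmem : ∀ z, z ∈ maximalIdeal L ↔ z * algebraMap A L c ∈ Ideal.span {algebraMap A L a} := fun z => by
      rw [hx, Submodule.mem_colon_singleton, Submodule.mem_bot, ← Submodule.Quotient.mk_smul,
        Submodule.Quotient.mk_eq_zero, smul_eq_mul, IsLocalization.mk'_eq_mul_mk'_one, ← mul_assoc,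
        Ideal.mul_unit_mem_iff_mem _ (isUnit_iff_exists_inv.2 ⟨algebraMap A L s, by
          rw [IsLocalization.mk'_spec, map_one]⟩)]
    obtain ⟨G, hG⟩ := (isNoetherian_def.1 (inferInstance : IsNoetherian A A)) P
    have hg : ∀ z ∈ G, ∃ t ∈ P.primeCompl, t * (z * c) ∈ Ideal.span {a} := by
      intro z hz
      have hzP : z ∈ P := hG ▸ Submodule.subset_span hz
      have := (hmem (algebraMap A L z)).1 ((IsLocalization.AtPrime.to_map_mem_maximal_iff L P z).2 hzP)
      rw [← map_mul, ← hmap] at this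
      exact (IsLocalization.algebraMap_mem_map_algebraMap_iff P.primeCompl _ _ _).1 this
    choose! t ht htc using hg
    refine isAssociatedPrime_iff.2 ⟨inferInstance, Submodule.Quotient.mk ((∏ z ∈ G, t z) * c), ?_⟩
    refine le_antisymm ?_ ?_
    · conv_lhs => rw [← hG]
      refine Submodule.span_le.2 fun z hz => ?_
      rw [SetLike.mem_coe, Submodule.mem_colon_singleton, Submodule.mem_bot, ← Submodule.Quotient.mk_smul,
        Submodule.Quotient.mk_eq_zero, smul_eq_mul]
      classical
      rw [← Finset.prod_erase_mul G t hz,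
        show z * ((∏ x ∈ G.erase z, t x) * t z * c) = (∏ x ∈ G.erase z, t x) * (t z * (z * c)) by ring]
      exact Ideal.mul_mem_left _ _ (htc z hz)
    · intro z hz
      rw [Submodule.mem_colon_singleton, Submodule.mem_bot, ← Submodule.Quotient.mk_smul,
        Submodule.Quotient.mk_eq_zero, smul_eq_mul] at hz
      have hu : IsUnit (algebraMap A L (∏ x ∈ G, t x)) :=
        IsLocalization.map_units L ⟨_, prod_mem ht⟩
      have : algebraMap A L z * algebraMap A L c ∈ Ideal.span {algebraMap A L a} := by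
        rw [← Ideal.unit_mul_mem_iff_mem _ hu, ← map_mul, ← map_mul, ← hmap]
        exact Ideal.mem_map_of_mem _ (by rw [mul_left_comm]; exact hz)
      exact (IsLocalization.AtPrime.to_map_mem_maximal_iff L P z).1 ((hmem _).2 this)

lemma depth_atPrime_eq {P : Ideal A} [P.IsPrime] {a : A} (ha : a ≠ 0) (haP : a ∈ P) :
    ∃ d : ℕ∞, LocCoh.depth (Localization.AtPrime P) (Localization.AtPrime P) = d + 1 ∧
      (d = 0 ↔ P ∈ associatedPrimes A (A ⧸ Ideal.span {a})) := by
  have hbm : algebraMap A (Localization.AtPrime P) a ∈ maximalIdeal (Localization.AtPrime P) :=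
    (IsLocalization.AtPrime.to_map_mem_maximal_iff _ P a).2 haP
  have hne : algebraMap A (Localization.AtPrime P) a ≠ 0 := fun h =>
    ha (IsLocalization.injective (Localization.AtPrime P) P.primeCompl_le_nonZeroDivisors (by rw [h, map_zero]))
  have hreg : IsSMulRegular (Localization.AtPrime P) (algebraMap A (Localization.AtPrime P) a) :=
    fun x y h => mul_left_cancel₀ hne h
  exact ⟨_, (CAlgH3.depth_quotSMulTop_add_one hbm hreg).symm,
    (depth_quot_eq_zero_iff hbm).trans mem_associatedPrimes_localization.symm⟩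

theorem hasS2_iff : LocCoh.HasSk 2 A A ↔
    ∀ a : A, a ≠ 0 → ∀ P : Ideal A, P ∈ associatedPrimes A (A ⧸ Ideal.span {a}) → P.height = 1 := by
  rw [CAlgH3.hasSk_self_iff]
  constructor
  · intro h a ha P hP
    haveI := IsAssociatedPrime.isPrime hP
    have haP : a ∈ P := by
      obtain ⟨-, x, hx⟩ := isAssociatedPrime_iff.1 hP
      obtain ⟨c, rfl⟩ := Submodule.Quotient.mk_surjective _ x
      rw [hx, Submodule.mem_colon_singleton, Submodule.mem_bot, ← Submodule.Quotient.mk_smul,
        Submodule.Quotient.mk_eq_zero, smul_eq_mul]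
      exact Ideal.mul_mem_right _ _ (Ideal.mem_span_singleton_self a)
    obtain ⟨d, hd, hd0⟩ := depth_atPrime_eq ha haP
    have h' := h P
    rw [hd, hd0.2 hP, zero_add, IsLocalization.AtPrime.ringKrullDim_eq_height P] at h'
    refine le_antisymm ?_ (Order.one_le_iff_ne_zero.2 fun h0 => ?_)
    · rcases min_le_iff.1 h' with h2 | h2
      · exact absurd h2 (by decide)
      · exact WithBot.coe_le_coe.1 h2
    · rw [Ideal.height_eq_zero_iff_eq_bot] at h0
      exact ha (by rwa [h0] at haP)
  · intro h P _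
    rw [IsLocalization.AtPrime.ringKrullDim_eq_height P]
    rcases eq_or_ne P ⊥ with hbot | hbot
    · rw [show P.height = 0 from Ideal.height_eq_zero_iff_eq_bot.2 hbot]
      exact (min_le_right _ _).trans (WithBot.coe_le_coe.2 zero_le)
    obtain ⟨a, haP, ha⟩ := Submodule.exists_mem_ne_zero_of_ne_bot hbot
    obtain ⟨d, hd, hd0⟩ := depth_atPrime_eq ha haP
    rw [hd]
    by_cases hd' : d = 0
    · rw [h a ha P (hd0.1 hd'), hd', zero_add]
      exact min_le_right _ _
    · refine (min_le_left _ _).trans (WithBot.coe_le_coe.2 ?_)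
      calc ((2 : ℕ) : ℕ∞) = 1 + 1 := by norm_num
        _ ≤ d + 1 := add_le_add_left (Order.one_le_iff_ne_zero.2 hd') 1

end Groth.Agent.W4Gr15
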