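import Groth.Agent.W4Gr15.Chart
import Mathlib.RingTheory.Ideal.UFD
import Mathlib.RingTheory.Polynomial.UniqueFactorization
import Mathlib.GroupTheory.MonoidLocalization.UniqueFactorization
import Mathlib.RingTheory.IntegralClosure.IntegrallyClosed
import Mathlib.RingTheory.UniqueFactorizationDomain.GCDMonoid
import Mathlib.RingTheory.Polynomial.RationalRoot
import Mathlib.Algebra.MvPolynomial.Division

/-!
# Normality and factoriality of Schubert coordinate rings
-/

universe u

open MvPolynomial W4bk4grassmannian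

namespace Groth.Agent.W4Gr15

/-- A domain is normal if it is so after inverting an element generating a radical ideal. -/
theorem isIntegrallyClosed_of_away {R : Type u} [CommRing R] [IsDomain R] (x : R) (hx : x ≠ 0)
    (hrad : (Ideal.span {x}).IsRadical) [IsIntegrallyClosed (Localization.Away x)] :
    IsIntegrallyClosed R := by
  have hM : Submonoid.powers x ≤ nonZeroDivisors R :=
    powers_le_nonZeroDivisors_of_noZeroDivisors hx
  let F := FractionRing R
  have hu : IsUnit (algebraMap R F x) := IsUnit.mk0 _ (by simpa using hx)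
  letI : Algebra (Localization.Away x) F := (IsLocalization.Away.lift x hu).toAlgebra
  haveI : IsScalarTower R (Localization.Away x) F :=
    IsScalarTower.of_algebraMap_eq fun r => (IsLocalization.Away.lift_eq x hu r).symm
  haveI : IsFractionRing (Localization.Away x) F :=
    IsFractionRing.isFractionRing_of_isDomain_of_isLocalization (Submonoid.powers x) _ _
  rw [isIntegrallyClosed_iff F]
  intro z hz
  obtain ⟨y, hy⟩ := IsIntegrallyClosed.isIntegral_iff.1 (hz.tower_top (A := Localization.Away x))
  obtain ⟨r, ⟨_, N, rfl⟩, hr⟩ := IsLocalization.exists_mk'_eq (Submonoid.powers x) y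
  have hzr : z * algebraMap R F x ^ N = algebraMap R F r := by
    rw [← hy, ← hr, ← map_pow, IsScalarTower.algebraMap_apply R (Localization.Away x) F (x ^ N),
      ← map_mul, IsLocalization.mk'_spec, ← IsScalarTower.algebraMap_apply]
  clear hr hy
  induction N generalizing r with
  | zero => exact ⟨r, by rw [← hzr, pow_zero, mul_one]⟩
  | succ N ih =>
    have hr : r ∈ Ideal.span {x} := by
      obtain ⟨p, hmon, hp⟩ := hz
      refine hrad ⟨p.natDegree + 1, ?_⟩
      -- multiply the integral equation by `x ^ ((N + 1) * deg)`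
      let q := p.scaleRoots (x ^ (N + 1))
      have hq : q.eval₂ (algebraMap R F) (algebraMap R F r) = 0 := by
        rw [← hzr, mul_comm, ← map_pow]
        exact Polynomial.scaleRoots_eval₂_eq_zero (algebraMap R F) hp
      rw [Polynomial.eval₂_at_apply, map_eq_zero_iff _ (IsFractionRing.injective R F)] at hq
      have hdeg : q.natDegree = p.natDegree := Polynomial.natDegree_scaleRoots _ _
      rw [Polynomial.eval_eq_sum_range, Finset.sum_range_succ, hdeg] at hq
      have hlead : q.coeff p.natDegree = 1 := by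
        simp [q, Polynomial.coeff_scaleRoots, hmon.coeff_natDegree]
      rw [hlead, one_mul] at hq
      rw [pow_succ]
      refine Ideal.mul_mem_right _ _ ?_
      rw [eq_neg_of_add_eq_zero_right hq]
      refine (Ideal.span {x}).neg_mem (Ideal.sum_mem _ fun i hi => Ideal.mul_mem_right _ _ ?_)
      rw [Finset.mem_range] at hi
      simp only [q, Polynomial.coeff_scaleRoots, ← pow_mul]
      refine Ideal.mul_mem_left _ _ (Ideal.pow_mem_of_mem _ (Ideal.mem_span_singleton_self x) _ ?_)
      exact Nat.mul_pos (Nat.succ_pos N) (by omega)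
    obtain ⟨s, rfl⟩ := Ideal.mem_span_singleton'.1 hr
    refine ih s (mul_right_cancel₀ (show algebraMap R F x ≠ 0 from hu.ne_zero) ?_)
    rw [← map_mul, ← hzr, pow_succ, mul_assoc]

variable {d n : ℕ} {K : Type u} [Field K] [Infinite K]

lemma sring_isDomain (hd : 0 < d) (w : Idx d n) : IsDomain (SRing K w) :=
  haveI := schubertVanishing_isPrime (F := K) hd w
  Ideal.Quotient.isDomain _

lemma eq_idxBot_of_minimal (h : d ≤ n) {w : Idx d n} (hw : ¬ ∃ φ : Idx d n, φ < w) : w = idxBot h :=
  ((idxBot_le h w).eq_or_lt.resolve_right fun hlt => hw ⟨_, hlt⟩).symm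

lemma boundary_isRadical (hd : 0 < d) (hdn : d < n) (w : Idx d n) :
    (schubertVanishing K d n w ⊔ Ideal.span {X w}).IsRadical := by
  by_cases hw : ∃ φ : Idx d n, φ < w
  · rw [schubertVanishing_sup_span hd w hw]
    refine Ideal.isRadical_iInf _ fun φ => Ideal.isRadical_iInf _ fun _ => ?_
    exact (schubertVanishing_isPrime hd φ).isRadical
  · have hp := prime_bot (K := K) hd hdn w
    rw [← eq_idxBot_of_minimal hdn.le hw] at hp
    have hP : (Ideal.span {extr K w}).IsPrime := (Ideal.span_singleton_prime hp.ne_zero).2 hp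
    have := (Ideal.comap_isPrime (Ideal.Quotient.mk (schubertVanishing K d n w))
      (Ideal.span {extr K w})).isRadical
    rwa [extr, ← Set.image_singleton, ← Ideal.map_span, Ideal.comap_map_of_surjective _
      Ideal.Quotient.mk_surjective, ← RingHom.ker_eq_comap_bot, Ideal.mk_ker, sup_comm] at this

lemma span_extr_isRadical (hd : 0 < d) (hdn : d < n) (w : Idx d n) :
    (Ideal.span {extr K w}).IsRadical := by
  rintro r ⟨k, hk⟩
  obtain ⟨f, rfl⟩ := Ideal.Quotient.mk_surjective r
  rw [extr, ← Set.image_singleton, ← Ideal.map_span, ← map_pow, Ideal.mem_quotient_iff_mem_sup,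
    sup_comm] at hk
  rw [extr, ← Set.image_singleton, ← Ideal.map_span, Ideal.mem_quotient_iff_mem_sup, sup_comm]
  exact boundary_isRadical hd hdn w ⟨k, hk⟩

lemma cellLaurent_isDomain (w : Idx d n) : IsDomain (CellLaurent K w) :=
  IsLocalization.isDomain_localization (powers_le_nonZeroDivisors_of_noZeroDivisors (X_ne_zero _))

lemma cellLoc_ufd (hd : 0 < d) (w : Idx d n) : UniqueFactorizationMonoid (CellLoc K w) :=
  haveI := cellLaurent_isDomain (K := K) w
  MulEquiv.uniqueFactorizationMonoid (cellEquiv hd w).symm.toMulEquiv inferInstance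

lemma cellLoc_isIntegrallyClosed (hd : 0 < d) (w : Idx d n) :
    IsIntegrallyClosed (CellLoc K w) := by
  have := cellLaurent_isDomain (K := K) w
  have : IsIntegrallyClosed (CellLaurent K w) :=
    isIntegrallyClosed_of_isLocalization _ (Submonoid.powers (X none : CellPoly K w))
      (powers_le_nonZeroDivisors_of_noZeroDivisors (X_ne_zero _))
  exact IsIntegrallyClosed.of_equiv (cellEquiv hd w).symm.toRingEquiv

/-- Schubert coordinate rings are normal. -/
theorem sring_isIntegrallyClosed (hd : 0 < d) (hdn : d < n) (w : Idx d n) :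
    IsIntegrallyClosed (SRing K w) :=
  haveI := sring_isDomain (K := K) hd w
  haveI := cellLoc_isIntegrallyClosed (K := K) hd w
  isIntegrallyClosed_of_away (extr K w) (extr_ne_zero hd w) (span_extr_isRadical hd hdn w)

lemma cellHom_injective (hd : 0 < d) (w : Idx d n) : Function.Injective (cellHom (K := K) hd w) := by
  haveI := sring_isDomain (K := K) hd w
  intro a b h
  refine IsLocalization.injective (CellLoc K w)
    (powers_le_nonZeroDivisors_of_noZeroDivisors (extr_ne_zero hd w)) ?_
  rw [← aeval_chartVal_cellHom hd w a, ← aeval_chartVal_cellHom hd w b, h]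

lemma extr_irreducible (hd : 0 < d) (w : Idx d n) : Irreducible (extr K w) := by
  have hZ : Irreducible (X none : CellPoly K w) := (MvPolynomial.X_prime (i := none)).irreducible
  have hu : ∀ a : SRing K w, IsUnit (cellHom hd w a) → IsUnit a := fun a ha => by
    obtain ⟨c, hc, he⟩ := MvPolynomial.isUnit_iff_eq_C_of_isReduced.1 ha
    rw [cellHom_injective hd w (he.trans ((cellHom hd w).commutes c).symm)]
    exact hc.map _
  constructor
  · exact fun h => hZ.not_isUnit (cellHom_extr (K := K) hd w ▸ h.map (cellHom hd w))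
  · intro a b hab
    have := congrArg (cellHom hd w) hab
    rw [cellHom_extr, map_mul] at this
    exact (hZ.isUnit_or_isUnit this).imp (hu a) (hu b)

theorem sring_ufd_iff (hd : 0 < d) (w : Idx d n) :
    UniqueFactorizationMonoid (SRing K w) ↔ Prime (extr K w) := by
  haveI := sring_isDomain (K := K) hd w
  constructor
  · intro h
    exact UniqueFactorizationMonoid.irreducible_iff_prime.1 (extr_irreducible hd w)
  · intro h
    exact (UniqueFactorizationMonoid.iff_localizationAway_of_prime h).2 (cellLoc_ufd hd w)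

lemma divisor_not_le {w φ ψ : Idx d n} (hφ : φ ∈ divisors w) (hψ : ψ ∈ divisors w) (h : φ ≠ ψ) :
    ¬ φ ≤ ψ := fun hle => by
  have := codeg_lt (lt_of_le_of_ne hle h)
  have := hφ.2
  have := hψ.2
  omega

theorem prime_extr_iff (hd : 0 < d) (hdn : d < n) (w : Idx d n) :
    Prime (extr K w) ↔ (divisors w).Subsingleton := by
  by_cases hw : ∃ φ : Idx d n, φ < w
  swap
  · have h := eq_idxBot_of_minimal hdn.le hw
    refine iff_of_true ?_ fun a ha => absurd ⟨a, ha.1⟩ hw
    have := prime_bot (K := K) hd hdn w
    rwa [← h] at this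
  rw [← Ideal.span_singleton_prime (extr_ne_zero hd w)]
  have hmap : Ideal.comap (Ideal.Quotient.mk (schubertVanishing K d n w)) (Ideal.span {extr K w}) =
      ⨅ φ ∈ divisors w, schubertVanishing K d n φ := by
    rw [extr, ← Set.image_singleton, ← Ideal.map_span, Ideal.comap_map_of_surjective _
      Ideal.Quotient.mk_surjective, ← RingHom.ker_eq_comap_bot, Ideal.mk_ker, sup_comm,
      schubertVanishing_sup_span hd w hw]
  have hiff : (Ideal.span {extr K w}).IsPrime ↔
      (Ideal.comap (Ideal.Quotient.mk (schubertVanishing K d n w)) (Ideal.span {extr K w})).IsPrime := by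
    refine ⟨fun _ => Ideal.comap_isPrime _ _, fun _ => ?_⟩
    rw [← Ideal.map_comap_of_surjective _ Ideal.Quotient.mk_surjective (Ideal.span {extr K w})]
    exact Ideal.map_isPrime_of_surjective Ideal.Quotient.mk_surjective
      (by rw [RingHom.ker_eq_comap_bot]; exact Ideal.comap_mono bot_le)
  rw [hiff, hmap]
  constructor
  · intro hP a ha b hb
    by_contra hab
    have hmem : (X a * X b : PlRing K d n) ∈ ⨅ φ ∈ divisors w, schubertVanishing K d n φ := by
      simp only [Ideal.mem_iInf]
      intro φ hφ
      by_cases h : φ = a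
      · subst h
        exact Ideal.mul_mem_left _ _
          (X_mem_schubertVanishing _ _ (divisor_not_le hb hφ (Ne.symm hab)))
      · exact Ideal.mul_mem_right _ _
          (X_mem_schubertVanishing _ _ (divisor_not_le ha hφ (Ne.symm h)))
    rcases hP.mem_or_mem hmem with h | h <;> simp only [Ideal.mem_iInf] at h
    · exact X_notMem_schubertVanishing hd le_rfl (h a ha)
    · exact X_notMem_schubertVanishing hd le_rfl (h b hb)
  · intro hs
    obtain ⟨φ0, hφ0⟩ := hw
    obtain ⟨ψ, hψ, -⟩ := exists_divisor hφ0
    rw [hs.eq_singleton_of_mem hψ, iInf_singleton]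
    exact schubertVanishing_isPrime hd ψ

lemma divisor_spec {w φ : Idx d n} (hφ : φ ∈ divisors w) :
    ∃ t : Fin d, (φ.1 t).val + 1 = (w.1 t).val ∧ ∀ s, s ≠ t → φ.1 s = w.1 s := by
  classical
  obtain ⟨t, ht⟩ := not_forall.1 fun h : ∀ t, φ.1 t = w.1 t => hφ.1.ne (Subtype.ext (funext h))
  have h2 := hφ.2
  rw [codeg, codeg, ← Finset.add_sum_erase _ _ (Finset.mem_univ t),
    ← Finset.add_sum_erase _ _ (Finset.mem_univ t)] at h2
  have hle := Fin.le_def.1 (hφ.1.le t)
  have hne : (φ.1 t).val ≠ (w.1 t).val := Fin.val_ne_of_ne ht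
  have h1 := val_le_idx φ t
  have hrest : ∑ s ∈ Finset.univ.erase t, ((φ.1 s).val - s.val) ≤
      ∑ s ∈ Finset.univ.erase t, ((w.1 s).val - s.val) :=
    Finset.sum_le_sum fun s _ => by have := Fin.le_def.1 (hφ.1.le s); omega
  refine ⟨t, by omega, fun s hs => Fin.ext ?_⟩
  have := (Finset.sum_eq_sum_iff_of_le fun s _ => by
    have := Fin.le_def.1 (hφ.1.le s); omega).1
    (le_antisymm hrest (by omega)) s (Finset.mem_erase.2 ⟨hs, Finset.mem_univ s⟩)
  have := val_le_idx φ s
  have := Fin.le_def.1 (hφ.1.le s)
  omega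

lemma exists_divisor_at (w : Idx d n) (t : Fin d) (h0 : t.val < (w.1 t).val)
    (h : ∀ s < t, (w.1 s).val + 1 < (w.1 t).val) :
    ∃ φ ∈ divisors w, φ.1 t < w.1 t ∧ ∀ s, s ≠ t → φ.1 s = w.1 s := by
  classical
  let v : Fin n := ⟨(w.1 t).val - 1, by omega⟩
  have hmono : StrictMono (Function.update w.1 t v) := by
    intro a b hab
    have hw := Fin.lt_def.1 (w.2 hab)
    by_cases ha : a = t
    · subst ha
      rw [Function.update_self, Function.update_of_ne hab.ne', Fin.lt_def]
      simp only [v]; omega
    · by_cases hb : b = t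
      · subst hb
        rw [Function.update_of_ne ha, Function.update_self, Fin.lt_def]
        have := h a hab
        simp only [v]; omega
      · rw [Function.update_of_ne ha, Function.update_of_ne hb]
        exact w.2 hab
  have hlt : Function.update w.1 t v t < w.1 t := by
    simp only [Function.update_self, Fin.lt_def, v]; omega
  refine ⟨⟨_, hmono⟩, ⟨lt_of_le_of_ne (fun s => ?_) fun he => ?_, ?_⟩, hlt,
    fun s hs => Function.update_of_ne hs _ _⟩
  · by_cases hs : s = t
    · subst hs; exact hlt.le
    · simp [hs]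
  · exact hlt.ne (congrArg (fun a : Idx d n => a.1 t) he)
  · have hsum : ∑ s ∈ Finset.univ.erase t, ((Function.update w.1 t v s).val - s.val) =
        ∑ s ∈ Finset.univ.erase t, ((w.1 s).val - s.val) :=
      Finset.sum_congr rfl fun s hs => by rw [Function.update_of_ne (Finset.ne_of_mem_erase hs)]
    rw [codeg, codeg, ← Finset.add_sum_erase _ _ (Finset.mem_univ t),
      ← Finset.add_sum_erase _ _ (Finset.mem_univ t)]
    simp only [Function.update_self, v] at hsum ⊢
    omega

theorem subsingleton_divisors_iff (w : Idx d n) :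
    (divisors w).Subsingleton ↔ ∃ s : ℕ, (∀ t : Fin d, t.val < s → (w.1 t).val = t.val) ∧
      ∀ t t' : Fin d, s ≤ t.val → t.val + 1 = t'.val → (w.1 t).val + 1 = (w.1 t').val := by
  classical
  constructor
  · intro hs
    by_cases hne : (Finset.univ.filter fun t : Fin d => t.val < (w.1 t).val).Nonempty
    swap
    · refine ⟨d, fun t _ => ?_, fun t t' h _ => absurd t.isLt (not_lt.2 h)⟩
      have := val_le_idx w t
      by_contra h
      exact hne ⟨t, by simp; omega⟩
    set t₀ := (Finset.univ.filter fun t : Fin d => t.val < (w.1 t).val).min' hne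
    have ht₀ : t₀.val < (w.1 t₀).val := (Finset.mem_filter.1 (Finset.min'_mem _ hne)).2
    have hlow : ∀ t < t₀, (w.1 t).val = t.val := fun t ht => by
      refine le_antisymm (not_lt.1 fun h => ?_) (val_le_idx w t)
      exact absurd (Finset.min'_le _ t (by simpa using h)) (not_le.2 ht)
    refine ⟨t₀.val, fun t ht => hlow t (Fin.lt_def.2 ht), fun t t' h1 h2 => ?_⟩
    by_contra hne'
    have hw := Fin.lt_def.1 (w.2 (show t < t' from Fin.lt_def.2 (by omega)))
    obtain ⟨a, ha, ha1, -⟩ := exists_divisor_at w t₀ ht₀ fun s hs' => by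
      have := hlow s hs'; have := Fin.lt_def.1 hs'; omega
    obtain ⟨b, hb, -, hb2⟩ := exists_divisor_at w t' (by have := val_le_idx w t; omega) fun s hs' => by
      have := Fin.le_def.1 (w.2.monotone (show s ≤ t from Fin.le_def.2 (by
        have := Fin.lt_def.1 hs'; omega)))
      omega
    rw [hs ha hb, hb2 t₀ fun h => by subst h; omega] at ha1
    exact lt_irrefl _ ha1
  · rintro ⟨s, h1, h2⟩ a ha b hb
    have key : ∀ φ ∈ divisors w, ∃ t : Fin d, t.val = s ∧ (φ.1 t).val + 1 = (w.1 t).val ∧
        ∀ r, r ≠ t → φ.1 r = w.1 r := by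
      intro φ hφ
      obtain ⟨t, ht, hr⟩ := divisor_spec hφ
      refine ⟨t, ?_, ht, hr⟩
      have hφt := val_le_idx φ t
      have hst : s ≤ t.val := not_lt.1 fun h => by have := h1 t h; omega
      refine le_antisymm (not_lt.1 fun hlt => ?_) hst
      have hp := h2 ⟨t.val - 1, by omega⟩ t (by simp only []; omega) (by simp only []; omega)
      have hlt' : (⟨t.val - 1, by omega⟩ : Fin d) < t := Fin.lt_def.2 (by simp only []; omega)
      have := Fin.lt_def.1 (φ.2 hlt')
      rw [hr _ hlt'.ne] at this
      omega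
    obtain ⟨t, ht, ht1, ht2⟩ := key a ha
    obtain ⟨t', ht', ht1', ht2'⟩ := key b hb
    obtain rfl : t = t' := Fin.ext (ht.trans ht'.symm)
    refine Subtype.ext (funext fun r => ?_)
    by_cases hr : r = t
    · subst hr; exact Fin.ext (by omega)
    · rw [ht2 r hr, ht2' r hr]

end Groth.Agent.W4Gr15
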