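import Mathlib.RingTheory.MvPolynomial.Homogeneous
import Mathlib.Algebra.Order.Antidiag.FinsuppEquiv
import Mathlib.RingTheory.MvPolynomial.Ideal
import Mathlib.LinearAlgebra.Dimension.Constructions
import Mathlib.LinearAlgebra.Dimension.Finite
import Mathlib.RingTheory.Ideal.Quotient.Operations

/-!
# Hilbert function of the Stanley–Reisner ring of the order complex of a poset
-/

open MvPolynomial

namespace Groth.Agent.W4Gr15

variable {K L : Type*} [Field K] [PartialOrder L] [Fintype L]

lemma coeff_srIdeal {f : MvPolynomial L K}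
    (hf : f ∈ Ideal.span {f : MvPolynomial L K | ∃ a b : L, ¬ a ≤ b ∧ ¬ b ≤ a ∧ f = X a * X b})
    {e : L →₀ ℕ} (he : IsChain (fun a b : L => a ≤ b) (↑e.support : Set L)) : coeff e f = 0 := by
  classical
  rw [show {f : MvPolynomial L K | ∃ a b : L, ¬ a ≤ b ∧ ¬ b ≤ a ∧ f = X a * X b} =
      (fun s => monomial s (1 : K)) '' {s | ∃ a b : L, ¬ a ≤ b ∧ ¬ b ≤ a ∧ s = Finsupp.single a 1 + Finsupp.single b 1} by
    ext g
    simp only [Set.mem_setOf_eq, Set.mem_image]
    constructor
    · rintro ⟨a, b, h1, h2, rfl⟩
      exact ⟨_, ⟨a, b, h1, h2, rfl⟩, by simp [X, monomial_mul]⟩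
    · rintro ⟨_, ⟨a, b, h1, h2, rfl⟩, rfl⟩
      exact ⟨a, b, h1, h2, by simp [X, monomial_mul]⟩, mem_ideal_span_monomial_image] at hf
  by_contra hne
  obtain ⟨_, ⟨a, b, h1, h2, rfl⟩, hle⟩ := hf e (mem_support_iff.2 hne)
  have hab : a ≠ b := fun h => h1 h.le
  have ha : a ∈ e.support := by
    have := hle a
    simp [hab] at this
    exact Finsupp.mem_support_iff.2 (by omega)
  have hb : b ∈ e.support := by
    have := hle b
    simp [hab.symm] at this
    exact Finsupp.mem_support_iff.2 (by omega)
  exact (he ha hb hab).elim h1 h2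

open scoped Classical in
/-- Exponents of degree `m` with chain support. -/
noncomputable def srExp (L : Type*) [PartialOrder L] [Fintype L] (m : ℕ) : Finset (L →₀ ℕ) :=
  ((Finset.univ : Finset L).finsuppAntidiag m).filter fun e => IsChain (fun a b : L => a ≤ b) (↑e.support : Set L)

lemma mem_srExp {m : ℕ} {e : L →₀ ℕ} :
    e ∈ srExp L m ↔ ∑ a, e a = m ∧ IsChain (fun a b : L => a ≤ b) (↑e.support : Set L) := by
  simp [srExp, Finset.mem_finsuppAntidiag]

attribute [local irreducible] srExp

lemma finrank_sr_image (m : ℕ) :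
    Module.finrank K ((MvPolynomial.homogeneousSubmodule L K m).map
        (Ideal.Quotient.mkₐ K (Ideal.span {f : MvPolynomial L K | ∃ a b : L, ¬ a ≤ b ∧ ¬ b ≤ a ∧
          f = MvPolynomial.X a * MvPolynomial.X b})).toLinearMap) = (srExp L m).card := by
  classical
  set I := Ideal.span {f : MvPolynomial L K | ∃ a b : L, ¬ a ≤ b ∧ ¬ b ≤ a ∧ f = MvPolynomial.X a * MvPolynomial.X b}
  let π := (Ideal.Quotient.mkₐ K I).toLinearMap
  let g : srExp L m → MvPolynomial L K ⧸ I := fun e => π (monomial e.1 1)
  have hspan : (MvPolynomial.homogeneousSubmodule L K m).map π = Submodule.span K (Set.range g) := by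
    apply le_antisymm
    · rintro _ ⟨f, hf, rfl⟩
      rw [MvPolynomial.as_sum f, map_sum]
      refine Submodule.sum_mem _ fun e he => ?_
      have hdeg : ∑ a, e a = m := by
        have := hf (mem_support_iff.1 he)
        simpa [Finsupp.weight_apply, Finsupp.sum_fintype] using this
      by_cases hc : IsChain (fun a b : L => a ≤ b) (↑e.support : Set L)
      · rw [show monomial e (coeff e f) = coeff e f • monomial e 1 by rw [smul_monomial, smul_eq_mul, mul_one],
          map_smul]
        exact Submodule.smul_mem _ _ (Submodule.subset_span ⟨⟨e, mem_srExp.2 ⟨hdeg, hc⟩⟩, rfl⟩)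
      · obtain ⟨a, ha, b, hb, hab, hn⟩ : ∃ a ∈ e.support, ∃ b ∈ e.support, a ≠ b ∧ ¬ (a ≤ b ∨ b ≤ a) := by
          simpa [IsChain, Set.Pairwise] using hc
        rw [show π (monomial e (coeff e f)) = 0 from Ideal.Quotient.eq_zero_iff_mem.2 ?_]
        · exact zero_mem _
        rw [show e = (e - (Finsupp.single a 1 + Finsupp.single b 1)) + (Finsupp.single a 1 + Finsupp.single b 1) from
          (tsub_add_cancel_of_le fun c => by
            rw [Finsupp.mem_support_iff] at ha hb
            simp only [Finsupp.add_apply, Finsupp.single_apply]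
            split_ifs with h1 h2 <;> subst_vars <;> first | omega | exact absurd rfl hab).symm,
          ← mul_one (coeff _ f), ← monomial_mul]
        refine Ideal.mul_mem_left _ _ (Ideal.subset_span ⟨a, b, fun h => hn (Or.inl h), fun h => hn (Or.inr h), ?_⟩)
        simp [X, monomial_mul]
    · rw [Submodule.span_le]
      rintro _ ⟨⟨e, he⟩, rfl⟩
      refine ⟨monomial e 1, isHomogeneous_monomial _ ?_, rfl⟩
      have := (mem_srExp.1 he).1
      simpa [Finsupp.degree_apply, Finset.sum_subset (Finset.subset_univ e.support)] using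
        (Finset.sum_subset (Finset.subset_univ e.support) (fun x _ hx => Finsupp.notMem_support_iff.1 hx)).trans this
  have hli : LinearIndependent K g := by
    rw [Fintype.linearIndependent_iff]
    intro c hc e
    have hmem : ∑ x, c x • monomial x.1 (1 : K) ∈ I := by
      rw [← Ideal.Quotient.eq_zero_iff_mem, ← Ideal.Quotient.mkₐ_eq_mk K]
      change π _ = 0
      rw [map_sum, ← hc]
      simp [g]
    have := coeff_srIdeal hmem (mem_srExp.1 e.2).2
    simpa [coeff_sum, coeff_monomial, Subtype.coe_inj] using this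
  change Module.finrank K ((MvPolynomial.homogeneousSubmodule L K m).map π) = _
  rw [hspan, finrank_span_eq_card hli, Fintype.card_coe]

open scoped Classical in
lemma card_fiber {m : ℕ} {C : Finset L} (hC : IsChain (fun a b : L => a ≤ b) (↑C : Set L))
    (hcm : C.card ≤ m) (hne : C.Nonempty) :
    ((srExp L m).filter fun e => e.support = C).card = Nat.choose (m - 1) (C.card - 1) := by
  have hc0 := hne.card_pos
  obtain ⟨ind, hind⟩ : ∃ ind : L →₀ ℕ, ∀ a, ind a = if a ∈ C then 1 else 0 :=
    ⟨Finsupp.equivFunOnFinite.symm fun a => if a ∈ C then 1 else 0, fun a => rfl⟩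
  have hsum : ∑ a, ind a = C.card := by simp [hind]
  have hchoose : (C.finsuppAntidiag (m - C.card)).card = Nat.choose (m - 1) (C.card - 1) := by
    rw [Finset.card_finsuppAntidiag_nat_eq_choose, show C.card + (m - C.card) - 1 = m - 1 by omega]
    exact Nat.choose_symm_of_eq_add (by omega)
  rw [← hchoose]
  refine Finset.card_bij' (fun e _ => e - ind) (fun e _ => e + ind) ?_ ?_ ?_ ?_
  · intro e he
    simp only [Finset.mem_coe, Finset.mem_filter] at he
    obtain ⟨he, rfl⟩ := he
    rw [Finset.mem_finsuppAntidiag]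
    refine ⟨?_, fun a ha => by
      rw [Finsupp.mem_support_iff, Finsupp.tsub_apply] at ha
      rw [Finsupp.mem_support_iff]
      omega⟩
    have h1 := (mem_srExp.1 he).1
    have h2 : ∀ a, (e - ind) a + ind a = e a := fun a => by
      rw [Finsupp.tsub_apply, hind]
      split_ifs with h
      · have := Nat.pos_of_ne_zero (Finsupp.mem_support_iff.1 h); omega
      · omega
    have h3 : ∑ a, (e - ind) a + ∑ a, ind a = m := by
      rw [← Finset.sum_add_distrib, ← h1]
      exact Finset.sum_congr rfl fun a _ => h2 a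
    rw [Finset.sum_subset (Finset.subset_univ _) fun a _ ha => by
      rw [Finsupp.tsub_apply, Finsupp.notMem_support_iff.1 ha, Nat.zero_sub]]
    omega
  · intro e he
    rw [Finset.mem_finsuppAntidiag] at he
    obtain ⟨he, hes⟩ := he
    have hsupp : (e + ind).support = C := by
      ext a
      rw [Finsupp.mem_support_iff, Finsupp.add_apply, hind]
      by_cases ha : a ∈ C
      · simp [ha]
      · simp [ha, Finsupp.notMem_support_iff.1 fun h => ha (hes h)]
    refine Finset.mem_filter.2 ⟨mem_srExp.2 ⟨?_, by rw [hsupp]; exact hC⟩, hsupp⟩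
    simp only [Finsupp.add_apply, Finset.sum_add_distrib, hsum]
    rw [← Finset.sum_subset (Finset.subset_univ C) fun a _ ha => Finsupp.notMem_support_iff.1 fun h => ha (hes h),
      he]
    omega
  · intro e he
    simp only [Finset.mem_coe, Finset.mem_filter] at he
    obtain ⟨-, rfl⟩ := he
    ext a
    rw [Finsupp.add_apply, Finsupp.tsub_apply, hind]
    split_ifs with h
    · have := Nat.pos_of_ne_zero (Finsupp.mem_support_iff.1 h); omega
    · omega
  · intro e _
    exact add_tsub_cancel_right e ind

lemma card_srExp {m : ℕ} (hm : 1 ≤ m) : (srExp L m).card =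
    ∑ᶠ C : {C : Finset L // C.Nonempty ∧ IsChain (fun a b : L => a ≤ b) (↑C : Set L)},
      Nat.choose (m - 1) (C.1.card - 1) := by
  classical
  rw [finsum_eq_sum_of_fintype, ← Finset.sum_subtype
    (Finset.univ.filter fun C : Finset L => C.Nonempty ∧ IsChain (fun a b : L => a ≤ b) (↑C : Set L))
    (fun C => by simp) (fun C => Nat.choose (m - 1) (C.card - 1)),
    Finset.card_eq_sum_card_fiberwise (f := fun e => e.support)
      (t := Finset.univ.filter fun C : Finset L => C.Nonempty ∧ IsChain (fun a b : L => a ≤ b) (↑C : Set L))]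
  · refine Finset.sum_congr rfl fun C hC => ?_
    obtain ⟨-, hne, hC⟩ := Finset.mem_filter.1 hC
    have hc0 := hne.card_pos
    by_cases hcm : m < C.card
    · rw [Nat.choose_eq_zero_of_lt (by omega), Finset.card_eq_zero, Finset.filter_eq_empty_iff]
      rintro e he rfl
      have h1 := (mem_srExp.1 he).1
      have h2 : ∑ a ∈ e.support, 1 ≤ ∑ a, e a :=
        (Finset.sum_le_sum fun a ha => Nat.pos_of_ne_zero (Finsupp.mem_support_iff.1 ha)).trans
          (Finset.sum_le_univ_sum_of_nonneg fun a => Nat.zero_le _)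
      simp at h2
      omega
    exact card_fiber hC (by omega) hne
  · intro e he
    refine Finset.mem_filter.2 ⟨Finset.mem_univ _, ?_, (mem_srExp.1 he).2⟩
    rw [Finsupp.support_nonempty_iff]
    rintro rfl
    have := (mem_srExp.1 he).1
    simp at this
    omega

end Groth.Agent.W4Gr15
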