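import Groth.Agent.W4Gr15.Chart
import Mathlib.RingTheory.Adjoin.Polynomial
import Mathlib.LinearAlgebra.Matrix.SpecialLinearGroup

/-!
# The first fundamental theorem for `SL_d`
-/

universe u

open MvPolynomial W4bk4grassmannian

namespace Groth.Agent.W4Gr15

variable {d n : ℕ} {K : Type u} [Field K]

lemma psi_eq_kill_comp (lo hi : Idx d n) :
    psi K lo hi = (kill K lo hi).comp (pluckerMap K d n) :=
  MvPolynomial.algHom_ext fun θ => by rw [psi_X, AlgHom.comp_apply, pluckerMap, aeval_X]; rfl

lemma adjoin_minors :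
    Algebra.adjoin K (Set.range fun θ : Idx d n => minor K d n θ.1) = (pluckerMap K d n).range :=
  Algebra.adjoin_range_eq_range_aeval K _

lemma plIdealTop_le_ker_plucker :
    ∀ f ∈ plIdealTop (d := d) (n := n) K, pluckerMap K d n f = 0 := fun f hf => by
  have h : plIdealTop (d := d) (n := n) K ≤ RingHom.ker (pluckerMap K d n) := by
    refine Ideal.span_le.2 ?_
    rintro _ ⟨i, j, r, -, rfl⟩
    exact aeval_shuffleRel K (fun i t => X (i, t)) i j r
  exact h hf

lemma minor_mem_range (a : Fin d → Fin n) : minor K d n a ∈ (pluckerMap K d n).range :=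
  ⟨coord K d n a, map_coord K (fun i t => (X (i, t) : MatRing K d n)) a⟩

lemma eval_minor (a : Fin n × Fin d → K) (r : Fin d → Fin n) :
    MvPolynomial.eval a (minor K d n r) = rowDet (fun i t => a (i, t)) r := by
  rw [minor, RingHom.map_det, rowDet]
  congr 1
  ext s t
  simp

lemma eval_rightTranslate (a : Fin n × Fin d → K) (g : Matrix.SpecialLinearGroup (Fin d) K)
    (f : MatRing K d n) :
    MvPolynomial.eval a (rightTranslate K d n g f) =
      MvPolynomial.eval (fun p => ∑ k, a (p.1, k) * (g : Matrix (Fin d) (Fin d) K) k p.2) f := by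
  induction f using MvPolynomial.induction_on with
  | C c => simp [rightTranslate]
  | add p q hp hq => rw [map_add, map_add, map_add, hp, hq]
  | mul_X p v hp => rw [map_mul, map_mul, map_mul, hp]; simp [rightTranslate]

lemma rightTranslate_minor (g : Matrix.SpecialLinearGroup (Fin d) K) (r : Fin d → Fin n) :
    rightTranslate K d n g (minor K d n r) = minor K d n r := by
  rw [minor, AlgHom.map_det]
  rw [show (rightTranslate K d n g).mapMatrix (Matrix.of fun s t => (X (r s, t) : MatRing K d n)) =
      (Matrix.of fun s t => (X (r s, t) : MatRing K d n)) *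
        (g : Matrix (Fin d) (Fin d) K).map C by
    ext1 s t
    simp [rightTranslate, Matrix.mul_apply],
    Matrix.det_mul, ← RingHom.mapMatrix_apply, ← RingHom.map_det, g.2, map_one, mul_one]

variable [Infinite K]

/-- If `f·Δ` is a polynomial in the minors, so is `f` (for `Δ` the top minor). -/
lemma mem_range_of_mul_top (hd : 0 < d) (hdn : d < n) {f : MatRing K d n}
    (h : f * minor K d n (idxTop hdn.le).1 ∈ (pluckerMap K d n).range) :
    f ∈ (pluckerMap K d n).range := by
  obtain ⟨a, ha : pluckerMap K d n a = _⟩ := h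
  set top := idxTop hdn.le
  have hne : ∃ φ : Idx d n, φ < top := ⟨idxBot hdn.le, lt_of_le_of_ne (idxBot_le _ _) fun he => by
    have := congrArg (fun x : Idx d n => (x.1 ⟨0, hd⟩).val) he
    simp [idxBot, top, idxTop] at this
    omega⟩
  have hmem : a ∈ schubertVanishing K d n top ⊔ Ideal.span {X top} := by
    rw [schubertVanishing_sup_span hd top hne]
    simp only [Ideal.mem_iInf]
    intro φ hφ
    refine mem_vanishing_of_psi hd ?_
    rw [psi_eq_kill_comp, AlgHom.comp_apply, ha, map_mul]
    refine mul_eq_zero_of_right _ ?_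
    exact bandMinor_eq_zero K fun h => hφ.1.not_ge h.2
  obtain ⟨p, hp, q, hq, rfl⟩ := Submodule.mem_sup.1 hmem
  obtain ⟨b, rfl⟩ := Ideal.mem_span_singleton'.1 hq
  rw [schubertVanishing_eq_bandIdeal hd hdn.le, bandIdeal_bot_top hdn.le] at hp
  rw [map_add, plIdealTop_le_ker_plucker _ hp, zero_add, map_mul,
    show pluckerMap K d n (X top) = minor K d n top.1 from aeval_X _ _] at ha
  refine ⟨b, mul_right_cancel₀ (fun h0 => ?_) ha⟩
  have := coeff_bandMinor K (θ := top) ⟨idxBot_le hdn.le top, le_refl top⟩
  rw [bandMinor, h0, map_zero, coeff_zero] at this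
  exact zero_ne_one this

/-- Invariant functions become polynomials in the minors after multiplication by a power of `Δ`. -/
lemma exists_pow_mul_mem (hd : 0 < d) (w : Idx d n) {f : MatRing K d n}
    (hf : ∀ g : Matrix.SpecialLinearGroup (Fin d) K, rightTranslate K d n g f = f) :
    ∃ N : ℕ, f * minor K d n w.1 ^ N ∈ (pluckerMap K d n).range := by
  classical
  set Δ := minor K d n w.1
  set A := (pluckerMap K d n).range
  let y : (Fin n × Fin d → K) → Fin n × Fin d → K := fun a p =>
    MvPolynomial.eval a (minor K d n (Function.update w.1 p.2 p.1)) *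
      if p.2.val = 0 then 1 else (MvPolynomial.eval a Δ)⁻¹
  have key : ∀ p : MatRing K d n, ∃ N : ℕ, ∃ q ∈ A, ∀ a, MvPolynomial.eval a Δ ≠ 0 →
      MvPolynomial.eval (y a) p * MvPolynomial.eval a Δ ^ N = MvPolynomial.eval a q := by
    intro p
    induction p using MvPolynomial.induction_on with
    | C c => exact ⟨0, C c, A.algebraMap_mem c, fun a _ => by simp⟩
    | add p p' hp hp' =>
      obtain ⟨N, q, hq, hpq⟩ := hp
      obtain ⟨N', q', hq', hpq'⟩ := hp'
      refine ⟨N + N', q * Δ ^ N' + q' * Δ ^ N, A.add_mem (A.mul_mem hq (A.pow_mem (minor_mem_range _) _))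
        (A.mul_mem hq' (A.pow_mem (minor_mem_range _) _)), fun a ha => ?_⟩
      simp only [map_add, map_mul, map_pow, ← hpq a ha, ← hpq' a ha]
      ring
    | mul_X p v hp =>
      obtain ⟨N, q, hq, hpq⟩ := hp
      refine ⟨N + 1, q * (minor K d n (Function.update w.1 v.2 v.1) * if v.2.val = 0 then Δ else 1),
        A.mul_mem hq (A.mul_mem (minor_mem_range _) ?_), fun a ha => ?_⟩
      · split_ifs
        · exact minor_mem_range _
        · exact A.one_mem
      simp only [map_mul, eval_X, ← hpq a ha, y]
      split_ifs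
      · ring
      · simp only [map_one]; field_simp; ring
  obtain ⟨N, q, hq, hpq⟩ := key f
  refine ⟨N, ?_⟩
  suffices f * Δ ^ N = q by rw [this]; exact hq
  refine mul_right_cancel₀ (b := Δ) (fun h0 => ?_) (MvPolynomial.funext fun a => ?_)
  · have := coeff_bandMinor K (θ := w) ⟨idxBot_le (idx_le_of_nonempty w) w, le_refl w⟩
    rw [bandMinor, show minor K d n w.1 = 0 from h0, map_zero, coeff_zero] at this
    exact zero_ne_one this
  simp only [map_mul, map_pow]
  by_cases ha : MvPolynomial.eval a Δ = 0
  · rw [ha, mul_zero, mul_zero]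
  congr 1
  rw [← hpq a ha]
  congr 1
  -- invariance under `adj (a_w) · diag (1, 1/Δ, …)`
  set δ := MvPolynomial.eval a Δ
  set U : Matrix (Fin d) (Fin d) K := Matrix.of fun s t => a (w.1 s, t)
  let v : Fin d → K := fun t => if t.val = 0 then 1 else δ⁻¹
  have hδ : δ = U.det := eval_minor a w.1
  have hdet : (U.adjugate * Matrix.diagonal v).det = 1 := by
    rw [Matrix.det_mul, Matrix.det_adjugate, Matrix.det_diagonal, Fintype.card_fin, ← hδ,
      ← Finset.mul_prod_erase _ _ (Finset.mem_univ (⟨0, hd⟩ : Fin d))]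
    rw [Finset.prod_congr rfl (g := fun _ => δ⁻¹) fun t ht => if_neg fun h =>
      Finset.ne_of_mem_erase ht (Fin.ext h)]
    simp only [v, if_true, one_mul, Finset.prod_const]
    rw [Finset.card_erase_of_mem (Finset.mem_univ _), Finset.card_fin, ← mul_pow, mul_inv_cancel₀ ha,
      one_pow]
  let g : Matrix.SpecialLinearGroup (Fin d) K := ⟨U.adjugate * Matrix.diagonal v, hdet⟩
  have hg := (eval_rightTranslate a g f).symm.trans (congrArg (MvPolynomial.eval a) (hf g))
  rw [← hg]
  congr 1
  congr 1
  funext p
  simp only [y, eval_minor, Matrix.mul_diagonal]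
  rw [rowDet_update_eq_sum, Finset.sum_mul]
  refine Finset.sum_congr rfl fun k _ => ?_
  rw [show (g : Matrix (Fin d) (Fin d) K) k p.2 = U.adjugate k p.2 * v p.2 from Matrix.mul_diagonal _ _ _ _,
    mul_assoc]

/-- The first fundamental theorem for `SL_d`. -/
theorem fft_SL (hd : 0 < d) (hdn : d < n) (f : MatRing K d n) :
    (∀ g : Matrix.SpecialLinearGroup (Fin d) K, rightTranslate K d n g f = f) ↔
      f ∈ Algebra.adjoin K (Set.range fun θ : Idx d n => minor K d n θ.1) := by
  rw [adjoin_minors]
  constructor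
  · intro hf
    obtain ⟨N, hN⟩ := exists_pow_mul_mem hd (idxTop hdn.le) hf
    clear hf
    induction N with
    | zero => simpa using hN
    | succ N ih => exact ih (mem_range_of_mul_top hd hdn (by rwa [pow_succ, ← mul_assoc] at hN))
  · intro h g
    rw [← adjoin_minors] at h
    exact Algebra.adjoin_le (S := AlgHom.equalizer (rightTranslate K d n g) (AlgHom.id K _))
      (by rintro _ ⟨θ, rfl⟩; exact rightTranslate_minor g θ.1) h

end Groth.Agent.W4Gr15
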