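import Groth.Agent.W4Gr15.OppCell

/-!
# Determinantal rings as opposite cells
-/

universe u

open MvPolynomial W4bk4grassmannian

namespace Groth.Agent.W4Gr15

variable {d r : ℕ}

/-- The index whose opposite cell is the determinantal variety of rank `< t`. -/
def detIdx (d r t : ℕ) (h1 : 1 ≤ t) (h2 : t ≤ d + 1) (h3 : t ≤ r + 1) : Idx d (d + r) :=
  ⟨fun s => if h : s.val + t ≤ d then ⟨t - 1 + s.val, by omega⟩ else ⟨r + s.val, by omega⟩, fun a b hab => by
    rw [Fin.lt_def] at hab
    dsimp only
    split_ifs <;> simp only [Fin.lt_def] <;> omega⟩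

lemma le_detIdx_iff {t : ℕ} (h1 : 1 ≤ t) (h2 : t ≤ d + 1) (h3 : t ≤ r + 1) (θ : Idx d (d + r)) :
    θ ≤ detIdx d r t h1 h2 h3 ↔ (rowSet θ).card + 1 ≤ t := by
  have hcard := Finset.card_le_univ (colSet θ)
  rw [Fintype.card_fin, card_colSet] at hcard
  by_cases htd : t ≤ d
  · have hd : 0 < d := by omega
    rw [Nat.succ_le_iff, ← not_le, le_card_rowSet_iff θ hd h1 htd, not_le]
    constructor
    · intro h
      refine (Fin.le_def.1 (h ⟨d - t, Nat.sub_lt hd h1⟩)).trans_lt ?_
      simp only [detIdx]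
      rw [dif_pos (by omega)]
      simp only []
      omega
    · intro h s
      simp only [detIdx]
      split_ifs with hs
      · rw [Fin.le_def]
        obtain ⟨k, hk⟩ : ∃ k, d - t = s.val + k := ⟨d - t - s.val, by omega⟩
        have key : ∀ k (hk : s.val + k < d), (θ.1 s).val + k ≤ (θ.1 ⟨s.val + k, hk⟩).val := by
          intro k
          induction k with
          | zero => intro hk; exact le_of_eq (by simp)
          | succ k ih =>
            intro hk
            have := ih (by omega)
            have := Fin.lt_def.1 (θ.2 (show (⟨s.val + k, by omega⟩ : Fin d) < ⟨s.val + (k + 1), hk⟩ from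
              Fin.lt_def.2 (by simp)))
            omega
        have hle := key k (by omega)
        have heq : (⟨s.val + k, by omega⟩ : Fin d) = ⟨d - t, Nat.sub_lt hd h1⟩ := Fin.ext hk.symm
        rw [heq] at hle
        simp only []
        omega
      · rw [Fin.le_def]
        have := idx_add_le θ s
        simp only []
        omega
  · refine iff_of_true (fun s => ?_) (by omega)
    simp only [detIdx]
    rw [dif_neg (by omega), Fin.le_def]
    have := idx_add_le θ s
    simp only []
    omega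

lemma codeg_detIdx {t : ℕ} (hd : 0 < d) (h1 : 1 ≤ t) (h2 : t ≤ d + 1) (h3 : t ≤ r + 1) :
    codeg (detIdx d r t h1 h2 h3) = (t - 1) * (r + d - t + 1) := by
  have : ∀ s : Fin d, ((detIdx d r t h1 h2 h3).1 s).val - s.val = if s.val + t ≤ d then t - 1 else r := fun s => by
    simp only [detIdx]
    split_ifs <;> simp only [] <;> omega
  rw [codeg, Finset.sum_congr rfl fun s _ => this s, Fin.sum_univ_eq_sum_range
    (fun s => if s + t ≤ d then t - 1 else r), Finset.sum_ite, Finset.sum_const, Finset.sum_const]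
  rw [show (Finset.range d).filter (fun s => s + t ≤ d) = Finset.range (d + 1 - t) by
      ext s; simp; omega,
    show (Finset.range d).filter (fun s => ¬ s + t ≤ d) = Finset.Ico (d + 1 - t) d by
      ext s; simp; omega, Finset.card_range, Nat.card_Ico, smul_eq_mul, smul_eq_mul]
  obtain ⟨a, rfl⟩ : ∃ a, t = a + 1 := ⟨t - 1, by omega⟩
  obtain ⟨b, rfl⟩ : ∃ b, d = a + b := ⟨d - a, by omega⟩
  rw [show a + b + 1 - (a + 1) = b by omega, show a + b - b = a by omega,
    show r + (a + b) - (a + 1) + 1 = r + b by omega, Nat.add_sub_cancel]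
  ring

variable {K : Type u} [Field K]

theorem oppIdeal_detIdx {t : ℕ} (hd : 0 < d) (h1 : 1 ≤ t) (h2 : t ≤ d + 1) (h3 : t ≤ r + 1) :
    oppIdeal K (detIdx d r t h1 h2 h3) = CAlgX.minorIdeal (genMatrix K r d) t := by
  by_cases htd : t ≤ d
  · rw [← cellIdeal_eq K hd h1 htd, oppIdeal]
    congr 1
    ext f
    simp only [Set.mem_setOf_eq]
    refine exists_congr fun θ => and_congr_left fun _ => ?_
    rw [le_detIdx_iff, ← le_card_rowSet_iff θ hd h1 htd]
    omega
  · obtain rfl : t = d + 1 := by omega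
    have hz : CAlgX.minorIdeal (genMatrix K r d) (d + 1) = ⊥ := by
      rw [CAlgX.minorIdeal, Ideal.span_eq_bot]
      rintro _ ⟨⟨f, g⟩, rfl⟩
      obtain ⟨a, b, hne, hg⟩ := Fintype.exists_ne_map_eq_of_card_lt g (by simp)
      exact Matrix.det_zero_of_column_eq hne fun i => by simp [hg]
    rw [hz, oppIdeal, Ideal.span_eq_bot]
    rintro _ ⟨θ, hθ, rfl⟩
    refine absurd ((le_detIdx_iff h1 h2 h3 θ).2 ?_) hθ
    have hcard := Finset.card_le_univ (colSet θ)
    rw [Fintype.card_fin, card_colSet] at hcard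
    omega

variable [Infinite K]

/-- Determinantal rings: domain, normal, Cohen–Macaulay, with their dimension. -/
theorem determinantal (m n t : ℕ) (hm : 0 < m) (hn : 0 < n) (ht : 1 ≤ t) (htm : t ≤ m) (htn : t ≤ n) :
    IsDomain (MvPolynomial (Fin m × Fin n) K ⧸ CAlgX.minorIdeal (genMatrix K m n) t) ∧
      IsIntegrallyClosed (MvPolynomial (Fin m × Fin n) K ⧸ CAlgX.minorIdeal (genMatrix K m n) t) ∧
      LocCoh.IsCohenMacaulayRing (MvPolynomial (Fin m × Fin n) K ⧸ CAlgX.minorIdeal (genMatrix K m n) t) ∧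
      ringKrullDim (MvPolynomial (Fin m × Fin n) K ⧸ CAlgX.minorIdeal (genMatrix K m n) t) =
        (((t - 1) * (m + n - t + 1) : ℕ) : WithBot ℕ∞) := by
  set w := detIdx n m t ht (by omega) (by omega)
  have hI : oppIdeal K w = CAlgX.minorIdeal (genMatrix K m n) t :=
    oppIdeal_detIdx hn ht (by omega) (by omega)
  rw [← hI]
  refine ⟨oppRing_isDomain hn w, oppRing_isIntegrallyClosed hn hm w, oppRing_cm hn hm w, ?_⟩
  rw [ringKrullDim_oppRing hn w, codeg_detIdx hn]

end Groth.Agent.W4Gr15
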