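import Groth.Agent.W4Gr15.Determinantal
import Groth.Agent.W4Gr15.StdBasis
import Mathlib.Data.List.OfFn

/-!
# Standard bitableaux are a basis of determinantal rings

Minors `[A | B]` of an `r × d` matrix correspond to the Plücker indices other than the least one (after
reversing the rows), the order of minors to the order of indices; chains homogenise to standard monomials.
-/

universe u

open MvPolynomial W4bk4grassmannian

namespace Groth.Agent.W4Gr15

/-- Number of entries below `y`. -/
def cnt {k N : ℕ} (a : Fin k → Fin N) (y : ℕ) : ℕ := ∑ j, if (a j).val < y then 1 else 0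

lemma cnt_eq_card {k N : ℕ} (a : Fin k → Fin N) (y : ℕ) :
    cnt a y = (Finset.univ.filter fun j => (a j).val < y).card := (Finset.card_filter _ _).symm

lemma cnt_id (N y : ℕ) (hy : y ≤ N) : cnt (id : Fin N → Fin N) y = y := by
  rw [cnt_eq_card, ← Finset.card_range y, ← Finset.card_map Fin.valEmbedding]
  congr 1
  ext a
  simp only [Finset.mem_map, Finset.mem_filter, Finset.mem_univ, true_and, id_eq, Fin.valEmbedding_apply,
    Finset.mem_range, Finset.card_range]
  exact ⟨fun ⟨x, hx, hxa⟩ => hxa ▸ hx, fun h => ⟨⟨a, by omega⟩, h, rfl⟩⟩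

lemma le_iff_cnt {k k' N : ℕ} {a : Fin k → Fin N} {a' : Fin k' → Fin N} (ha : StrictMono a) (ha' : StrictMono a') :
    (k ≤ k' ∧ ∀ (j : Fin k) (j' : Fin k'), j.val = j'.val → a' j' ≤ a j) ↔ ∀ y ≤ N, cnt a y ≤ cnt a' y := by
  simp only [cnt_eq_card]
  constructor
  · rintro ⟨hk, h⟩ y -
    rw [← Finset.card_map (Fin.castLEEmb hk)]
    refine Finset.card_le_card fun j' hj' => ?_
    obtain ⟨j, hj, rfl⟩ := Finset.mem_map.1 hj'
    rw [Finset.mem_filter] at hj ⊢
    exact ⟨Finset.mem_univ _, lt_of_le_of_lt (Fin.le_def.1 (h j _ (by simp))) hj.2⟩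
  · intro h
    refine ⟨?_, fun j j' hjj => ?_⟩
    · have := h N le_rfl
      rwa [Finset.filter_true_of_mem fun j _ => (a j).isLt, Finset.filter_true_of_mem fun j _ => (a' j).isLt,
        Finset.card_fin, Finset.card_fin] at this
    · by_contra hlt
      rw [not_le] at hlt
      have h1 := Finset.card_le_card (s := Finset.Iic j)
        (t := Finset.univ.filter fun i => (a i).val < (a j).val + 1) fun i hi => by
          rw [Finset.mem_filter]
          exact ⟨Finset.mem_univ _, Nat.lt_succ_of_le (ha.monotone (Finset.mem_Iic.1 hi))⟩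
      have h2 := Finset.card_le_card (s := Finset.univ.filter fun i => (a' i).val < (a j).val + 1)
        (t := Finset.Iio j') fun i hi => by
          rw [Finset.mem_filter] at hi
          rw [Finset.mem_Iio]
          by_contra hge
          have := ha'.monotone (not_lt.1 hge)
          simp only [Fin.le_def, Fin.lt_def] at this hlt
          omega
      have h3 := h ((a j).val + 1) (a j).isLt
      rw [Fin.card_Iic] at h1
      rw [Fin.card_Iio] at h2
      omega

lemma idx_le_iff_cnt {d n : ℕ} {θ θ' : Idx d n} : θ ≤ θ' ↔ ∀ y ≤ n, cnt θ'.1 y ≤ cnt θ.1 y := by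
  rw [← le_iff_cnt θ'.2 θ.2]
  exact ⟨fun h => ⟨le_rfl, fun j j' hjj => by rw [Fin.ext hjj]; exact h j'⟩, fun h t => h.2 t t rfl⟩

lemma idx_eq_of_wt {d n : ℕ} {θ θ' : Idx d n} (h : ∀ f, wt f θ.1 = wt f θ'.1) : θ = θ' :=
  le_antisymm (idx_le_iff_cnt.2 fun y _ => (h fun x => if x.val < y then 1 else 0).ge)
    (idx_le_iff_cnt.2 fun y _ => (h fun x => if x.val < y then 1 else 0).le)

variable {d r : ℕ}

lemma wt_cellTuple {k : ℕ} (S : Fin k → Fin r) {T : Fin k → Fin d} (hT : Function.Injective T)
    (f : Fin (d + r) → ℕ) :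
    wt f (cellTuple S T) + ∑ b, f (Fin.castAdd r (T b)) =
      (∑ t, f (Fin.castAdd r t)) + ∑ b, f (Fin.natAdd d (S b)) := by
  classical
  rw [wt, ← Finset.sum_add_sum_compl (Finset.univ.image T) (fun t => f (cellTuple S T t)),
    ← Finset.sum_add_sum_compl (Finset.univ.image T) (fun t => f (Fin.castAdd r t)),
    Finset.sum_image hT.injOn, Finset.sum_image hT.injOn,
    Finset.sum_congr rfl fun b _ => congrArg f (cellTuple_apply S hT b),
    Finset.sum_congr rfl (s₁ := (Finset.univ.image T)ᶜ) fun t ht => congrArg f (cellTuple_of_notMem S fun b hb =>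
      Finset.mem_compl.1 ht (Finset.mem_image.2 ⟨b, Finset.mem_univ b, hb⟩))]
  ring

lemma wt_idx (θ : Idx d (d + r)) (f : Fin (d + r) → ℕ) :
    wt f θ.1 + ∑ t ∈ colSet θ, f (Fin.castAdd r t) =
      (∑ t, f (Fin.castAdd r t)) + ∑ i ∈ rowSet θ, f (Fin.natAdd d i) := by
  classical
  rw [wt, ← Finset.sum_image (g := θ.1) (θ.2.injective.injOn), image_idx_eq θ, Finset.sum_union,
    Finset.sum_image (Fin.castAdd_injective _ _).injOn, Finset.sum_image (Fin.natAdd_injective _ _).injOn,
    ← Finset.sum_add_sum_compl (colSet θ) (fun t => f (Fin.castAdd r t))]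
  · ring
  · rw [Finset.disjoint_left]
    intro x hx hx'
    obtain ⟨t, -, rfl⟩ := Finset.mem_image.1 hx
    obtain ⟨i, -, hi⟩ := Finset.mem_image.1 hx'
    exact natAdd_ne_castAdd i t hi

/-- The row tuple of a minor, reversed. -/
def revRows (M : MinorIdx r d) : Fin (M.1 + 1) → Fin r := fun b => Fin.rev (M.2.1.1 b)

lemma cellTuple_injective {k : ℕ} {S : Fin k → Fin r} {T : Fin k → Fin d} (hS : Function.Injective S)
    (hT : Function.Injective T) : Function.Injective (cellTuple S T) := by
  intro t t' h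
  by_cases h1 : ∃ b, T b = t <;> by_cases h2 : ∃ b, T b = t'
  · obtain ⟨b, rfl⟩ := h1
    obtain ⟨b', rfl⟩ := h2
    rw [cellTuple_apply S hT, cellTuple_apply S hT] at h
    rw [hS (Fin.natAdd_injective _ _ h)]
  · obtain ⟨b, rfl⟩ := h1
    rw [cellTuple_apply S hT, cellTuple_of_notMem S fun b' hb => h2 ⟨b', hb⟩] at h
    exact absurd h (natAdd_ne_castAdd _ _)
  · obtain ⟨b', rfl⟩ := h2
    rw [cellTuple_apply S hT, cellTuple_of_notMem S fun b hb => h1 ⟨b, hb⟩] at h
    exact absurd h.symm (natAdd_ne_castAdd _ _)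
  · rw [cellTuple_of_notMem S fun b hb => h1 ⟨b, hb⟩, cellTuple_of_notMem S fun b hb => h2 ⟨b, hb⟩] at h
    exact Fin.castAdd_injective _ _ h

lemma revRows_injective (M : MinorIdx r d) : Function.Injective (revRows M) :=
  fun _ _ h => M.2.1.2.injective (Fin.rev_injective h)

lemma card_image_cellTuple (M : MinorIdx r d) :
    (Finset.univ.image (cellTuple (revRows M) M.2.2.1)).card = d :=
  (Finset.card_image_of_injective _ (cellTuple_injective (revRows_injective M) M.2.2.2.injective)).trans
    (Finset.card_fin d)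

/-- The Plücker index of a minor. -/
noncomputable def idxOf (M : MinorIdx r d) : Idx d (d + r) :=
  sortIdx d (d + r) (cellTuple (revRows M) M.2.2.1) (card_image_cellTuple M)

lemma wt_idxOf (M : MinorIdx r d) (f : Fin (d + r) → ℕ) :
    wt f (idxOf M).1 + ∑ b, f (Fin.castAdd r (M.2.2.1 b)) =
      (∑ t, f (Fin.castAdd r t)) + ∑ b, f (Fin.natAdd d (revRows M b)) := by
  rw [idxOf, wt_sortIdx]
  exact wt_cellTuple _ M.2.2.2.injective f

lemma cnt_idxOf_low (M : MinorIdx r d) {y : ℕ} (hy : y ≤ d) :
    cnt (idxOf M).1 y + cnt M.2.2.1 y = y := by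
  have h := wt_idxOf M fun x => if x.val < y then 1 else 0
  have h0 : (∑ b, if (Fin.natAdd d (revRows M b)).val < y then 1 else 0) = 0 :=
    Finset.sum_eq_zero fun b _ => if_neg (by simp only [Fin.val_natAdd]; omega)
  rw [h0, add_zero] at h
  exact h.trans (cnt_id d y hy)

lemma cnt_idxOf_high (M : MinorIdx r d) {z : ℕ} (hz : z ≤ r) :
    cnt (idxOf M).1 (d + z) + cnt M.2.1.1 (r - z) = d := by
  have h := wt_idxOf M fun x => if x.val < d + z then 1 else 0
  have h1 : ∀ t : Fin d, (if (Fin.castAdd r t).val < d + z then 1 else 0) = 1 := fun t =>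
    if_pos (by simp only [Fin.val_castAdd]; omega)
  rw [Finset.sum_congr rfl fun b _ => h1 (M.2.2.1 b), Finset.sum_congr rfl fun t _ => h1 t] at h
  have h2 : (∑ b, if (Fin.natAdd d (revRows M b)).val < d + z then 1 else 0) + cnt M.2.1.1 (r - z) =
      ∑ _b : Fin (M.1 + 1), 1 := by
    rw [cnt, ← Finset.sum_add_distrib]
    refine Finset.sum_congr rfl fun b _ => ?_
    have key : ∀ a : Fin r, (if (Fin.natAdd d a.rev).val < d + z then 1 else 0) +
        (if a.val < r - z then 1 else 0) = 1 := fun a => by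
      simp only [Fin.val_natAdd, Fin.val_rev]
      split_ifs <;> omega
    exact key _
  simp only [Finset.sum_const, Finset.card_fin, smul_eq_mul, mul_one] at h h2
  change cnt (idxOf M).1 (d + z) + _ = _ at h
  omega

lemma idxOf_le_iff (M M' : MinorIdx r d) : idxOf M ≤ idxOf M' ↔ MinorGE M M' := by
  have hB := le_iff_cnt M.2.2.2 M'.2.2.2
  have hA := le_iff_cnt M.2.1.2 M'.2.1.2
  rw [idx_le_iff_cnt]
  constructor
  · intro h
    have hA' := hA.2 fun y hy => by
      have h1 := cnt_idxOf_high M (Nat.sub_le r y)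
      have h2 := cnt_idxOf_high M' (Nat.sub_le r y)
      have := h (d + (r - y)) (by omega)
      rw [show r - (r - y) = y by omega] at h1 h2
      omega
    have hB' := hB.2 fun y hy => by
      have := cnt_idxOf_low M hy; have := cnt_idxOf_low M' hy; have := h y (by omega)
      omega
    exact ⟨Nat.le_of_succ_le_succ hA'.1, fun j j' hjj => ⟨hA'.2 j j' hjj, hB'.2 j j' hjj⟩⟩
  · intro h y hy
    rcases le_or_gt y d with hyd | hyd
    · have := hB.1 ⟨Nat.succ_le_succ h.1, fun j j' hjj => (h.2 j j' hjj).2⟩ y hyd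
      have := cnt_idxOf_low M hyd; have := cnt_idxOf_low M' hyd
      omega
    · obtain ⟨z, rfl⟩ : ∃ z, y = d + z := ⟨y - d, by omega⟩
      have := hA.1 ⟨Nat.succ_le_succ h.1, fun j j' hjj => (h.2 j j' hjj).1⟩ (r - z) (by omega)
      have := cnt_idxOf_high M (z := z) (by omega); have := cnt_idxOf_high M' (z := z) (by omega)
      omega

lemma idxOf_injective : Function.Injective (idxOf : MinorIdx r d → Idx d (d + r)) := by
  rintro ⟨s, A, B⟩ ⟨s', A', B'⟩ h
  obtain ⟨h1, h2⟩ := (idxOf_le_iff _ _).1 h.le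
  obtain ⟨h3, h4⟩ := (idxOf_le_iff _ _).1 h.ge
  obtain rfl : s = s' := le_antisymm h1 h3
  obtain rfl : A = A' := Subtype.ext (funext fun j => le_antisymm (h4 j j rfl).1 (h2 j j rfl).1)
  obtain rfl : B = B' := Subtype.ext (funext fun j => le_antisymm (h4 j j rfl).2 (h2 j j rfl).2)
  rfl

lemma idxOf_ne_bot (M : MinorIdx r d) : idxOf M ≠ bot' d r := by
  intro h
  have h1 := cnt_idxOf_low M (le_refl d)
  rw [h, show cnt (bot' d r).1 d = cnt (id : Fin d → Fin d) d from rfl, cnt_id d d le_rfl, cnt_eq_card,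
    Finset.filter_true_of_mem fun j _ => (M.2.2.1 j).isLt, Finset.card_fin] at h1
  omega

lemma card_rowSet_idxOf_le (M : MinorIdx r d) {t : ℕ} (h1 : 1 ≤ t) (h2 : t ≤ d + 1) (h3 : t ≤ r + 1) :
    idxOf M ≤ detIdx d r t h1 h2 h3 ↔ M.1 + 1 ≤ t - 1 := by
  classical
  have hr : rowSet (idxOf M) = Finset.univ.image (revRows M) := by
    ext i
    have him : Finset.univ.image (idxOf M).1 = Finset.univ.image (cellTuple (revRows M) M.2.2.1) :=
      Finset.image_orderEmbOfFin_univ _ _
    rw [rowSet, Finset.mem_filter, him]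
    simp only [Finset.mem_image, Finset.mem_univ, true_and]
    constructor
    · rintro ⟨t', ht⟩
      by_cases hb : ∃ b, M.2.2.1 b = t'
      · obtain ⟨b, rfl⟩ := hb
        rw [cellTuple_apply _ M.2.2.2.injective] at ht
        exact ⟨b, Fin.natAdd_injective _ _ ht⟩
      · rw [cellTuple_of_notMem _ fun b hb' => hb ⟨b, hb'⟩] at ht
        exact absurd ht.symm (natAdd_ne_castAdd _ _)
    · rintro ⟨b, rfl⟩
      exact ⟨_, cellTuple_apply _ M.2.2.2.injective b⟩
  have hc : (rowSet (idxOf M)).card = M.1 + 1 := by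
    rw [hr]
    exact (Finset.card_image_of_injective _ (revRows_injective M)).trans (Finset.card_fin _)
  rw [le_detIdx_iff, hc]
  omega

lemma exists_idxOf (θ : Idx d (d + r)) (hθ : θ ≠ bot' d r) : ∃ M, idxOf M = θ := by
  classical
  obtain ⟨s, hs⟩ : ∃ s, (rowSet θ).card = s + 1 := by
    refine Nat.exists_eq_succ_of_ne_zero fun h0 => hθ (idx_eq_of_wt fun f => ?_)
    have h1 := wt_idx θ f
    rw [Finset.card_eq_zero.1 h0, Finset.card_eq_zero.1 ((card_colSet θ).trans h0)] at h1
    simpa [wt, idxBot, Fin.castAdd, Fin.castLE] using h1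
  have hR : ((rowSet θ).map ⟨Fin.rev, Fin.rev_injective⟩).card = s + 1 := by rw [Finset.card_map, hs]
  refine ⟨⟨s, ⟨_, (((rowSet θ).map ⟨Fin.rev, Fin.rev_injective⟩).orderEmbOfFin hR).strictMono⟩,
    ⟨_, ((colSet θ).orderEmbOfFin ((card_colSet θ).trans hs)).strictMono⟩⟩, idx_eq_of_wt fun f => ?_⟩
  have h1 := wt_idx θ f
  refine Nat.add_right_cancel (Eq.trans ?_ h1.symm) (m := ∑ t ∈ colSet θ, f (Fin.castAdd r t))
  refine Eq.trans (congrArg _ ?_) ((wt_idxOf _ f).trans (congrArg _ ?_))
  · rw [← Finset.sum_image (g := (colSet θ).orderEmbOfFin ((card_colSet θ).trans hs))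
      (f := fun t => f (Fin.castAdd r t)) (RelEmbedding.injective _).injOn, Finset.image_orderEmbOfFin_univ]
  · simp only [revRows]
    rw [← Finset.sum_image (g := ((rowSet θ).map ⟨Fin.rev, Fin.rev_injective⟩).orderEmbOfFin hR)
      (f := fun i => f (Fin.natAdd d (Fin.rev i))) (RelEmbedding.injective _).injOn,
      Finset.image_orderEmbOfFin_univ, Finset.sum_map]
    simp

variable {K : Type u} [Field K] [Infinite K]

lemma homog_injective (hd : 0 < d) (w : Idx d (d + r)) : Function.Injective (homog (K := K) hd w) := by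
  haveI := sring_isDomain (K := K) hd w
  intro a b h
  refine IsLocalization.injective (OppLoc K w)
    (powers_le_nonZeroDivisors_of_noZeroDivisors (botCls_ne_zero hd w)) ?_
  refine (oppEquiv hd w).injective ?_
  change oppForward hd w _ = oppForward hd w _
  rw [oppForward_algebraMap, oppForward_algebraMap, h]

lemma homog_mon (hd : 0 < d) (w : Idx d (d + r)) {m : ℕ} (c : Fin m → Idx d (d + r)) :
    homog hd w (Ideal.Quotient.mk _ (chainMon K c)) =
      Polynomial.X ^ m * Polynomial.C (∏ i, Ideal.Quotient.mk (oppIdeal K w) (cellMinor K d r (c i))) := by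
  rw [chainMon, map_prod, map_prod, map_prod]
  simp only [homog_X, oppHom_mk, cellSigma, aeval_X]
  rw [Finset.prod_mul_distrib, Finset.prod_const, Finset.card_fin]

/-- Chains of minors of size `< t`. -/
abbrev BiStd (r d t : ℕ) : Type :=
  Σ k : ℕ, {c : Fin k → MinorIdx r d // (∀ i, (c i).1 + 1 ≤ t - 1) ∧ ∀ i j, i < j → MinorGE (c i) (c j)}

/-- The indices of a chain, decreasing, padded by the least one. -/
noncomputable def padTuple {t : ℕ} (c : BiStd r d t) (e : ℕ) : Fin (c.1 + e) → Idx d (d + r) :=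
  Fin.append (fun i => idxOf (c.2.1 i.rev)) fun _ => bot' d r

lemma padTuple_antitone {t : ℕ} (c : BiStd r d t) (e : ℕ) : Antitone (padTuple c e) := by
  intro i j hij
  induction j using Fin.addCases with
  | left j =>
    induction i using Fin.addCases with
    | left i =>
      simp only [padTuple, Fin.append_left]
      rcases eq_or_lt_of_le hij with h | h
      · rw [Fin.castAdd_injective _ _ h]
      · exact (idxOf_le_iff _ _).2 (c.2.2.2 _ _ (Fin.rev_lt_rev.2 (Fin.lt_def.2 (Fin.lt_def.1 h))))
    | right i =>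
      simp [Fin.le_def] at hij
      omega
  | right j =>
    simp only [padTuple, Fin.append_right]
    exact idxBot_le _ _

lemma padTuple_injective {t : ℕ} {c c' : BiStd r d t} {e e' : ℕ}
    (h : List.ofFn (padTuple c e) = List.ofFn (padTuple c' e')) : c = c' := by
  classical
  rw [padTuple, padTuple, List.ofFn_fin_append, List.ofFn_fin_append] at h
  have hf : ∀ (c : BiStd r d t) (e : ℕ),
      ((List.ofFn fun i => idxOf (c.2.1 i.rev)) ++ List.ofFn (fun _ : Fin e => bot' d r)).filter
        (fun θ => decide (θ ≠ bot' d r)) = List.ofFn fun i => idxOf (c.2.1 i.rev) := by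
    intro c e
    rw [List.filter_append, List.filter_eq_self.2, List.filter_eq_nil_iff.2, List.append_nil]
    · intro θ hθ
      obtain ⟨i, rfl⟩ := List.mem_ofFn.1 hθ
      simp
    · intro θ hθ
      obtain ⟨i, rfl⟩ := List.mem_ofFn.1 hθ
      simpa using idxOf_ne_bot _
  have h' := congrArg (List.filter fun θ => decide (θ ≠ bot' d r)) h
  rw [hf, hf] at h'
  obtain ⟨k, c, hc⟩ := c
  obtain ⟨k', c', hc'⟩ := c'
  obtain rfl : k = k' := by simpa using congrArg List.length h'
  have h'' := List.ofFn_injective h'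
  obtain rfl : c = c' := funext fun i => by
    simpa using idxOf_injective (congrFun h'' i.rev)
  rfl

variable {t : ℕ}

/-- The class of the product of the cell minors of a chain. -/
noncomputable def chainCls (w : Idx d (d + r)) (c : BiStd r d t) : OppRing K w :=
  ∏ i, Ideal.Quotient.mk (oppIdeal K w) (cellMinor K d r (idxOf (c.2.1 i)))

lemma prod_padTuple (w : Idx d (d + r)) (c : BiStd r d t) (e : ℕ) :
    (∏ i, Ideal.Quotient.mk (oppIdeal K w) (cellMinor K d r (padTuple c e i))) = chainCls w c := by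
  have hb : cellMinor K d r (bot' d r) = 1 := cellDet_bot
  rw [Fin.prod_univ_add]
  simp only [padTuple, Fin.append_left, Fin.append_right, hb, map_one, Finset.prod_const_one, mul_one]
  exact Equiv.prod_comp Fin.revPerm fun i => Ideal.Quotient.mk (oppIdeal K w) (cellMinor K d r (idxOf (c.2.1 i)))

theorem linearIndependent_chainCls (hd : 0 < d) (h1 : 1 ≤ t) (h2 : t ≤ d + 1) (h3 : t ≤ r + 1) :
    LinearIndependent K (chainCls (K := K) (detIdx d r t h1 h2 h3) : BiStd r d t → _) := by
  classical
  set w := detIdx d r t h1 h2 h3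
  rw [linearIndependent_iff']
  intro s g hg
  let M := s.sup Sigma.fst
  let E : BiStd r d t → Chain d (d + r) := fun c => ⟨c.1 + (M - c.1), padTuple c _, padTuple_antitone c _⟩
  have hE : Function.Injective E := by
    intro c c' h
    exact padTuple_injective (congrArg (fun x : Chain d (d + r) => List.ofFn x.2.1) h)
  set v : Chain d (d + r) →₀ K := ∑ c ∈ s, Finsupp.single (E c) (g c) with hv
  have hmem : comb K v ∈ schubertVanishing K d (d + r) w := by
    rw [← Ideal.Quotient.eq_zero_iff_mem]
    refine homog_injective hd w (Eq.trans ?_ (map_zero _).symm)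
    have hterm : ∀ c ∈ s, homog hd w (Ideal.Quotient.mk _ (comb K (Finsupp.single (E c) (g c)))) =
        Polynomial.X ^ M * Polynomial.C (g c • chainCls w c) := by
      intro c hc
      rw [comb_single]
      change homog hd w (Ideal.Quotient.mkₐ K _ (g c • mon K (E c))) = _
      rw [map_smul, map_smul, Ideal.Quotient.mkₐ_eq_mk, mon, homog_mon]
      simp only [E, prod_padTuple]
      rw [show c.1 + (M - c.1) = M from Nat.add_sub_cancel' (Finset.le_sup (f := Sigma.fst) hc),
        ← mul_smul_comm, Polynomial.smul_C]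
    rw [hv, map_sum, map_sum, map_sum, Finset.sum_congr rfl hterm, ← Finset.mul_sum, ← map_sum, hg, map_zero,
      mul_zero]
  intro c hc
  have h0 := (mem_schubertVanishing_iff hd (v := v) (by rw [sub_self]; exact zero_mem _)).1 hmem (E c) ?_
  · rw [hv, Finsupp.finset_sum_apply, Finset.sum_eq_single c (fun b _ hb => Finsupp.single_eq_of_ne fun h =>
      hb (hE h).symm) (fun h => absurd hc h), Finsupp.single_eq_same] at h0
    exact h0
  · intro k
    change padTuple c _ k ≤ w
    induction k using Fin.addCases with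
    | left k => rw [padTuple, Fin.append_left]; exact (card_rowSet_idxOf_le _ h1 h2 h3).2 (c.2.2.1 _)
    | right k => rw [padTuple, Fin.append_right]; exact idxBot_le _ _

theorem span_chainCls (hd : 0 < d) (h1 : 1 ≤ t) (h2 : t ≤ d + 1) (h3 : t ≤ r + 1) :
    Submodule.span K (Set.range (chainCls (K := K) (detIdx d r t h1 h2 h3) : BiStd r d t → _)) = ⊤ := by
  classical
  set w := detIdx d r t h1 h2 h3
  set P := Submodule.span K (Set.range (chainCls (K := K) w : BiStd r d t → _))
  have key : ∀ (m : ℕ) (c : Fin m → Idx d (d + r)), Antitone c →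
      (∏ i, Ideal.Quotient.mk (oppIdeal K w) (cellMinor K d r (c i))) ∈ P := by
    intro m c hc
    by_cases hw : ∀ i, c i ≤ w
    swap
    · obtain ⟨i, hi⟩ := not_forall.1 hw
      rw [← Finset.mul_prod_erase _ _ (Finset.mem_univ i), Ideal.Quotient.eq_zero_iff_mem.2
        (show cellMinor K d r (c i) ∈ oppIdeal K w from Ideal.subset_span ⟨_, hi, rfl⟩), zero_mul]
      exact zero_mem _
    induction m with
    | zero => exact Submodule.subset_span ⟨⟨0, ![], fun i => i.elim0, fun i => i.elim0⟩, by simp [chainCls]⟩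
    | succ m ih =>
      by_cases hl : c (Fin.last m) = bot' d r
      · rw [Fin.prod_univ_castSucc, hl, show cellMinor K d r (bot' d r) = 1 from cellDet_bot, map_one, mul_one]
        exact ih _ (hc.comp_monotone Fin.strictMono_castSucc.monotone) fun i => hw _
      · have hne : ∀ i, c i ≠ bot' d r := fun i hi =>
          hl (le_antisymm (hi ▸ hc (Fin.le_last i)) (idxBot_le _ _))
        choose N hN using fun i => exists_idxOf (c i) (hne i)
        refine Submodule.subset_span ⟨⟨m + 1, fun i => N i.rev, fun i => ?_, fun i j hij => ?_⟩, ?_⟩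
        · exact (card_rowSet_idxOf_le _ h1 h2 h3).1 (by rw [hN]; exact hw _)
        · exact (idxOf_le_iff _ _).1 (by rw [hN, hN]; exact hc (Fin.rev_le_rev.2 hij.le))
        · simp only [chainCls, hN]
          exact Equiv.prod_comp Fin.revPerm fun i => Ideal.Quotient.mk (oppIdeal K w) (cellMinor K d r (c i))
  refine eq_top_iff.2 fun x _ => ?_
  obtain ⟨y, rfl⟩ := oppHom_surjective hd w x
  obtain ⟨f, rfl⟩ := Ideal.Quotient.mk_surjective y
  obtain ⟨v, hv⟩ := exists_comb K f
  have hf : Ideal.Quotient.mk (schubertVanishing K d (d + r) w) f =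
      Ideal.Quotient.mk _ (comb K v) := by
    rw [Ideal.Quotient.mk_eq_mk_iff_sub_mem, schubertVanishing_eq_bandIdeal hd (Nat.le_add_right d r)]
    exact plIdealTop_le_bandIdeal K _ _ hv
  rw [hf, comb, Finsupp.linearCombination_apply, Finsupp.sum, map_sum, map_sum]
  refine Submodule.sum_mem _ fun e _ => ?_
  change oppHom hd w (Ideal.Quotient.mkₐ K _ (v e • mon K e)) ∈ P
  rw [map_smul, map_smul, Ideal.Quotient.mkₐ_eq_mk, oppHom_mk, mon, chainMon, map_prod, map_prod]
  refine Submodule.smul_mem _ _ ?_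
  simpa only [cellSigma, aeval_X] using key e.1 e.2.1 e.2.2

/-- Standard bitableaux form a basis of the determinantal ring. -/
theorem bitableau (m n : ℕ) (hn : 0 < n) (h1 : 1 ≤ t) (h2 : t ≤ n + 1) (h3 : t ≤ m + 1) :
    LinearIndependent K (fun c : BiStd m n t =>
        Ideal.Quotient.mk (CAlgX.minorIdeal (genMatrix K m n) t)
          (Finset.univ.prod fun i => minorOf K (c.2.1 i))) ∧
      Submodule.span K (Set.range fun c : BiStd m n t =>
        Ideal.Quotient.mk (CAlgX.minorIdeal (genMatrix K m n) t)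
          (Finset.univ.prod fun i => minorOf K (c.2.1 i))) = ⊤ := by
  classical
  set w := detIdx n m t h1 h2 h3
  set I := CAlgX.minorIdeal (genMatrix K m n) t
  have hI : oppIdeal K w = I := oppIdeal_detIdx hn h1 h2 h3
  let ρ : MvPolynomial (Fin m × Fin n) K →ₐ[K] MvPolynomial (Fin m × Fin n) K :=
    rename fun p => (p.1.rev, p.2)
  have hρdet : ∀ {k : ℕ} (S : Fin k → Fin m) (T : Fin k → Fin n),
      ρ ((genMatrix K m n).submatrix S T).det = ((genMatrix K m n).submatrix (fun b => (S b).rev) T).det := by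
    intro k S T
    rw [AlgHom.map_det]
    congr 1
    ext a b
    simp [ρ, genMatrix]
  have hρI : I ≤ I.comap ρ := by
    refine Ideal.span_le.2 ?_
    rintro _ ⟨⟨S, T⟩, rfl⟩
    rw [SetLike.mem_coe, Ideal.mem_comap]
    dsimp only
    rw [hρdet]
    exact Ideal.subset_span ⟨(_, T), rfl⟩
  let σ : (MvPolynomial (Fin m × Fin n) K ⧸ I) →ₐ[K] OppRing K w :=
    Ideal.Quotient.liftₐ I ((Ideal.Quotient.mkₐ K (oppIdeal K w)).comp ρ) fun a ha =>
      Ideal.Quotient.eq_zero_iff_mem.2 (hI.symm ▸ (hρI ha : ρ a ∈ I))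
  let σ' : OppRing K w →ₐ[K] (MvPolynomial (Fin m × Fin n) K ⧸ I) :=
    Ideal.Quotient.liftₐ (oppIdeal K w) ((Ideal.Quotient.mkₐ K I).comp ρ) fun a ha =>
      Ideal.Quotient.eq_zero_iff_mem.2 (hρI (hI ▸ ha) : ρ a ∈ I)
  have hinv : ∀ x, σ' (σ x) = x := fun x => by
    obtain ⟨a, rfl⟩ := Ideal.Quotient.mk_surjective x
    change Ideal.Quotient.mk I (ρ (ρ a)) = _
    congr 1
    rw [rename_rename, show ((fun p : Fin m × Fin n => (p.1.rev, p.2)) ∘ fun p : Fin m × Fin n => (p.1.rev, p.2)) = id
      from funext fun p => by simp]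
    exact rename_id_apply a
  let ε : BiStd m n t → Kˣ := fun c => ∏ i, (-1) ^ invCount n (n + m) (cellTuple (revRows (c.2.1 i)) (c.2.1 i).2.2.1)
  have hσ : ∀ c : BiStd m n t,
      σ (Ideal.Quotient.mk I (Finset.univ.prod fun i => minorOf K (c.2.1 i))) =
        algebraMap K (OppRing K w) (ε c : K) * chainCls w c := by
    intro c
    change Ideal.Quotient.mkₐ K (oppIdeal K w) (ρ _) = _
    rw [map_prod, map_prod]
    simp only [ε, chainCls, Units.coe_prod, map_prod, ← Finset.prod_mul_distrib]
    refine Finset.prod_congr rfl fun i _ => ?_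
    rw [Ideal.Quotient.mkₐ_eq_mk, minorOf, hρdet]
    change Ideal.Quotient.mk _ ((genMatrix K m n).submatrix (revRows (c.2.1 i)) (c.2.1 i).2.2.1).det = _
    rw [← cellDet_cellTuple K _ (c.2.1 i).2.2.2.injective, cellDet_eq, dif_pos (card_image_cellTuple _)]
    simp only [map_mul, map_pow, map_neg, map_one, Units.val_pow_eq_pow_val, Units.val_neg, Units.val_one]
    rfl
  have hli := (linearIndependent_chainCls (K := K) (r := m) hn h1 h2 h3).units_smul ε
  constructor
  · refine LinearIndependent.of_comp σ.toLinearMap ?_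
    have he : (σ.toLinearMap ∘ fun c : BiStd m n t =>
        Ideal.Quotient.mk I (Finset.univ.prod fun i => minorOf K (c.2.1 i))) = ε • chainCls w :=
      funext fun c => (hσ c).trans (Algebra.smul_def (ε c : K) _).symm
    rw [he]
    exact hli
  · refine eq_top_iff.2 fun x _ => ?_
    have hx : σ x ∈ Submodule.span K (Set.range fun c : BiStd m n t =>
        σ (Ideal.Quotient.mk I (Finset.univ.prod fun i => minorOf K (c.2.1 i)))) := by
      have h := span_chainCls (K := K) (r := m) hn h1 h2 h3
      refine (eq_top_iff.1 h).trans (Submodule.span_le.2 ?_) Submodule.mem_top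
      rintro _ ⟨c, rfl⟩
      have hx' : chainCls (K := K) w c = algebraMap K (OppRing K w) ((ε c)⁻¹ : Kˣ).val *
          σ (Ideal.Quotient.mk I (Finset.univ.prod fun i => minorOf K (c.2.1 i))) := by
        rw [hσ, ← mul_assoc, ← map_mul, Units.inv_mul, map_one, one_mul]
      rw [SetLike.mem_coe, hx']
      erw [← Algebra.smul_def (R := K) (A := OppRing K w)]
      exact Submodule.smul_mem _ _ (Submodule.subset_span ⟨c, rfl⟩)
    have h2 := Submodule.mem_map_of_mem (f := σ'.toLinearMap) hx
    rw [AlgHom.toLinearMap_apply, hinv, Submodule.map_span, ← Set.range_comp] at h2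
    simp only [Function.comp_def, AlgHom.toLinearMap_apply, hinv] at h2
    exact h2

end Groth.Agent.W4Gr15
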