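import Groth.Agent.W4Gr15.Determinantal
import Groth.Agent.W4Gr15.Points
import Mathlib.RingTheory.Nullstellensatz
import Mathlib.LinearAlgebra.Matrix.NonsingularInverse

/-!
# First and second fundamental theorems for `GL_n`
-/

universe u

open MvPolynomial W4bk4grassmannian

namespace Groth.Agent.W4Gr15

variable {K : Type u} [Field K]

/-- A matrix with no non-zero `(n+1)`-minor factors through `K^n`. -/
lemma exists_factor {m q n : ℕ} (Y : Matrix (Fin m) (Fin q) K)
    (h : ∀ (S : Fin (n + 1) → Fin m) (T : Fin (n + 1) → Fin q), (Y.submatrix S T).det = 0) :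
    ∃ (U : Matrix (Fin m) (Fin n) K) (W : Matrix (Fin n) (Fin q) K), Y = U * W := by
  classical
  obtain ⟨κ, a, ha, hsp, hli⟩ := exists_linearIndependent' K (fun j => Y.transpose j)
  haveI : Fintype κ := Fintype.ofInjective a ha
  have hcard : Fintype.card κ ≤ n := by
    by_contra hlt
    obtain ⟨g⟩ := Function.Embedding.nonempty_of_card_le (α := Fin (n + 1)) (β := κ) (by simp; omega)
    have hA : LinearIndependent K (Matrix.transpose (Matrix.of fun i b => Y i (a (g b)))) :=
      hli.comp g g.injective
    obtain ⟨θ, hθ⟩ := exists_minor_ne_zero hA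
    exact hθ (h θ.1 fun b => a (g b))
  obtain ⟨g⟩ := Function.Embedding.nonempty_of_card_le (α := κ) (β := Fin n) (by simpa using hcard)
  have hmem : ∀ j, ∃ c : κ → K, ∑ b, c b • Y.transpose (a b) = Y.transpose j := fun j =>
    (Submodule.mem_span_range_iff_exists_fun K).1 (hsp ▸ Submodule.subset_span ⟨j, rfl⟩)
  choose c hc using hmem
  refine ⟨Matrix.of fun i k => if h : ∃ b, g b = k then Y i (a h.choose) else 0,
    Matrix.of fun k j => if h : ∃ b, g b = k then c j h.choose else 0, ?_⟩
  ext i j
  rw [Matrix.mul_apply, ← Finset.sum_subset (Finset.subset_univ (Finset.univ.map g))]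
  · rw [Finset.sum_map, show Y i j = Y.transpose j i from rfl, ← hc j, Finset.sum_apply]
    refine Finset.sum_congr rfl fun b _ => ?_
    have hb : ∃ b', g b' = g b := ⟨b, rfl⟩
    simp only [Matrix.of_apply, dif_pos hb, g.injective hb.choose_spec, Pi.smul_apply, smul_eq_mul,
      Matrix.transpose_apply, mul_comm]
  · intro k _ hk
    simp only [Matrix.of_apply]
    rw [dif_neg fun ⟨b, hb⟩ => hk (Finset.mem_map.2 ⟨b, Finset.mem_univ b, hb⟩), zero_mul]

variable {m n q : ℕ}

/-- The `U`-part of a point of the pair space. -/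
def uPart (a : (Fin m × Fin n) ⊕ (Fin n × Fin q) → K) : Matrix (Fin m) (Fin n) K :=
  Matrix.of fun i k => a (Sum.inl (i, k))

/-- The `W`-part of a point of the pair space. -/
def wPart (a : (Fin m × Fin n) ⊕ (Fin n × Fin q) → K) : Matrix (Fin n) (Fin q) K :=
  Matrix.of fun k j => a (Sum.inr (k, j))

lemma eval_pairing (a : (Fin m × Fin n) ⊕ (Fin n × Fin q) → K) (P : MvPolynomial (Fin m × Fin q) K) :
    MvPolynomial.eval a (pairingMap K n m q P) =
      MvPolynomial.eval (fun p => (uPart a * wPart a) p.1 p.2) P := by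
  induction P using MvPolynomial.induction_on with
  | C c => simp [pairingMap]
  | add p r hp hr => simp only [map_add, hp, hr]
  | mul_X p v hp =>
    rw [map_mul, map_mul, hp, map_mul]
    congr 1
    simp [pairingMap, uPart, wPart, Matrix.mul_apply]

lemma eval_genMinor (y : Fin m × Fin q → K) {k : ℕ} (S : Fin k → Fin m) (T : Fin k → Fin q) :
    MvPolynomial.eval y ((genMatrix K m q).submatrix S T).det =
      ((Matrix.of fun i j => y (i, j)).submatrix S T).det := by
  rw [RingHom.map_det]
  congr 1
  ext s t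
  simp [genMatrix]

lemma mem_zeroLocus_minorIdeal {t : ℕ} (y : Fin m × Fin q → K)
    (h : y ∈ zeroLocus K (CAlgX.minorIdeal (genMatrix K m q) t)) (S : Fin t → Fin m) (T : Fin t → Fin q) :
    ((Matrix.of fun i j => y (i, j)).submatrix S T).det = 0 := by
  have := h _ (Ideal.subset_span ⟨(S, T), rfl⟩)
  rw [MvPolynomial.aeval_eq_eval] at this
  rw [← eval_genMinor]
  exact this

lemma pairing_kill (n m q : ℕ) :
    CAlgX.minorIdeal (genMatrix K m q) (n + 1) ≤ RingHom.ker (pairingMap K n m q).toRingHom := by
  refine Ideal.span_le.2 ?_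
  rintro _ ⟨⟨S, T⟩, rfl⟩
  rw [SetLike.mem_coe, RingHom.mem_ker, AlgHom.toRingHom_eq_coe, RingHom.coe_coe, AlgHom.map_det]
  let U' : Matrix (Fin (n + 1)) (Fin (n + 1)) (PairRing K n m q) :=
    Matrix.of fun s k => if h : k.val < n then X (Sum.inl (S s, ⟨k.val, h⟩)) else 0
  let W' : Matrix (Fin (n + 1)) (Fin (n + 1)) (PairRing K n m q) :=
    Matrix.of fun k t => if h : k.val < n then X (Sum.inr (⟨k.val, h⟩, T t)) else 0
  have : (pairingMap K n m q).mapMatrix ((genMatrix K m q).submatrix S T) = U' * W' := by
    ext1 s t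
    rw [Matrix.mul_apply, Fin.sum_univ_castSucc]
    simp [U', W', genMatrix, pairingMap]
  rw [this, Matrix.det_mul, Matrix.det_eq_zero_of_column_eq_zero (j := Fin.last n) (A := U')
    fun i => by simp [U'], zero_mul]

lemma minorIdeal_eq_bot {t : ℕ} (h : m < t ∨ q < t) : CAlgX.minorIdeal (genMatrix K m q) t = ⊥ := by
  rw [CAlgX.minorIdeal, Ideal.span_eq_bot]
  rintro _ ⟨⟨f, g⟩, rfl⟩
  rcases h with h | h
  · obtain ⟨a, b, hne, he⟩ := Fintype.exists_ne_map_eq_of_card_lt f (by simpa using h)
    exact Matrix.det_zero_of_row_eq hne (funext fun i => by simp [he])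
  · obtain ⟨a, b, hne, he⟩ := Fintype.exists_ne_map_eq_of_card_lt g (by simpa using h)
    exact Matrix.det_zero_of_column_eq hne fun i => by simp [he]

/-- The second fundamental theorem. -/
theorem sft_GL [IsAlgClosed K] (m n q : ℕ) :
    RingHom.ker (pairingMap K n m q).toRingHom = CAlgX.minorIdeal (genMatrix K m q) (n + 1) := by
  refine le_antisymm (fun f hf => ?_) (pairing_kill n m q)
  set I := CAlgX.minorIdeal (genMatrix K m q) (n + 1)
  have hrad : I.IsRadical := by
    by_cases hs : n + 1 ≤ m ∧ n + 1 ≤ q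
    · haveI := (determinantal (K := K) m q (n + 1) (by omega) (by omega) (by omega) hs.1 hs.2).1
      exact (Ideal.Quotient.isDomain_iff_prime I).1 this |>.isRadical
    · rw [show I = ⊥ from minorIdeal_eq_bot (by omega)]
      exact (Ideal.isPrime_bot (α := MvPolynomial (Fin m × Fin q) K)).isRadical
  rw [← hrad.radical, ← MvPolynomial.vanishingIdeal_zeroLocus_eq_radical (K := K), mem_vanishingIdeal_iff]
  intro y hy
  obtain ⟨U, W, hUW⟩ := exists_factor (Matrix.of fun i j => y (i, j)) (mem_zeroLocus_minorIdeal y hy)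
  let a : (Fin m × Fin n) ⊕ (Fin n × Fin q) → K := Sum.elim (fun p => U p.1 p.2) (fun p => W p.1 p.2)
  have h := eval_pairing a f
  rw [RingHom.mem_ker, AlgHom.toRingHom_eq_coe, RingHom.coe_coe] at hf
  rw [hf, map_zero] at h
  rw [MvPolynomial.aeval_eq_eval, h]
  have hy' : (fun p : Fin m × Fin q => (uPart a * wPart a) p.1 p.2) = y := funext fun p => by
    rw [show uPart a * wPart a = U * W from rfl, ← hUW]
    rfl
  rw [hy']

/-- The extremal coordinate generates a radical ideal on the opposite cell. -/
lemma oppIdeal_sup_isRadical [Infinite K] {d r : ℕ} (hd : 0 < d) (hr : 0 < r) (w : Idx d (d + r)) :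
    (oppIdeal K w ⊔ Ideal.span {cellMinor K d r w}).IsRadical := by
  rintro f ⟨k, hk⟩
  rw [sup_comm, ← Ideal.mem_quotient_iff_mem_sup, map_pow, Ideal.map_span, Set.image_singleton] at hk
  rw [sup_comm, ← Ideal.mem_quotient_iff_mem_sup, Ideal.map_span, Set.image_singleton]
  set a := Ideal.Quotient.mk (oppIdeal K w) f
  set e := algebraMap (SRing K w) (OppLoc K w) (extr K w)
  have hδ : Ideal.Quotient.mk (oppIdeal K w) (cellMinor K d r w) = oppEval hd w e := by
    rw [oppEval_algebraMap, oppHom_mk, cellSigma, aeval_X]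
  have hrad : (Ideal.span {e}).IsRadical := by
    rw [show Ideal.span {e} = (Ideal.span {extr K w}).map (algebraMap (SRing K w) (OppLoc K w)) by
      rw [Ideal.map_span, Set.image_singleton]]
    rw [← (span_extr_isRadical hd (show d < d + r by omega) w).radical,
      IsLocalization.map_radical (Submonoid.powers (botCls (K := K) w))]
    exact Ideal.radical_isRadical _
  have hmem : tauBar hd w a ∈ Ideal.span {e} := by
    refine hrad ⟨k, ?_⟩
    obtain ⟨b, hb⟩ := Ideal.mem_span_singleton'.1 hk
    rw [← map_pow, ← hb, map_mul]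
    refine Ideal.mul_mem_left _ _ ?_
    rw [tauBar_mk, tau_cellMinor hd]
    exact Ideal.mul_mem_right _ _ (Ideal.mem_span_singleton_self _)
  obtain ⟨b, hb⟩ := Ideal.mem_span_singleton'.1 hmem
  have := congrArg (oppEval hd w) hb
  rw [map_mul, oppEval_tauBar, ← hδ] at this
  exact Ideal.mem_span_singleton'.2 ⟨_, this⟩

variable [IsAlgClosed K]

lemma eval_glTranslate (a : (Fin m × Fin n) ⊕ (Fin n × Fin q) → K) (A : GL (Fin n) K) (f : PairRing K n m q) :
    MvPolynomial.eval a (glTranslate K n m q A f) =
      MvPolynomial.eval (Sum.elim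
        (fun p => (uPart a * ((A⁻¹ : GL (Fin n) K) : Matrix (Fin n) (Fin n) K)) p.1 p.2)
        (fun p => ((A : Matrix (Fin n) (Fin n) K) * wPart a) p.1 p.2)) f := by
  induction f using MvPolynomial.induction_on with
  | C c => simp [glTranslate]
  | add p r hp hr => simp only [map_add, hp, hr]
  | mul_X p v hp =>
    rw [map_mul, map_mul, hp, map_mul]
    congr 1
    rcases v with v | v <;> simp [glTranslate, uPart, wPart, Matrix.mul_apply]

lemma gl_invariant_of_mem {f : PairRing K n m q} (h : f ∈ (pairingMap K n m q).range) (A : GL (Fin n) K) :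
    glTranslate K n m q A f = f := by
  obtain ⟨P, rfl⟩ := (AlgHom.mem_range _).1 h
  refine MvPolynomial.funext fun a => ?_
  rw [eval_glTranslate, eval_pairing, eval_pairing]
  refine congrArg (fun y => MvPolynomial.eval y P) (funext fun p => ?_)
  let g : Matrix (Fin n) (Fin n) K := A
  let g' : Matrix (Fin n) (Fin n) K := ((A⁻¹ : GL (Fin n) K) : Matrix (Fin n) (Fin n) K)
  change ((uPart a * g') * (g * wPart a)) p.1 p.2 = (uPart a * wPart a) p.1 p.2
  rw [Matrix.mul_assoc, ← Matrix.mul_assoc g', show g' * g = 1 from Units.inv_mul A, Matrix.one_mul]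

/-- The first fundamental theorem when `n ≤ m, q`. -/
lemma fft_GL_big (hm : 0 < m) (hq : 0 < q) (hnm : n ≤ m) (hnq : n ≤ q) {f : PairRing K n m q}
    (hf : ∀ A : GL (Fin n) K, glTranslate K n m q A f = f) : f ∈ (pairingMap K n m q).range := by
  classical
  set w := detIdx q m (n + 1) (by omega) (by omega) (by omega) with hw
  set I := CAlgX.minorIdeal (genMatrix K m q) (n + 1)
  have hI : oppIdeal K w = I := oppIdeal_detIdx hq _ _ _
  have hcard : (rowSet w).card = n := by
    refine le_antisymm (Nat.le_of_succ_le_succ ((le_detIdx_iff _ _ _ w).1 le_rfl)) ?_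
    rcases Nat.eq_zero_or_pos n with hn | hn
    · omega
    rw [le_card_rowSet_iff w hq hn hnq]
    simp only [w, detIdx]
    rw [dif_neg (by omega)]
    simp only []
    omega
  let S : Fin n → Fin m := (rowSet w).orderEmbOfFin hcard
  let T : Fin n → Fin q := (colSet w).orderEmbOfFin ((card_colSet w).trans hcard)
  set δ : MvPolynomial (Fin m × Fin q) K := ((genMatrix K m q).submatrix S T).det
  set Z : Matrix (Fin n) (Fin n) (MvPolynomial (Fin m × Fin q) K) := (genMatrix K m q).submatrix S T
  have hrad : (I ⊔ Ideal.span {δ}).IsRadical := by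
    have hspan : Ideal.span {δ} = Ideal.span {cellMinor K q m w} := by
      have h1 : cellMinor K q m w = (-1) ^ invCount q (q + m) (idxTuple w) * δ := by
        rw [cellMinor_eq K w]
        congr 1
        generalize hc : (colSet w).orderEmbOfFin (card_colSet w) = e1
        subst hc
        have key : ∀ {k : ℕ} (hk : (rowSet w).card = k),
            ((genMatrix K m q).submatrix ((rowSet w).orderEmbOfFin hk)
              ((colSet w).orderEmbOfFin ((card_colSet w).trans hk))).det =
            ((genMatrix K m q).submatrix ((rowSet w).orderEmbOfFin rfl)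
              ((colSet w).orderEmbOfFin (card_colSet w))).det := by
          rintro _ rfl; rfl
        exact (key hcard).symm
      rw [h1, Ideal.span_singleton_mul_left_unit (IsUnit.pow _ isUnit_one.neg)]
    rw [hspan, ← hI]
    exact oppIdeal_sup_isRadical hq hm w
  set Δ := pairingMap K n m q δ with hΔ
  -- clear denominators on `Δ ≠ 0`
  let y : ((Fin m × Fin n) ⊕ (Fin n × Fin q) → K) → (Fin m × Fin n) ⊕ (Fin n × Fin q) → K := fun a =>
    Sum.elim (fun p => MvPolynomial.eval a (pairingMap K n m q (X (p.1, T p.2))))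
      (fun p => MvPolynomial.eval a (pairingMap K n m q ((Z.adjugate * (genMatrix K m q).submatrix S id) p.1 p.2)) *
        (MvPolynomial.eval a Δ)⁻¹)
  have key : ∀ p : PairRing K n m q, ∃ N : ℕ, ∃ P : MvPolynomial (Fin m × Fin q) K, ∀ a,
      MvPolynomial.eval a Δ ≠ 0 →
      MvPolynomial.eval (y a) p * MvPolynomial.eval a Δ ^ N = MvPolynomial.eval a (pairingMap K n m q P) := by
    intro p
    induction p using MvPolynomial.induction_on with
    | C c => exact ⟨0, C c, fun a _ => by simp [pairingMap]⟩
    | add p p' hp hp' =>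
      obtain ⟨N, P, hP⟩ := hp
      obtain ⟨N', P', hP'⟩ := hp'
      refine ⟨N + N', P * δ ^ N' + P' * δ ^ N, fun a ha => ?_⟩
      simp only [map_add, map_mul, map_pow, ← hΔ, ← hP a ha, ← hP' a ha]
      ring
    | mul_X p v hp =>
      obtain ⟨N, P, hP⟩ := hp
      rcases v with v | v
      · refine ⟨N, P * X (v.1, T v.2), fun a ha => ?_⟩
        simp only [map_mul, eval_X, ← hP a ha, y, Sum.elim_inl]
        ring
      · refine ⟨N + 1, P * (Z.adjugate * (genMatrix K m q).submatrix S id) v.1 v.2, fun a ha => ?_⟩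
        simp only [map_mul, eval_X, ← hP a ha, y, Sum.elim_inr]
        field_simp
        ring
  obtain ⟨N, P, hP⟩ := key f
  have hΔne : Δ ≠ 0 := by
    intro h0
    have hmem : δ ∈ RingHom.ker (pairingMap K n m q).toRingHom := h0
    rw [sft_GL] at hmem
    have hS : Function.Injective S := ((rowSet w).orderEmbOfFin hcard).injective
    have hT : Function.Injective T := ((colSet w).orderEmbOfFin _).injective
    let y0 : Fin m × Fin q → K := fun p => if ∃ b, S b = p.1 ∧ T b = p.2 then 1 else 0
    have hsub : ((Matrix.of fun i j => y0 (i, j)).submatrix S T) = 1 := by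
      ext s t
      simp only [Matrix.submatrix_apply, Matrix.of_apply, y0, Matrix.one_apply]
      refine if_congr ⟨?_, ?_⟩ rfl rfl
      · rintro ⟨b, hb1, hb2⟩
        exact (hS hb1).symm.trans (hT hb2)
      · rintro rfl
        exact ⟨s, rfl, rfl⟩
    have hy0 : ∀ p ∈ I, MvPolynomial.eval y0 p = 0 := by
      intro p hp
      let a0 : (Fin m × Fin n) ⊕ (Fin n × Fin q) → K :=
        Sum.elim (fun p => if S p.2 = p.1 then 1 else 0) (fun p => if T p.1 = p.2 then 1 else 0)
      have h1 := eval_pairing a0 p
      rw [show pairingMap K n m q p = 0 from pairing_kill n m q hp, map_zero] at h1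
      rw [h1]
      refine congrArg (fun y => MvPolynomial.eval y p) (funext fun v => ?_)
      simp only [y0, uPart, wPart, a0, Matrix.mul_apply, Matrix.of_apply, Sum.elim_inl, Sum.elim_inr]
      split_ifs with hb
      · obtain ⟨b, hb1, hb2⟩ := hb
        rw [Finset.sum_eq_single b]
        · rw [if_pos hb1, if_pos hb2, one_mul]
        · intro k _ hk
          rw [if_neg fun h => hk (hS (h.trans hb1.symm)), zero_mul]
        · simp
      · refine (Finset.sum_eq_zero fun k _ => ?_).symm
        by_cases hk : S k = v.1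
        · rw [if_neg fun h => hb ⟨k, hk, h⟩, mul_zero]
        · rw [if_neg hk, zero_mul]
    have h2 := hy0 δ hmem
    rw [eval_genMinor, hsub, Matrix.det_one] at h2
    exact one_ne_zero h2
  have hfP : f * Δ ^ N = pairingMap K n m q P := by
    refine mul_right_cancel₀ hΔne (MvPolynomial.funext fun a => ?_)
    simp only [map_mul, map_pow]
    by_cases ha : MvPolynomial.eval a Δ = 0
    · rw [ha, mul_zero, mul_zero]
    congr 1
    rw [← hP a ha]
    congr 1
    set U := uPart a
    set W := wPart a
    set WT : Matrix (Fin n) (Fin n) K := W.submatrix id T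
    set US : Matrix (Fin n) (Fin n) K := U.submatrix S id
    have hY : ∀ i j, MvPolynomial.eval a (pairingMap K n m q (X (i, j))) = (U * W) i j := fun i j => by
      rw [eval_pairing, eval_X]
    have hZ : (MvPolynomial.eval a).mapMatrix ((pairingMap K n m q).mapMatrix Z) = US * WT := by
      ext s t
      exact hY (S s) (T t)
    have hδa : MvPolynomial.eval a Δ = US.det * WT.det := by
      rw [hΔ, AlgHom.map_det, RingHom.map_det, ← Matrix.det_mul, ← hZ]
    have hWT : IsUnit WT.det := by
      rw [isUnit_iff_ne_zero]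
      intro h0
      exact ha (by rw [hδa, h0, mul_zero])
    have hUS : IsUnit US.det := by
      rw [isUnit_iff_ne_zero]
      intro h0
      exact ha (by rw [hδa, h0, zero_mul])
    let A : GL (Fin n) K := (WT.nonsingInvUnit hWT)⁻¹
    have hinv := congrArg (MvPolynomial.eval a) (hf A)
    rw [eval_glTranslate] at hinv
    rw [← hinv]
    refine congrArg (fun y => MvPolynomial.eval y f) (funext fun v => ?_)
    rcases v with v | v
    · change (U * ((A⁻¹ : GL (Fin n) K) : Matrix (Fin n) (Fin n) K)) v.1 v.2 = MvPolynomial.eval a _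
      rw [show A⁻¹ = WT.nonsingInvUnit hWT from inv_inv _, hY]
      rfl
    · change ((A : Matrix (Fin n) (Fin n) K) * W) v.1 v.2 = _ * _
      have hA : (A : Matrix (Fin n) (Fin n) K) = WT⁻¹ := by
        refine (Matrix.inv_eq_left_inv ?_).symm
        exact Units.inv_mul (WT.nonsingInvUnit hWT)
      have hadj : ((Z.adjugate * (genMatrix K m q).submatrix S id).map (pairingMap K n m q)).map
          (MvPolynomial.eval a) = (US * WT).adjugate * (US * W) := by
        rw [Matrix.map_mul, Matrix.map_mul, ← AlgHom.mapMatrix_apply, ← RingHom.mapMatrix_apply,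
          AlgHom.map_adjugate, RingHom.map_adjugate, hZ]
        congr 1
        ext s t
        exact hY (S s) t
      have hentry : MvPolynomial.eval a (pairingMap K n m q ((Z.adjugate * (genMatrix K m q).submatrix S id) v.1 v.2)) =
          ((US * WT).adjugate * (US * W)) v.1 v.2 := by
        rw [← hadj]; rfl
      rw [hentry, hA, Matrix.adjugate_mul_distrib, Matrix.mul_assoc WT.adjugate, ← Matrix.mul_assoc US.adjugate,
        Matrix.adjugate_mul, Matrix.smul_mul, Matrix.one_mul, Matrix.mul_smul, Matrix.inv_def, Matrix.smul_mul,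
        Matrix.smul_apply, Matrix.smul_apply, smul_eq_mul, smul_eq_mul, hδa, Ring.inverse_eq_inv']
      field_simp [hUS.ne_zero, hWT.ne_zero]
  clear key hP
  induction N generalizing P with
  | zero => exact (AlgHom.mem_range _).2 ⟨P, by rw [← hfP, pow_zero, mul_one]⟩
  | succ N ih =>
    have hmem : P ∈ I ⊔ Ideal.span {δ} := by
      rw [← hrad.radical, ← MvPolynomial.vanishingIdeal_zeroLocus_eq_radical (K := K), mem_vanishingIdeal_iff]
      intro z hz
      have hzI : z ∈ zeroLocus K I := zeroLocus_anti_mono le_sup_left hz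
      have hzδ : MvPolynomial.eval z δ = 0 := by
        rw [← MvPolynomial.aeval_eq_eval]
        exact hz δ (Ideal.mem_sup_right (Ideal.mem_span_singleton_self δ))
      obtain ⟨U, W, hUW⟩ := exists_factor (Matrix.of fun i j => z (i, j)) (mem_zeroLocus_minorIdeal z hzI)
      let a : (Fin m × Fin n) ⊕ (Fin n × Fin q) → K := Sum.elim (fun p => U p.1 p.2) (fun p => W p.1 p.2)
      have hy' : (fun p : Fin m × Fin q => (uPart a * wPart a) p.1 p.2) = z := funext fun p => by
        rw [show uPart a * wPart a = U * W from rfl, ← hUW]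
        rfl
      rw [MvPolynomial.aeval_eq_eval, ← hy', ← eval_pairing, ← hfP, map_mul, map_pow, hΔ, eval_pairing, hy',
        hzδ, zero_pow (Nat.succ_ne_zero N), mul_zero]
    obtain ⟨p, hp, s, hs, rfl⟩ := Submodule.mem_sup.1 hmem
    obtain ⟨Q, rfl⟩ := Ideal.mem_span_singleton'.1 hs
    rw [map_add, show pairingMap K n m q p = 0 from pairing_kill n m q hp, zero_add, map_mul, pow_succ,
      ← mul_assoc] at hfP
    exact ih Q (mul_right_cancel₀ hΔne hfP)

/-- The first fundamental theorem. -/
theorem fft_GL (m n q : ℕ) (f : PairRing K n m q) :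
    (∀ A : GL (Fin n) K, glTranslate K n m q A f = f) ↔ f ∈ (pairingMap K n m q).range := by
  classical
  refine ⟨fun hf => ?_, fun h A => gl_invariant_of_mem h A⟩
  let m' := max (max m n) 1
  let q' := max (max q n) 1
  have hm' : m ≤ m' := by omega
  have hq' : q ≤ q' := by omega
  let inc : (Fin m × Fin n) ⊕ (Fin n × Fin q) → (Fin m' × Fin n) ⊕ (Fin n × Fin q') :=
    Sum.map (fun p => (Fin.castLE hm' p.1, p.2)) (fun p => (p.1, Fin.castLE hq' p.2))
  have hinv : ∀ A : GL (Fin n) K,
      glTranslate K n m' q' A (rename inc f) = rename inc f := fun A => by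
    conv_rhs => rw [← hf A]
    change ((glTranslate K n m' q' A).comp (rename inc)) f =
      ((rename inc).comp (glTranslate K n m q A)) f
    congr 1
    refine MvPolynomial.algHom_ext fun v => ?_
    rcases v with v | v <;> simp [glTranslate, inc]
  obtain ⟨P, hP⟩ := (AlgHom.mem_range _).1
    (fft_GL_big (m := m') (q := q') (by omega) (by omega) (by omega) (by omega) hinv)
  let ε : PairRing K n m' q' →ₐ[K] PairRing K n m q := MvPolynomial.aeval (Sum.elim
    (fun p => if h : p.1.val < m then X (Sum.inl (⟨p.1.val, h⟩, p.2)) else 0)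
    (fun p => if h : p.2.val < q then X (Sum.inr (p.1, ⟨p.2.val, h⟩)) else 0))
  let εY : MvPolynomial (Fin m' × Fin q') K →ₐ[K] MvPolynomial (Fin m × Fin q) K := MvPolynomial.aeval
    (fun p => if h : p.1.val < m ∧ p.2.val < q then X (⟨p.1.val, h.1⟩, ⟨p.2.val, h.2⟩) else 0)
  have hε : ε (rename inc f) = f := by
    have : ε.comp (rename inc) = AlgHom.id K _ := MvPolynomial.algHom_ext fun v => by
      rcases v with v | v <;> simp [ε, inc]
    exact AlgHom.congr_fun this f
  have hcomm : ε.comp (pairingMap K n m' q') = (pairingMap K n m q).comp εY :=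
    MvPolynomial.algHom_ext fun p => by
      by_cases h1 : p.1.val < m <;> by_cases h2 : p.2.val < q <;> simp [ε, εY, pairingMap, h1, h2]
  refine (AlgHom.mem_range _).2 ⟨εY P, ?_⟩
  rw [← hε, ← hP]
  exact (AlgHom.congr_fun hcomm P).symm

end Groth.Agent.W4Gr15
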