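import Groth.Agent.W4Gr15.Schubert
import Mathlib.LinearAlgebra.Matrix.Adjugate
import Mathlib.RingTheory.Localization.Away.Basic

/-!
# The big cell of a Schubert variety

Inverting the extremal coordinate `X w` on the cone over `X(w)` gives a Laurent extension of a polynomial
ring in `codeg w` variables, namely the free entries of the echelon matrices with pivots `w`.
-/

universe u

open MvPolynomial W4bk4grassmannian

namespace Groth.Agent.W4Gr15

variable {d n : ℕ}

/-- The minor of `M` on the rows `a`. -/
def rowDet {B : Type*} [CommRing B] (M : Fin n → Fin d → B) (a : Fin d → Fin n) : B :=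
  (Matrix.of fun s t => M (a s) t).det

lemma rowDet_update {B : Type*} [CommRing B] (M : Fin n → Fin d → B) (w : Fin d → Fin n) (t : Fin d)
    (i : Fin n) :
    rowDet M (Function.update w t i) = ((Matrix.of fun s t => M (w s) t).updateRow t (M i)).det := by
  rw [rowDet]
  congr 1
  ext s b
  by_cases h : s = t
  · subst h; simp
  · simp [h]

lemma rowDet_update_eq_sum {B : Type*} [CommRing B] (M : Fin n → Fin d → B) (w : Fin d → Fin n)
    (t : Fin d) (i : Fin n) :
    rowDet M (Function.update w t i) =
      ∑ b, M i b * (Matrix.of fun s t => M (w s) t).adjugate b t := by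
  rw [rowDet_update, ← Matrix.cramer_transpose_apply, Matrix.cramer_eq_adjugate_mulVec,
    ← Matrix.adjugate_transpose]
  simp only [Matrix.mulVec, dotProduct, Matrix.transpose_apply]
  exact Finset.sum_congr rfl fun b _ => mul_comm _ _

/-- The minors of `M · adj (M_w)`. -/
theorem chart_det {B : Type*} [CommRing B] (M : Fin n → Fin d → B) (w θ : Fin d → Fin n) :
    (Matrix.of fun s t => rowDet M (Function.update w t (θ s))).det =
      rowDet M θ * rowDet M w ^ (d - 1) := by
  have h : (Matrix.of fun s t => rowDet M (Function.update w t (θ s))) =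
      (Matrix.of fun s t => M (θ s) t) * (Matrix.of fun s t => M (w s) t).adjugate := by
    ext s t
    rw [Matrix.of_apply, rowDet_update_eq_sum, Matrix.mul_apply]
    rfl
  rw [h, Matrix.det_mul, Matrix.det_adjugate, Fintype.card_fin]
  rfl

/-- A minor vanishes when, for some `t`, its rows from `t` on lie below the staircase `w` in the first `t+1` columns. -/
lemma rowDet_eq_zero {B : Type*} [CommRing B] (M : Fin n → Fin d → B) (w : Idx d n)
    (hM : ∀ i t, w.1 t < i → M i t = 0) (a : Fin d → Fin n) (t : Fin d)
    (ha : ∀ s, t ≤ s → w.1 t < a s) : rowDet M a = 0 := by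
  rw [rowDet, Matrix.det_apply']
  refine Finset.sum_eq_zero fun σ _ => ?_
  obtain ⟨s, hs, hst⟩ := exists_le_perm σ t
  rw [Finset.prod_eq_zero (Finset.mem_univ s), mul_zero]
  exact hM _ _ ((w.2.monotone hs).trans_lt (ha _ hst))

lemma rowDet_eq_zero_of_not_le {B : Type*} [CommRing B] (M : Fin n → Fin d → B) (w θ : Idx d n)
    (hM : ∀ i t, w.1 t < i → M i t = 0) (h : ¬ θ ≤ w) : rowDet M θ.1 = 0 := by
  obtain ⟨t, ht⟩ := not_forall.1 (show ¬ ∀ t, θ.1 t ≤ w.1 t from h)
  exact rowDet_eq_zero M w hM θ.1 t fun s hs => (not_le.1 ht).trans_le (θ.2.monotone hs)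

/-- The free positions of the echelon matrices with pivot rows `w`. -/
def FreePos (w : Idx d n) : Type := {p : Fin n × Fin d // p.1 < w.1 p.2 ∧ ∀ s, p.1 ≠ w.1 s}

noncomputable instance (w : Idx d n) : Fintype (FreePos w) := by
  classical exact Fintype.ofFinite {p : Fin n × Fin d // p.1 < w.1 p.2 ∧ ∀ s, p.1 ≠ w.1 s}

lemma card_freePos (w : Idx d n) : Nat.card (FreePos w) = codeg w := by
  classical
  let e : FreePos w ≃ Σ t : Fin d, {i : Fin n // i < w.1 t ∧ ∀ s, i ≠ w.1 s} :=
    { toFun := fun p => ⟨p.1.2, p.1.1, p.2⟩
      invFun := fun x => ⟨(x.2.1, x.1), x.2.2⟩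
      left_inv := fun _ => rfl
      right_inv := fun _ => rfl }
  rw [Nat.card_congr e, Nat.card_sigma, codeg]
  refine Finset.sum_congr rfl fun t _ => ?_
  rw [Nat.card_eq_fintype_card, Fintype.card_subtype]
  have : (Finset.univ.filter fun i : Fin n => i < w.1 t ∧ ∀ s, i ≠ w.1 s) =
      Finset.Iio (w.1 t) \ (Finset.Iio t).image w.1 := by
    ext i
    simp only [Finset.mem_filter, Finset.mem_univ, true_and, Finset.mem_sdiff, Finset.mem_Iio,
      Finset.mem_image, not_exists, not_and]
    refine ⟨fun h => ⟨h.1, fun s _ he => h.2 s he.symm⟩, fun h => ⟨h.1, fun s he => ?_⟩⟩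
    exact h.2 s (w.2.lt_iff_lt.1 (he ▸ h.1)) he.symm
  rw [this, Finset.card_sdiff_of_subset, Finset.card_image_of_injective _ w.2.injective, Fin.card_Iio,
    Fin.card_Iio]
  intro x hx
  obtain ⟨s, hs, rfl⟩ := Finset.mem_image.1 hx
  exact Finset.mem_Iio.2 (w.2 (Finset.mem_Iio.1 hs))

variable (K : Type u) [Field K]

/-- The polynomial ring of the cell: a scalar `Z` (the variable `none`) and the free entries. -/
abbrev CellPoly (w : Idx d n) : Type u := MvPolynomial (Option (FreePos w)) K

open scoped Classical in
/-- The echelon matrix. -/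
noncomputable def echelon (w : Idx d n) (i : Fin n) (t : Fin d) : CellPoly K w :=
  if i = w.1 t then 1 else
    if h : i < w.1 t ∧ ∀ s, i ≠ w.1 s then X (some ⟨(i, t), h⟩) else 0

/-- The echelon matrix with its first column scaled by `Z`. -/
noncomputable def scaled (w : Idx d n) (i : Fin n) (t : Fin d) : CellPoly K w :=
  (if t.val = 0 then X none else 1) * echelon K w i t

variable {K}

lemma scaled_eq_zero (w : Idx d n) {i : Fin n} {t : Fin d} (h : w.1 t < i) : scaled K w i t = 0 := by
  rw [scaled, echelon, if_neg h.ne', dif_neg fun h' => h.asymm h'.1, mul_zero]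

lemma echelon_pivot (w : Idx d n) (s t : Fin d) :
    echelon K w (w.1 s) t = if s = t then 1 else 0 := by
  by_cases h : s = t
  · subst h; simp [echelon]
  · rw [echelon, if_neg (w.2.injective.ne h), dif_neg (fun h' => h'.2 s rfl), if_neg h]

lemma rowDet_scaled (hd : 0 < d) (w : Idx d n) (a : Fin d → Fin n) :
    rowDet (scaled K w) a = X none * rowDet (echelon K w) a := by
  rw [rowDet, show (Matrix.of fun s t => scaled K w (a s) t) = Matrix.of fun s t =>
      (fun t : Fin d => if t.val = 0 then X none else 1) t *
        (Matrix.of fun s t => echelon K w (a s) t) s t from rfl, Matrix.det_mul_row]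
  congr 1
  rw [Finset.prod_eq_single (⟨0, hd⟩ : Fin d)]
  · simp
  · intro t _ ht
    rw [if_neg fun h => ht (Fin.ext h)]
  · simp

lemma rowDet_echelon_update (w : Idx d n) (t : Fin d) (i : Fin n) :
    rowDet (echelon K w) (Function.update w.1 t i) = echelon K w i t := by
  rw [rowDet_update, show (Matrix.of fun s t => echelon K w (w.1 s) t) = 1 by
    ext s b; simp [echelon_pivot, Matrix.one_apply], ← Matrix.cramer_transpose_apply,
    Matrix.transpose_one, Matrix.cramer_one]
  rfl

lemma rowDet_echelon_self (w : Idx d n) : rowDet (echelon K w) w.1 = 1 := by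
  rw [rowDet, show (Matrix.of fun s t => echelon K w (w.1 s) t) = 1 by
    ext s b; simp [echelon_pivot, Matrix.one_apply], Matrix.det_one]

variable (K)

/-- The Plücker coordinates on the cell. -/
noncomputable def cellMap (w : Idx d n) : PlRing K d n →ₐ[K] CellPoly K w :=
  MvPolynomial.aeval fun θ : Idx d n => rowDet (scaled K w) θ.1

/-- The homogeneous coordinate ring of a Schubert variety. -/
abbrev SRing (w : Idx d n) : Type u := PlRing K d n ⧸ schubertVanishing K d n w

/-- The class of the extremal coordinate. -/
noncomputable abbrev extr (w : Idx d n) : SRing K w := Ideal.Quotient.mk _ (X w)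

variable {K}

lemma psi_coord (lo hi : Idx d n) (a : Fin d → Fin n) :
    psi K lo hi (coord K d n a) = rowDet (fun i t => kill K lo hi (X (i, t))) a := by
  rw [psi, show bandMinor K lo hi = fun θ => (Matrix.of fun s t => kill K lo hi (X (θ.1 s, t))).det
    from funext (bandMinor_eq_det K lo hi)]
  exact map_coord K (fun i t => kill K lo hi (X (i, t))) a

variable [Infinite K]


lemma cellMap_vanishing (hd : 0 < d) (w : Idx d n) :
    ∀ f ∈ schubertVanishing K d n w, cellMap K w f = 0 := by
  intro f hf
  rw [schubertVanishing_eq hd] at hf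
  induction hf using Submodule.span_induction with
  | zero => rw [map_zero]
  | add x y _ _ hx hy => rw [map_add, hx, hy, add_zero]
  | smul a x _ hx => rw [smul_eq_mul, map_mul, hx, mul_zero]
  | mem x hx =>
    rcases hx with ⟨i, j, r, -, rfl⟩ | ⟨φ, hφ, rfl⟩
    · exact aeval_shuffleRel K (scaled K w) i j r
    · exact (aeval_X _ φ).trans
        (rowDet_eq_zero_of_not_le _ w φ (fun i t h => scaled_eq_zero w h) hφ)

/-- The cell map on the Schubert coordinate ring. -/
noncomputable def cellHom (hd : 0 < d) (w : Idx d n) : SRing K w →ₐ[K] CellPoly K w :=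
  Ideal.Quotient.liftₐ _ (cellMap K w) (cellMap_vanishing hd w)

lemma cellHom_coord (hd : 0 < d) (w : Idx d n) (a : Fin d → Fin n) :
    cellHom hd w (Ideal.Quotient.mk _ (coord K d n a)) = rowDet (scaled K w) a :=
  map_coord K (scaled K w) a

lemma cellHom_extr (hd : 0 < d) (w : Idx d n) : cellHom hd w (extr K w) = X none := by
  rw [extr, ← coord_idx K w, cellHom_coord, rowDet_scaled hd, rowDet_echelon_self, mul_one]

lemma mem_vanishing_of_psi (hd : 0 < d) {w : Idx d n} {f : PlRing K d n}
    (h : psi K (idxBot (idx_le_of_nonempty w)) w f = 0) : f ∈ schubertVanishing K d n w := by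
  rwa [schubertVanishing_eq_bandIdeal hd (idx_le_of_nonempty w), ← ker_psi hd, RingHom.mem_ker]

lemma coord_mem_of_gt (hd : 0 < d) (w : Idx d n) {t : Fin d} {i : Fin n} (h : w.1 t < i) :
    coord K d n (Function.update w.1 t i) ∈ schubertVanishing K d n w := by
  refine mem_vanishing_of_psi hd ?_
  rw [psi_coord]
  refine rowDet_eq_zero _ w (fun j b hj => ?_) _ t fun s hs => ?_
  · rw [kill, aeval_X, if_neg fun hb : InBand _ w (j, b) => (not_le.2 hj) hb.2]
  · rcases hs.eq_or_lt with rfl | hs
    · rwa [Function.update_self]
    · rw [Function.update_of_ne hs.ne']; exact w.2 hs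

omit [Infinite K] in
lemma coord_update_pivot (w : Idx d n) {t s : Fin d} (h : s ≠ t) :
    coord K d n (Function.update w.1 t (w.1 s)) = 0 := by
  rw [coord, dif_neg fun hc => h ?_]
  refine (Finset.injOn_of_card_image_eq (by rw [hc, Finset.card_fin]))
    (Finset.mem_coe.2 (Finset.mem_univ s)) (Finset.mem_coe.2 (Finset.mem_univ t)) ?_
  rw [Function.update_of_ne h, Function.update_self]

/-- `X θ · (X w)^(d-1)` through the chart coordinates. -/
lemma mk_chart (hd : 0 < d) (w θ : Idx d n) :
    Ideal.Quotient.mk (schubertVanishing K d n w) (X θ) * extr K w ^ (d - 1) =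
      (Matrix.of fun s t => Ideal.Quotient.mk (schubertVanishing K d n w)
        (coord K d n (Function.update w.1 t (θ.1 s)))).det := by
  have h : Ideal.Quotient.mk (schubertVanishing K d n w) (X θ * X w ^ (d - 1) -
      (Matrix.of fun s t => coord K d n (Function.update w.1 t (θ.1 s))).det) = 0 := by
    refine Ideal.Quotient.eq_zero_iff_mem.2 (mem_vanishing_of_psi hd ?_)
    rw [map_sub, map_mul, map_pow, sub_eq_zero, ← coord_idx K θ, ← coord_idx K w, psi_coord (K := K),
      psi_coord (K := K), AlgHom.map_det, ← chart_det]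
    congr 1
    exact Matrix.ext fun s t => (psi_coord (K := K) _ _ _).symm
  rw [map_sub, map_mul, map_pow, sub_eq_zero, RingHom.map_det] at h
  exact h

lemma extr_ne_zero (hd : 0 < d) (w : Idx d n) : extr K w ≠ 0 := fun h =>
  X_notMem_schubertVanishing hd le_rfl (Ideal.Quotient.eq_zero_iff_mem.1 h)

variable (K)

/-- The localisation at the extremal coordinate. -/
abbrev CellLoc (w : Idx d n) : Type u := Localization.Away (extr K w)

/-- The Laurent cell ring. -/
abbrev CellLaurent (w : Idx d n) : Type u := Localization.Away (X none : CellPoly K w)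

variable {K}

/-- Chart coordinates in the localisation. -/
noncomputable def chartVal (w : Idx d n) : Option (FreePos w) → CellLoc K w
  | none => algebraMap (SRing K w) (CellLoc K w) (extr K w)
  | some p => algebraMap (SRing K w) (CellLoc K w)
      (Ideal.Quotient.mk _ (coord K d n (Function.update w.1 p.1.2 p.1.1))) *
      IsLocalization.Away.invSelf (extr K w)

lemma aeval_chartVal_echelon (hd : 0 < d) (w : Idx d n) (i : Fin n) (t : Fin d) :
    MvPolynomial.aeval (chartVal (K := K) w) (echelon K w i t) =
      algebraMap (SRing K w) (CellLoc K w)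
        (Ideal.Quotient.mk _ (coord K d n (Function.update w.1 t i))) *
      IsLocalization.Away.invSelf (extr K w) := by
  rw [echelon]
  split_ifs with h1 h2
  · rw [map_one, h1, Function.update_eq_self, coord_idx, IsLocalization.Away.mul_invSelf]
  · rw [aeval_X]; rfl
  · rw [map_zero]
    suffices Ideal.Quotient.mk (schubertVanishing K d n w)
        (coord K d n (Function.update w.1 t i)) = 0 by rw [this, map_zero, zero_mul]
    rw [Ideal.Quotient.eq_zero_iff_mem]
    rcases lt_or_gt_of_ne h1 with h | h
    · push_neg at h2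
      obtain ⟨s, hs⟩ := h2 h
      subst hs
      rw [coord_update_pivot w fun he => h1 (by rw [he])]
      exact zero_mem _
    · exact coord_mem_of_gt hd w h

lemma aeval_chartVal_cellHom (hd : 0 < d) (w : Idx d n) (r : SRing K w) :
    MvPolynomial.aeval (chartVal (K := K) w) (cellHom hd w r) =
      algebraMap (SRing K w) (CellLoc K w) r := by
  obtain ⟨f, rfl⟩ := Ideal.Quotient.mk_surjective r
  change ((MvPolynomial.aeval (chartVal (K := K) w)).comp (cellMap K w)) f =
    ((IsScalarTower.toAlgHom K (SRing K w) (CellLoc K w)).comp (Ideal.Quotient.mkₐ K _)) f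
  congr 1
  refine MvPolynomial.algHom_ext fun θ => ?_
  simp only [AlgHom.comp_apply, cellMap, aeval_X, IsScalarTower.coe_toAlgHom',
    Ideal.Quotient.mkₐ_eq_mk]
  rw [rowDet_scaled hd, map_mul, aeval_X, rowDet, AlgHom.map_det]
  have h := congrArg (algebraMap (SRing K w) (CellLoc K w)) (mk_chart hd w θ)
  rw [map_mul, map_pow, RingHom.map_det] at h
  set x := algebraMap (SRing K w) (CellLoc K w) (extr K w)
  set v := IsLocalization.Away.invSelf (S := CellLoc K w) (extr K w)
  have hxv : x * v = 1 := IsLocalization.Away.mul_invSelf _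
  have hM : (MvPolynomial.aeval (chartVal (K := K) w)).mapMatrix
      (Matrix.of fun s t => echelon K w (θ.1 s) t) =
      Matrix.of fun s t => (fun _ : Fin d => v) t *
        (algebraMap (SRing K w) (CellLoc K w)).mapMatrix (Matrix.of fun s t =>
          Ideal.Quotient.mk (schubertVanishing K d n w)
            (coord K d n (Function.update w.1 t (θ.1 s)))) s t := by
    ext s t
    simp [aeval_chartVal_echelon hd, v, mul_comm]
  rw [hM, Matrix.det_mul_row, ← h, Finset.prod_const, Finset.card_fin]
  change x * (v ^ d * (_ * x ^ (d - 1))) = _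
  obtain ⟨d, rfl⟩ : ∃ e, d = e + 1 := ⟨d - 1, by omega⟩
  simp only [Nat.add_sub_cancel, pow_succ]
  calc _ = algebraMap _ (CellLoc K w) (Ideal.Quotient.mk _ (X θ)) * ((x * v) ^ d * (x * v)) := by
        rw [mul_pow]; ring
    _ = _ := by rw [hxv]; simp

lemma isUnit_cellHom_extr (hd : 0 < d) (w : Idx d n) :
    IsUnit (((IsScalarTower.toAlgHom K (CellPoly K w) (CellLaurent K w)).comp (cellHom hd w))
      (extr K w)) := by
  simp only [AlgHom.comp_apply, cellHom_extr, IsScalarTower.coe_toAlgHom']
  exact IsLocalization.Away.algebraMap_isUnit _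

/-- The cell map on the localisation. -/
noncomputable def cellForward (hd : 0 < d) (w : Idx d n) : CellLoc K w →ₐ[K] CellLaurent K w :=
  IsLocalization.liftAlgHom (M := Submonoid.powers (extr K w))
    (f := (IsScalarTower.toAlgHom K (CellPoly K w) (CellLaurent K w)).comp (cellHom hd w))
    fun y => by
      obtain ⟨k, hk⟩ := y.2
      rw [← hk, map_pow]
      exact (isUnit_cellHom_extr hd w).pow k

lemma isUnit_chartVal_none (w : Idx d n) :
    IsUnit (MvPolynomial.aeval (chartVal (K := K) w) (X none : CellPoly K w)) := by
  rw [aeval_X]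
  exact IsLocalization.Away.algebraMap_isUnit _

/-- Its inverse. -/
noncomputable def cellBackward (w : Idx d n) : CellLaurent K w →ₐ[K] CellLoc K w :=
  IsLocalization.liftAlgHom (M := Submonoid.powers (X none : CellPoly K w))
    (f := MvPolynomial.aeval (chartVal (K := K) w))
    fun y => by
      obtain ⟨k, hk⟩ := y.2
      rw [← hk, map_pow]
      exact (isUnit_chartVal_none w).pow k

lemma cellForward_algebraMap (hd : 0 < d) (w : Idx d n) (r : SRing K w) :
    cellForward hd w (algebraMap (SRing K w) (CellLoc K w) r) =
      algebraMap (CellPoly K w) (CellLaurent K w) (cellHom hd w r) := by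
  simp [cellForward]

lemma cellBackward_algebraMap (w : Idx d n) (q : CellPoly K w) :
    cellBackward w (algebraMap (CellPoly K w) (CellLaurent K w) q) =
      MvPolynomial.aeval (chartVal (K := K) w) q := by
  simp [cellBackward]

/-- Inverting the extremal coordinate gives the Laurent cell. -/
noncomputable def cellEquiv (hd : 0 < d) (w : Idx d n) : CellLoc K w ≃ₐ[K] CellLaurent K w :=
  AlgEquiv.ofAlgHom (cellForward hd w) (cellBackward w)
    (IsLocalization.algHom_ext (Submonoid.powers (X none : CellPoly K w)) <|
      MvPolynomial.algHom_ext fun o => by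
        change cellForward hd w (cellBackward w (algebraMap (CellPoly K w) (CellLaurent K w) (X o))) =
          algebraMap (CellPoly K w) (CellLaurent K w) (X o)
        rw [cellBackward_algebraMap, aeval_X]
        cases o with
        | none => simp only [chartVal, cellForward_algebraMap, cellHom_extr]
        | some p =>
          have hv : cellForward hd w (IsLocalization.Away.invSelf (extr K w)) *
              algebraMap (CellPoly K w) (CellLaurent K w) (X none) = 1 := by
            have h1 := congrArg (algebraMap (CellPoly K w) (CellLaurent K w)) (cellHom_extr (K := K) hd w)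
            rw [← cellForward_algebraMap] at h1
            rw [← h1, ← map_mul, mul_comm, IsLocalization.Away.mul_invSelf, map_one]
          simp only [chartVal]
          rw [map_mul, cellForward_algebraMap, cellHom_coord, rowDet_scaled hd,
            rowDet_echelon_update, echelon, if_neg p.2.1.ne, dif_pos p.2, map_mul, mul_comm,
            ← mul_assoc, hv, one_mul]
          rfl)
    (IsLocalization.algHom_ext (Submonoid.powers (extr K w)) <| AlgHom.ext fun r => by
      change cellBackward w (cellForward hd w (algebraMap (SRing K w) (CellLoc K w) r)) =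
        algebraMap (SRing K w) (CellLoc K w) r
      rw [cellForward_algebraMap, cellBackward_algebraMap, aeval_chartVal_cellHom hd])

end Groth.Agent.W4Gr15
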