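import Mathlib.Algebra.MvPolynomial.CommRing
import Mathlib.LinearAlgebra.LinearIndependent.Basic
import Mathlib.RingTheory.FiniteType
import Mathlib.RingTheory.Adjoin.Polynomial
import Mathlib.LinearAlgebra.Finsupp.LinearCombination
import Mathlib.Data.Fin.Tuple.Sort
import Mathlib.Tactic.Linarith

/-!
# Straightening over a finite poset

If the product of two incomparable generators is a combination of more spread pairs, chain products span.
-/

universe u v w

namespace Groth.Agent.W4Gr15

variable {A : Type u} [CommRing A] {Q : Type v} [CommRing Q] [Algebra A Q]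
variable {P : Type w} [PartialOrder P] [Fintype P]

/-- Multichains of a poset. -/
abbrev PChain (P : Type w) [PartialOrder P] : Type w := Σ m : ℕ, {c : Fin m → P // Antitone c}

/-- The products along chains span the products along tuples. -/
theorem prod_mem_span_chains (x : P → Q) (S : P → ℕ) (hS : StrictMono S)
    (h : ∀ i j, ¬ i ≤ j → ¬ j ≤ i → x i * x j ∈ Submodule.span A ((fun p : P × P => x p.1 * x p.2) ''
      {p | S i ^ 2 + S j ^ 2 < S p.1 ^ 2 + S p.2 ^ 2}))
    {m : ℕ} (c : Fin m → P) :
    ∏ k, x (c k) ∈ Submodule.span A (Set.range fun e : PChain P => ∏ k, x (e.2.1 k)) := by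
  classical
  set M := Finset.univ.sup S
  have hbound : ∀ a, S a ≤ M := fun a => Finset.le_sup (Finset.mem_univ a)
  generalize hN : m * M ^ 2 - ∑ k, S (c k) ^ 2 = N
  induction N using Nat.strong_induction_on generalizing c with
  | _ N ih =>
  by_cases hcmp : ∀ k l, c k ≤ c l ∨ c l ≤ c k
  · let σ : Equiv.Perm (Fin m) := Fin.revPerm.trans (Tuple.sort fun k => S (c k))
    have hanti : Antitone fun k => c (σ k) := fun k l hkl => by
      rcases hcmp (σ l) (σ k) with h | h
      · exact h
      · rcases h.eq_or_lt with he | hlt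
        · exact he.ge
        · exact absurd (hS hlt) (not_lt.2 (Tuple.monotone_sort (fun k => S (c k)) (Fin.rev_le_rev.2 hkl)))
    exact Submodule.subset_span ⟨⟨m, _, hanti⟩, Equiv.prod_comp σ fun k => x (c k)⟩
  · push_neg at hcmp
    obtain ⟨k, l, hkl, hlk⟩ := hcmp
    have hne : k ≠ l := fun h => hkl (by rw [h])
    have hmem : k ∈ (Finset.univ : Finset (Fin m)) := Finset.mem_univ _
    have hmem' : l ∈ Finset.univ.erase k := Finset.mem_erase.2 ⟨hne.symm, Finset.mem_univ _⟩
    set T := Submodule.span A (Set.range fun e : PChain P => ∏ k, x (e.2.1 k))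
    set R := ∏ y ∈ (Finset.univ.erase k).erase l, x (c y)
    rw [← Finset.mul_prod_erase _ _ hmem, ← Finset.mul_prod_erase _ _ hmem', ← mul_assoc]
    refine Submodule.span_le.2 ?_ (h _ _ hkl hlk) |>
      fun h => (h : _ ∈ T.comap (LinearMap.mulRight A R))
    rintro _ ⟨⟨a, b⟩, hab, rfl⟩
    let c' : Fin m → P := Function.update (Function.update c k a) l b
    have hk' : c' k = a := by simp [c', hne]
    have hl' : c' l = b := by simp [c']
    have hrest : ∀ y ∈ (Finset.univ.erase k).erase l, c' y = c y := fun y hy => by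
      simp only [Finset.mem_erase] at hy
      simp [c', hy.1, hy.2.1]
    have hsplit : ∀ e : Fin m → P, ∑ y, S (e y) ^ 2 =
        S (e k) ^ 2 + S (e l) ^ 2 + ∑ y ∈ (Finset.univ.erase k).erase l, S (e y) ^ 2 :=
      fun e => by rw [← Finset.add_sum_erase _ _ hmem, ← Finset.add_sum_erase _ _ hmem', add_assoc]
    have hprog : ∑ y, S (c y) ^ 2 < ∑ y, S (c' y) ^ 2 := by
      rw [hsplit c, hsplit c', hk', hl',
        Finset.sum_congr rfl fun y hy => congrArg (fun a => S a ^ 2) (hrest y hy)]
      exact Nat.add_lt_add_right hab _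
    have hle : ∑ y, S (c' y) ^ 2 ≤ m * M ^ 2 := by
      calc ∑ y, S (c' y) ^ 2 ≤ ∑ _y : Fin m, M ^ 2 :=
            Finset.sum_le_sum fun y _ => Nat.pow_le_pow_left (hbound _) 2
        _ = _ := by simp
    have hrec := ih _ (by omega) c' rfl
    change x a * x b * R ∈ T
    rw [← Finset.mul_prod_erase _ _ hmem, ← Finset.mul_prod_erase _ _ hmem', ← mul_assoc, hk', hl',
      Finset.prod_congr rfl fun y hy => congrArg x (hrest y hy)] at hrec
    exact hrec

/-- The products along chains span the generated subalgebra. -/
theorem adjoin_le_span_chains (x : P → Q) (S : P → ℕ) (hS : StrictMono S)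
    (h : ∀ i j, ¬ i ≤ j → ¬ j ≤ i → x i * x j ∈ Submodule.span A ((fun p : P × P => x p.1 * x p.2) ''
      {p | S i ^ 2 + S j ^ 2 < S p.1 ^ 2 + S p.2 ^ 2})) :
    Subalgebra.toSubmodule (Algebra.adjoin A (Set.range x)) ≤
      Submodule.span A (Set.range fun e : PChain P => ∏ k, x (e.2.1 k)) := by
  classical
  intro q hq
  rw [Subalgebra.mem_toSubmodule, Algebra.adjoin_range_eq_range_aeval] at hq
  obtain ⟨f, rfl⟩ := hq
  induction f using MvPolynomial.induction_on' with
  | add p q hp hq => rw [map_add]; exact Submodule.add_mem _ hp hq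
  | monomial s a =>
    change MvPolynomial.aeval x (MvPolynomial.monomial s a) ∈ _
    rw [MvPolynomial.aeval_monomial, ← Algebra.smul_def]
    refine Submodule.smul_mem _ a ?_
    obtain ⟨l, hl⟩ : ∃ l : List P, (l : Multiset P) = Finsupp.toMultiset s := ⟨_, Multiset.coe_toList _⟩
    have hp : (s.prod fun i k => x i ^ k) = ∏ k : Fin l.length, x (l.get k) := by
      rw [← List.prod_ofFn]
      conv_rhs => rw [show (List.ofFn fun k => x (l.get k)) = l.map x by
        conv_rhs => rw [← List.ofFn_get l, List.map_ofFn]
        rfl]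
      rw [← Multiset.prod_coe, ← Multiset.map_coe, hl, Finset.prod_multiset_map_count,
        Finsupp.toFinset_toMultiset, Finsupp.prod]
      exact Finset.prod_congr rfl fun y _ => by rw [Finsupp.count_toMultiset]
    rw [hp]
    exact prod_mem_span_chains x S hS h _

/-- A linear map taking a spanning family to an independent one is injective. -/
theorem injective_of_span_of_independent {M N : Type*} [AddCommGroup M] [Module A M] [AddCommGroup N]
    [Module A N] {ι : Type*} {b : ι → M} (f : M →ₗ[A] N) (hb : Submodule.span A (Set.range b) = ⊤)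
    (hi : LinearIndependent A (f ∘ b)) : Function.Injective f := by
  refine (injective_iff_map_eq_zero f).2 fun m hm => ?_
  obtain ⟨v, rfl⟩ : ∃ v : ι →₀ A, Finsupp.linearCombination A b v = m := by
    rw [← Set.mem_range, ← LinearMap.coe_range, Finsupp.range_linearCombination, hb]
    trivial
  rw [Finsupp.apply_linearCombination] at hm
  rw [linearIndependent_iff.1 hi v hm, map_zero]

end Groth.Agent.W4Gr15
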