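import Groth.Agent.W4Gr15.StdBasis
import Groth.Agent.W4Gr15.Poset
import Groth.Agent.W4Gr15.Chart
import Mathlib.Algebra.Polynomial.RingDivision
import Mathlib.RingTheory.Ideal.Quotient.Operations

/-!
# Flat degenerations of Schubert cones

`R ⊆ K[T][x_{it}]` is generated by `T^{W θ} ψ(X θ)`, `θ ≤ w`; it is free on the chain products.
-/

universe u

open MvPolynomial W4bk4grassmannian

namespace Groth.Agent.W4Gr15

variable {d n : ℕ} {K : Type u} [Field K] (w : Idx d n) (W : Idx d n → ℕ)

/-- Band minors over `K[T]` twisted by the weight. -/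
noncomputable def twisted (θ : Below w) : MatRing (Polynomial K) d n :=
  (Polynomial.X : Polynomial K) ^ W θ.1 •
    bandMinor (Polynomial K) (idxBot (idx_le_of_nonempty w)) w θ.1

/-- The total space of the degeneration. -/
noncomputable abbrev Degen : Subalgebra (Polynomial K) (MatRing (Polynomial K) d n) :=
  Algebra.adjoin (Polynomial K) (Set.range (twisted (K := K) w W))

/-- The twisted product along a chain. -/
noncomputable def degenMon (e : PChain (Below w)) : Degen (K := K) w W :=
  ∏ k, ⟨twisted w W (e.2.1 k), Algebra.subset_adjoin ⟨_, rfl⟩⟩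

lemma coe_degenMon (e : PChain (Below w)) :
    (degenMon (K := K) w W e : MatRing (Polynomial K) d n) =
      (Polynomial.X : Polynomial K) ^ (∑ k, W (e.2.1 k).1) •
        bandProd (Polynomial K) (idxBot (idx_le_of_nonempty w)) w (fun k => (e.2.1 k).1) := by
  rw [degenMon, SubmonoidClass.coe_finsetProd]
  simp only [twisted]
  rw [Finset.prod_smul, Finset.prod_pow_eq_pow_sum, bandProd]

/-- The index of a chain below `w`. -/
def toStd (e : PChain (Below w)) : Std (idxBot (idx_le_of_nonempty w)) w :=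
  ⟨e.1, fun k => (e.2.1 k).1, fun _ _ h => e.2.2 h, fun k => ⟨idxBot_le _ _, (e.2.1 k).2⟩⟩

lemma toStd_injective : Function.Injective (toStd w) := by
  rintro ⟨m, c, hc⟩ ⟨m', c', hc'⟩ h
  obtain ⟨rfl, h'⟩ := Sigma.mk.inj h
  simp only [heq_eq_eq, Subtype.mk.injEq] at h'
  have : c = c' := funext fun k => Subtype.ext (congrFun h' k)
  subst this
  rfl

lemma degenMon_linearIndependent (hd : 0 < d) :
    LinearIndependent (Polynomial K) (degenMon (K := K) w W) := by
  refine LinearIndependent.of_comp (Subalgebra.val _).toLinearMap ?_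
  have h : LinearIndependent (Polynomial K) fun e : PChain (Below w) =>
      bandProd (Polynomial K) (idxBot (idx_le_of_nonempty w)) w (toStd w e).2.1 :=
    (linearIndependent_bandProd hd _ w).comp (toStd w) (toStd_injective w)
  rw [linearIndependent_iff'] at h ⊢
  intro s g hg e he
  have := h s (fun e => g e * (Polynomial.X : Polynomial K) ^ (∑ k, W (e.2.1 k).1)) ?_ e he
  · exact (mul_eq_zero.1 this).resolve_right (pow_ne_zero _ Polynomial.X_ne_zero)
  · refine Eq.trans (Finset.sum_congr rfl fun x _ => ?_) hg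
    rw [Function.comp_apply, AlgHom.toLinearMap_apply, Subalgebra.coe_val, coe_degenMon, smul_smul]
    rfl

lemma map_bandMinor {A B : Type u} [CommRing A] [CommRing B] (f : A →+* B) (lo hi θ : Idx d n) :
    MvPolynomial.map f (bandMinor A lo hi θ) = bandMinor B lo hi θ := by
  simp only [bandMinor_eq, map_sum]
  refine Finset.sum_congr rfl fun σ _ => ?_
  split_ifs
  · rw [MvPolynomial.map_monomial, map_intCast]
  · rw [map_zero]

/-- `W` is compatible with straightening: strict off the sup-inf term, at most equal on it. -/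
structure IsWeight : Prop where
  sup_inf : ∀ τ φ : Idx d n, W (W4bk4grassmannian.sup τ φ) + W (W4bk4grassmannian.inf τ φ) ≤ W τ + W φ
  strict : ∀ τ φ α β : Idx d n, W4bk4grassmannian.sup τ φ < α → β < W4bk4grassmannian.inf τ φ →
    (∀ g, wt g α.1 + wt g β.1 = wt g τ.1 + wt g φ.1) → W α + W β < W τ + W φ

variable {w W}

lemma spread_lt {τ φ α β : Idx d n} (hW : W4bk4grassmannian.sup τ φ ≤ α) (h : ¬ τ ≤ φ) (h' : ¬ φ ≤ τ)
    (hc : wt Fin.val α.1 + wt Fin.val β.1 = wt Fin.val τ.1 + wt Fin.val φ.1) :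
    wt Fin.val τ.1 ^ 2 + wt Fin.val φ.1 ^ 2 < wt Fin.val α.1 ^ 2 + wt Fin.val β.1 ^ 2 := by
  have hlt : ∀ {a b : Idx d n}, a ≤ b → ¬ b ≤ a → wt Fin.val a.1 < wt Fin.val b.1 := fun {a b} h h2 => by
    refine Finset.sum_lt_sum (fun t _ => Fin.le_def.1 (h t)) ?_
    by_contra hno
    push_neg at hno
    exact h2 fun t => Fin.le_def.2 (hno t (Finset.mem_univ _))
  have hmono : wt Fin.val (W4bk4grassmannian.sup τ φ).1 ≤ wt Fin.val α.1 :=
    Finset.sum_le_sum fun t _ => Fin.le_def.1 (hW t)
  have h1 : wt Fin.val τ.1 < wt Fin.val (W4bk4grassmannian.sup τ φ).1 :=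
    hlt (fun t => le_max_left _ _) fun hle => h' fun t => (le_max_right _ _).trans (hle t)
  have h2 : wt Fin.val φ.1 < wt Fin.val (W4bk4grassmannian.sup τ φ).1 :=
    hlt (fun t => le_max_right _ _) fun hle => h fun t => (le_max_left _ _).trans (hle t)
  nlinarith [h1.trans_le hmono, h2.trans_le hmono]

lemma wt_sup_add_inf (f : Fin n → ℕ) (τ φ : Idx d n) :
    wt f (W4bk4grassmannian.sup τ φ).1 + wt f (W4bk4grassmannian.inf τ φ).1 = wt f τ.1 + wt f φ.1 := by
  simp only [wt, W4bk4grassmannian.sup, W4bk4grassmannian.inf, ← Finset.sum_add_distrib]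
  refine Finset.sum_congr rfl fun t _ => ?_
  rcases le_total (τ.1 t) (φ.1 t) with h | h
  · rw [max_eq_right h, min_eq_left h, add_comm]
  · rw [max_eq_left h, min_eq_right h]

variable [Infinite K]

/-- The straightening relation of a skew pair inside the family: up to `T`, the product is the sup-inf product
when the weights agree, and zero otherwise. -/
lemma twisted_pair (hd : 0 < d) (hW : IsWeight W) (a b : Below w) (hab : ¬ a ≤ b) (hba : ¬ b ≤ a) :
    ∃ g ∈ Submodule.span (Polynomial K) ((fun p : Below w × Below w => twisted (K := K) w W p.1 * twisted w W p.2) ''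
        {p | wt Fin.val a.1.1 ^ 2 + wt Fin.val b.1.1 ^ 2 < wt Fin.val p.1.1.1 ^ 2 + wt Fin.val p.2.1.1 ^ 2}),
      twisted (K := K) w W a * twisted w W b =
        (Polynomial.X : Polynomial K) ^
            (W a.1 + W b.1 - (W (Below.sup a b).1 + W (Below.inf a b).1)) •
          (twisted w W (Below.sup a b) * twisted w W (Below.inf a b)) +
        (Polynomial.X : Polynomial K) • g := by
  classical
  have hdn := idx_le_of_nonempty w
  obtain ⟨g, hg, hmem⟩ := skew (K := K) hd hdn a.1 b.1
  let Φ : PlRing K d n →+* MatRing (Polynomial K) d n :=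
    (MvPolynomial.map Polynomial.C).comp (psi K (idxBot hdn) w).toRingHom
  have hΦX : ∀ θ, Φ (X θ) = bandMinor (Polynomial K) (idxBot hdn) w θ := fun θ => by
    simp only [Φ, RingHom.comp_apply, AlgHom.toRingHom_eq_coe, RingHom.coe_coe, psi_X]
    exact map_bandMinor _ _ _ _
  set N := W a.1 + W b.1
  set T := Submodule.span (Polynomial K) ((fun p : Below w × Below w => twisted (K := K) w W p.1 * twisted w W p.2) ''
        {p | wt Fin.val a.1.1 ^ 2 + wt Fin.val b.1.1 ^ 2 < wt Fin.val p.1.1.1 ^ 2 + wt Fin.val p.2.1.1 ^ 2})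
  have hgT : ∃ g' ∈ T, (Polynomial.X : Polynomial K) ^ N • Φ g = (Polynomial.X : Polynomial K) • g' := by
    clear hmem
    induction hg using Submodule.span_induction with
    | zero => exact ⟨0, T.zero_mem, by simp⟩
    | add x y _ _ hx hy =>
      obtain ⟨x', hx', hxe⟩ := hx
      obtain ⟨y', hy', hye⟩ := hy
      exact ⟨x' + y', T.add_mem hx' hy', by rw [map_add, smul_add, hxe, hye, smul_add]⟩
    | smul c x _ hx =>
      obtain ⟨x', hx', hxe⟩ := hx
      refine ⟨Polynomial.C c • x', T.smul_mem _ hx', ?_⟩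
      have : Φ (c • x) = Polynomial.C c • Φ x := by
        simp only [Φ, RingHom.comp_apply, AlgHom.toRingHom_eq_coe, RingHom.coe_coe]
        rw [map_smul, MvPolynomial.smul_eq_C_mul, MvPolynomial.smul_eq_C_mul, map_mul, MvPolynomial.map_C]
      rw [this, smul_comm, hxe, smul_comm]
    | mem x hx =>
      obtain ⟨α, β, hβα, hα, hβ, hc, rfl⟩ := hx
      by_cases hin : α ≤ w
      · have hβw : β ≤ w := hβα.trans hin
        have hlt := hW.strict a.1 b.1 α β hα hβ hc
        refine ⟨(Polynomial.X : Polynomial K) ^ (N - (W α + W β) - 1) •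
          (twisted w W ⟨α, hin⟩ * twisted w W ⟨β, hβw⟩), T.smul_mem _ (Submodule.subset_span
            ⟨(⟨α, hin⟩, ⟨β, hβw⟩), spread_lt hα.le hab hba (hc Fin.val), rfl⟩), ?_⟩
        rw [map_mul, hΦX, hΦX, twisted, twisted, smul_mul_smul_comm, smul_smul, smul_smul]
        congr 1
        rw [← pow_add, ← pow_succ', ← pow_add]
        congr 1
        simp only [N] at hlt ⊢
        omega
      · refine ⟨0, T.zero_mem, ?_⟩
        rw [map_mul, hΦX, bandMinor_eq_zero _ fun h => hin h.2, zero_mul, smul_zero, smul_zero]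
  obtain ⟨g', hg', hge⟩ := hgT
  refine ⟨g', hg', ?_⟩
  have h0 : psi K (idxBot hdn) w (X a.1 * X b.1 -
      X (W4bk4grassmannian.sup a.1 b.1) * X (W4bk4grassmannian.inf a.1 b.1) - g) = 0 :=
    RingHom.mem_ker.1 (bandIdeal_le_ker K _ _ (plIdealTop_le_bandIdeal K _ _ hmem))
  have h1 : Φ (X a.1 * X b.1) =
      Φ (X (W4bk4grassmannian.sup a.1 b.1) * X (W4bk4grassmannian.inf a.1 b.1)) + Φ g := by
    rw [← map_add, ← sub_eq_zero, ← map_sub]
    simp only [Φ, RingHom.comp_apply, AlgHom.toRingHom_eq_coe, RingHom.coe_coe]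
    rw [← sub_sub, h0, map_zero]
  rw [← hge, twisted, twisted, twisted, twisted, smul_mul_smul_comm, smul_mul_smul_comm, ← pow_add,
    ← pow_add, smul_smul, ← pow_add, ← hΦX, ← hΦX, ← hΦX, ← hΦX, ← map_mul, ← map_mul, h1, smul_add]
  have := hW.sup_inf a.1 b.1
  congr 3
  simp only [Below.sup, Below.inf, N] at *
  omega

lemma below_wt_strictMono : StrictMono fun θ : Below w => wt Fin.val θ.1.1 := fun a b h => by
  refine Finset.sum_lt_sum (fun t _ => Fin.le_def.1 (h.le t)) ?_
  by_contra hno
  push_neg at hno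
  exact h.not_ge fun t => Fin.le_def.2 (hno t (Finset.mem_univ _))

lemma spread_sup_inf (a b : Below w) (hab : ¬ a ≤ b) (hba : ¬ b ≤ a) :
    wt Fin.val a.1.1 ^ 2 + wt Fin.val b.1.1 ^ 2 <
      wt Fin.val (Below.sup a b).1.1 ^ 2 + wt Fin.val (Below.inf a b).1.1 ^ 2 :=
  spread_lt le_rfl hab hba (wt_sup_add_inf Fin.val a.1 b.1)

lemma degenMon_span (hd : 0 < d) (hW : IsWeight W) :
    Submodule.span (Polynomial K) (Set.range (degenMon (K := K) w W)) = ⊤ := by
  classical
  refine eq_top_iff.2 fun x _ => ?_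
  have h := adjoin_le_span_chains (A := Polynomial K) (twisted (K := K) w W)
    (fun θ => wt Fin.val θ.1.1) below_wt_strictMono (fun a b hab hba => ?_)
    ((Subalgebra.mem_toSubmodule _).2 x.2)
  · have hrange : (Set.range fun e : PChain (Below w) => ∏ k, twisted (K := K) w W (e.2.1 k)) =
        (Subalgebra.val (Degen (K := K) w W)).toLinearMap '' Set.range (degenMon (K := K) w W) := by
      rw [← Set.range_comp]
      congr 1
      funext e
      simp [degenMon]
    rw [hrange, Submodule.span_image] at h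
    obtain ⟨y, hy, he⟩ := h
    exact Subtype.ext he ▸ hy
  · obtain ⟨g, hg, he⟩ := twisted_pair (K := K) hd hW a b hab hba
    rw [he]
    exact Submodule.add_mem _ (Submodule.smul_mem _ _ (Submodule.subset_span
      ⟨(_, _), spread_sup_inf a b hab hba, rfl⟩)) (Submodule.smul_mem _ _ hg)

/-- The basis of the family. -/
noncomputable def degenBasis (hd : 0 < d) (hW : IsWeight W) :
    Module.Basis (PChain (Below w)) (Polynomial K) (Degen (K := K) w W) :=
  Module.Basis.mk (degenMon_linearIndependent w W hd) (degenMon_span hd hW).ge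

@[simp] lemma degenBasis_apply (hd : 0 < d) (hW : IsWeight W) (e : PChain (Below w)) :
    degenBasis (K := K) hd hW e = degenMon w W e := Module.Basis.mk_apply _ _ e

lemma smul_mem_span_self (t : Polynomial K) (x : Degen (K := K) w W) :
    t • x ∈ Ideal.span {algebraMap (Polynomial K) (Degen (K := K) w W) t} := by
  rw [Algebra.smul_def]
  exact Ideal.mul_mem_right _ _ (Ideal.mem_span_singleton_self _)

lemma mem_span_iff_dvd_repr (hd : 0 < d) (hW : IsWeight W) (t : Polynomial K) (x : Degen (K := K) w W) :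
    x ∈ Ideal.span {algebraMap (Polynomial K) (Degen (K := K) w W) t} ↔
      ∀ e, t ∣ (degenBasis hd hW).repr x e := by
  classical
  constructor
  · intro h e
    obtain ⟨y, rfl⟩ := Ideal.mem_span_singleton'.1 h
    rw [mul_comm, ← Algebra.smul_def, map_smul, Finsupp.smul_apply, smul_eq_mul]
    exact dvd_mul_right _ _
  · intro h
    rw [← (degenBasis hd hW).linearCombination_repr x, Finsupp.linearCombination_apply, Finsupp.sum]
    refine Ideal.sum_mem _ fun e _ => ?_
    obtain ⟨q, hq⟩ := h e
    rw [hq, mul_smul]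
    exact smul_mem_span_self t _

variable (w W)

/-- Specialisation at `c`. -/
noncomputable def spec (c : K) : Degen (K := K) w W →ₐ[K] MatRing K d n where
  toRingHom := (MvPolynomial.map (Polynomial.evalRingHom c)).comp
    (Subalgebra.val (Degen (K := K) w W)).toRingHom
  commutes' a := by
    change MvPolynomial.map (Polynomial.evalRingHom c) (MvPolynomial.C (Polynomial.C a)) = _
    rw [MvPolynomial.map_C, Polynomial.coe_evalRingHom, Polynomial.eval_C]
    rfl

variable {w W}

lemma spec_apply (c : K) (x : Degen (K := K) w W) :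
    spec w W c x = MvPolynomial.map (Polynomial.evalRingHom c) x.1 := rfl

lemma spec_smul (c : K) (t : Polynomial K) (x : Degen (K := K) w W) :
    spec w W c (t • x) = t.eval c • spec w W c x := by
  rw [spec_apply, spec_apply, Subalgebra.coe_smul, MvPolynomial.smul_eq_C_mul, map_mul,
    MvPolynomial.map_C, MvPolynomial.smul_eq_C_mul]
  rfl

lemma spec_degenMon (c : K) (e : PChain (Below w)) :
    spec w W c (degenMon w W e) = c ^ (∑ k, W (e.2.1 k).1) •
      bandProd K (idxBot (idx_le_of_nonempty w)) w (toStd w e).2.1 := by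
  rw [spec_apply, coe_degenMon, MvPolynomial.smul_eq_C_mul, map_mul, MvPolynomial.map_C,
    MvPolynomial.smul_eq_C_mul, bandProd, bandProd, map_prod]
  congr 1
  · rw [Polynomial.coe_evalRingHom, Polynomial.eval_pow, Polynomial.eval_X]
  · exact Finset.prod_congr rfl fun k _ => map_bandMinor _ _ _ _

lemma spec_range (hd : 0 < d) {c : K} (hc : c ≠ 0) :
    (spec w W c).range = (psi K (idxBot (idx_le_of_nonempty w)) w).range := by
  classical
  have hgen : ∀ θ : Below w, spec w W c ⟨twisted w W θ, Algebra.subset_adjoin ⟨θ, rfl⟩⟩ =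
      c ^ W θ.1 • bandMinor K (idxBot (idx_le_of_nonempty w)) w θ.1 := fun θ => by
    rw [spec_apply]
    simp only [twisted]
    rw [MvPolynomial.smul_eq_C_mul, map_mul, MvPolynomial.map_C,
      MvPolynomial.smul_eq_C_mul, map_bandMinor, Polynomial.coe_evalRingHom, Polynomial.eval_pow,
      Polynomial.eval_X]
  refine le_antisymm ?_ ?_
  · rintro _ ⟨⟨x, hx⟩, rfl⟩
    change spec w W c ⟨x, hx⟩ ∈ (psi K (idxBot (idx_le_of_nonempty w)) w).range
    induction hx using Algebra.adjoin_induction with
    | mem x hx =>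
      obtain ⟨θ, rfl⟩ := hx
      rw [hgen]
      exact Subalgebra.smul_mem _ ((AlgHom.mem_range _).2 ⟨X θ.1, psi_X K _ _ _⟩) _
    | algebraMap t =>
      have h1 := spec_smul c t (1 : Degen (K := K) w W)
      rw [Algebra.smul_def, mul_one, map_one] at h1
      exact h1 ▸ Subalgebra.smul_mem _ (Subalgebra.one_mem _) _
    | add x y hx hy h1 h2 => exact (map_add (spec w W c) ⟨x, hx⟩ ⟨y, hy⟩).symm ▸ Subalgebra.add_mem _ h1 h2
    | mul x y hx hy h1 h2 => exact (map_mul (spec w W c) ⟨x, hx⟩ ⟨y, hy⟩).symm ▸ Subalgebra.mul_mem _ h1 h2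
  · rw [psi, ← Algebra.adjoin_range_eq_range_aeval, Algebra.adjoin_le_iff]
    rintro _ ⟨φ, rfl⟩
    by_cases h : φ ≤ w
    · have : bandMinor K (idxBot (idx_le_of_nonempty w)) w φ = (c ^ W φ)⁻¹ •
          spec w W c ⟨twisted w W ⟨φ, h⟩, Algebra.subset_adjoin ⟨_, rfl⟩⟩ := by
        rw [hgen, inv_smul_smul₀ (pow_ne_zero _ hc)]
      rw [SetLike.mem_coe, this]
      exact Subalgebra.smul_mem _ (AlgHom.mem_range_self _ _) _
    · rw [bandMinor_eq_zero K fun h' => h h'.2]
      exact Subalgebra.zero_mem _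

/-- The general fibre. -/
theorem fibre_ne_zero (hd : 0 < d) (hW : IsWeight W) {c : K} (hc : c ≠ 0) :
    Nonempty ((Degen (K := K) w W ⧸
        Ideal.span {algebraMap (Polynomial K) (Degen (K := K) w W) (Polynomial.X - Polynomial.C c)})
      ≃ₐ[K] SRing K w) := by
  classical
  have hdn := idx_le_of_nonempty w
  set b := degenBasis (K := K) (w := w) hd hW
  have hker : RingHom.ker (spec w W c) =
      Ideal.span {algebraMap (Polynomial K) (Degen (K := K) w W) (Polynomial.X - Polynomial.C c)} := by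
    ext x
    rw [mem_span_iff_dvd_repr hd hW, RingHom.mem_ker]
    have hx : spec w W c x = ∑ e ∈ (b.repr x).support,
        ((b.repr x e).eval c * c ^ (∑ k, W (e.2.1 k).1)) • bandProd K (idxBot hdn) w (toStd w e).2.1 := by
      conv_lhs => rw [← b.linearCombination_repr x, Finsupp.linearCombination_apply, map_finsuppSum,
        Finsupp.sum]
      refine Finset.sum_congr rfl fun e _ => ?_
      rw [degenBasis_apply, spec_smul, spec_degenMon, smul_smul]
    have hli : LinearIndependent K fun e : PChain (Below w) =>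
        bandProd K (idxBot hdn) w (toStd w e).2.1 :=
      (linearIndependent_bandProd hd _ w).comp (toStd w) (toStd_injective w)
    rw [hx]
    constructor
    · intro h e
      by_cases he : e ∈ (b.repr x).support
      · have := (linearIndependent_iff'.1 hli) _ _ h e he
        exact Polynomial.dvd_iff_isRoot.2
          ((mul_eq_zero.1 this).resolve_right (pow_ne_zero _ hc))
      · exact (Finsupp.notMem_support_iff.1 he : (b.repr x) e = 0).symm ▸ dvd_zero _
    · intro h
      refine Finset.sum_eq_zero fun e _ => ?_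
      rw [(Polynomial.dvd_iff_isRoot.1 (h e) : (b.repr x e).eval c = 0), zero_mul, zero_smul]
  refine ⟨(Ideal.quotientEquivAlgOfEq K hker.symm).trans ((Ideal.quotientKerEquivRange (spec w W c)).trans
    ((Subalgebra.equivOfEq _ _ (spec_range hd hc)).trans
      ((Ideal.quotientKerEquivRange (psi K (idxBot hdn) w)).symm.trans
        (Ideal.quotientEquivAlgOfEq K ?_))))⟩
  rw [ker_psi hd, schubertVanishing_eq_bandIdeal hd hdn]

/-- The special fibre: `K[x_θ : θ ≤ w] / I₀` whenever `I₀` is killed and spanned by chain monomials. -/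
theorem fibre_zero (hd : 0 < d) (hW : IsWeight W) (I₀ : Ideal (MvPolynomial (Below w) K))
    (hkill : I₀ ≤ RingHom.ker ((Ideal.Quotient.mkₐ K
      (Ideal.span {algebraMap (Polynomial K) (Degen (K := K) w W) Polynomial.X})).comp
        (MvPolynomial.aeval fun θ : Below w =>
          (⟨twisted w W θ, Algebra.subset_adjoin ⟨θ, rfl⟩⟩ : Degen (K := K) w W))))
    (hspread : ∀ a b : Below w, ¬ a ≤ b → ¬ b ≤ a →
      Ideal.Quotient.mk I₀ (X a * X b) ∈ Submodule.span K
        ((fun p : Below w × Below w => Ideal.Quotient.mk I₀ (X p.1 * X p.2)) ''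
          {p | wt Fin.val a.1.1 ^ 2 + wt Fin.val b.1.1 ^ 2 < wt Fin.val p.1.1.1 ^ 2 + wt Fin.val p.2.1.1 ^ 2})) :
    Nonempty ((Degen (K := K) w W ⧸ Ideal.span {algebraMap (Polynomial K) (Degen (K := K) w W) Polynomial.X})
      ≃ₐ[K] (MvPolynomial (Below w) K ⧸ I₀)) := by
  classical
  set J := Ideal.span {algebraMap (Polynomial K) (Degen (K := K) w W) Polynomial.X}
  set b := degenBasis (K := K) (w := w) hd hW
  let π := Ideal.Quotient.liftₐ I₀ _ fun a ha => RingHom.mem_ker.1 (hkill ha)
  have hπX : ∀ θ : Below w, π (Ideal.Quotient.mk I₀ (X θ)) =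
      Ideal.Quotient.mk J ⟨twisted w W θ, Algebra.subset_adjoin ⟨θ, rfl⟩⟩ := fun θ => by
    change Ideal.Quotient.mk J (MvPolynomial.aeval _ (X θ)) = _
    rw [aeval_X]
  have hπ : ∀ e : PChain (Below w), π (∏ k, Ideal.Quotient.mk I₀ (X (e.2.1 k))) =
      Ideal.Quotient.mk J (degenMon w W e) := fun e => by
    simp only [map_prod, hπX, degenMon]
  have hconst : ∀ (t : Polynomial K) (x : Degen (K := K) w W),
      Ideal.Quotient.mk J (t • x) = (t.coeff 0) • Ideal.Quotient.mk J x := by
    intro t x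
    have hmem : t • x - (Polynomial.C (t.coeff 0)) • x ∈ J := by
      obtain ⟨q, hq⟩ := (Polynomial.X_dvd_iff (f := t - Polynomial.C (t.coeff 0))).2 (by simp)
      rw [← sub_smul, hq, mul_smul]
      exact smul_mem_span_self _ _
    rw [(Ideal.Quotient.mk_eq_mk_iff_sub_mem _ _).2 hmem]
    have : (Polynomial.C (t.coeff 0)) • x = (t.coeff 0) • x := by
      rw [← Polynomial.algebraMap_eq, IsScalarTower.algebraMap_smul]
    rw [this]
    exact map_smul (Ideal.Quotient.mkₐ K J) _ _
  have hsurj : Function.Surjective π := by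
    intro y
    obtain ⟨x, rfl⟩ := Ideal.Quotient.mk_surjective y
    change _ ∈ π.range
    rw [← b.linearCombination_repr x, Finsupp.linearCombination_apply, Finsupp.sum, map_sum]
    refine Subalgebra.sum_mem _ fun e _ => ?_
    rw [hconst, degenBasis_apply, ← hπ]
    exact Subalgebra.smul_mem _ (AlgHom.mem_range_self _ _) _
  have hspan : Submodule.span K (Set.range fun e : PChain (Below w) =>
      ∏ k, Ideal.Quotient.mk I₀ (X (e.2.1 k))) = ⊤ := by
    refine eq_top_iff.2 fun q _ => adjoin_le_span_chains (A := K)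
      (fun θ : Below w => Ideal.Quotient.mk I₀ (X θ)) (fun θ => wt Fin.val θ.1.1) below_wt_strictMono
      (fun a b hab hba => by simpa only [← map_mul] using hspread a b hab hba) ?_
    obtain ⟨f, rfl⟩ := Ideal.Quotient.mk_surjective q
    rw [Subalgebra.mem_toSubmodule, Algebra.adjoin_range_eq_range_aeval]
    refine ⟨f, ?_⟩
    exact AlgHom.congr_fun (φ₂ := Ideal.Quotient.mkₐ K I₀) (MvPolynomial.algHom_ext fun θ => aeval_X _ θ) f
  have hinj : Function.Injective π.toLinearMap := by
    refine injective_of_span_of_independent (A := K) π.toLinearMap hspan ?_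
    rw [linearIndependent_iff']
    intro s g hg e he
    have hmem : ∑ x ∈ s, Polynomial.C (g x) • degenMon w W x ∈ J := by
      rw [← Ideal.Quotient.eq_zero_iff_mem, map_sum, ← hg]
      refine Finset.sum_congr rfl fun x _ => ?_
      rw [Function.comp_apply, AlgHom.toLinearMap_apply, hπ, hconst, Polynomial.coeff_C_zero]
    have := (mem_span_iff_dvd_repr hd hW _ _).1 hmem e
    simp only [← degenBasis_apply hd hW] at this
    rw [map_sum, Finset.sum_apply'] at this
    simp only [map_smul, Module.Basis.repr_self, Finsupp.smul_single, smul_eq_mul, mul_one,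
      Finsupp.single_apply, Finset.sum_ite_eq', if_pos he] at this
    rw [Polynomial.X_dvd_iff, Polynomial.coeff_C_zero] at this
    exact this
  exact ⟨(AlgEquiv.ofBijective π ⟨hinj, hsurj⟩).symm⟩

/-- The `SR` weight. -/
def srW (θ : Idx d n) : ℕ := (d * n) ^ 2 - wt Fin.val θ.1 ^ 2

/-- The counting function `F_θ(y) = #{t | θ_t < y}`. -/
def below' (y : ℕ) (θ : Idx d n) : ℕ := wt (fun x => if x.val < y then 1 else 0) θ.1

/-- The Hibi weight. -/
def hibiW (θ : Idx d n) : ℕ := n * d ^ 2 - ∑ y ∈ Finset.range n, below' y θ ^ 2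

lemma sq_wt_le (θ : Idx d n) : wt Fin.val θ.1 ^ 2 ≤ (d * n) ^ 2 :=
  Nat.pow_le_pow_left (by
    calc wt Fin.val θ.1 ≤ ∑ _t : Fin d, n := Finset.sum_le_sum fun t _ => (θ.1 t).isLt.le
      _ = d * n := by simp) 2

lemma below'_le (y : ℕ) (θ : Idx d n) : below' y θ ≤ d := by
  simp only [below', wt]
  calc (∑ t, if (θ.1 t).val < y then 1 else 0) ≤ ∑ _t : Fin d, 1 :=
        Finset.sum_le_sum fun t _ => by split_ifs <;> simp
    _ = d := by simp

lemma sum_below'_le (θ : Idx d n) : ∑ y ∈ Finset.range n, below' y θ ^ 2 ≤ n * d ^ 2 := by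
  calc ∑ y ∈ Finset.range n, below' y θ ^ 2 ≤ ∑ _y ∈ Finset.range n, d ^ 2 :=
        Finset.sum_le_sum fun y _ => Nat.pow_le_pow_left (below'_le y θ) 2
    _ = _ := by simp

lemma srW_isWeight : IsWeight (srW (d := d) (n := n)) := by
  have key : ∀ τ φ α β : Idx d n, W4bk4grassmannian.sup τ φ ≤ α →
      wt Fin.val α.1 + wt Fin.val β.1 = wt Fin.val τ.1 + wt Fin.val φ.1 →
      (srW α + srW β ≤ srW τ + srW φ) ∧
        ((wt Fin.val τ.1 < wt Fin.val α.1 ∧ wt Fin.val φ.1 < wt Fin.val α.1) →
          srW α + srW β < srW τ + srW φ) := by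
    intro τ φ α β h hc
    have h1 : wt Fin.val τ.1 ≤ wt Fin.val α.1 :=
      Finset.sum_le_sum fun t _ => Fin.le_def.1 ((le_max_left _ _).trans (h t))
    have h2 : wt Fin.val φ.1 ≤ wt Fin.val α.1 :=
      Finset.sum_le_sum fun t _ => Fin.le_def.1 ((le_max_right _ _).trans (h t))
    have := sq_wt_le τ; have := sq_wt_le φ; have := sq_wt_le α; have := sq_wt_le β
    simp only [srW]
    constructor
    · have : wt Fin.val τ.1 ^ 2 + wt Fin.val φ.1 ^ 2 ≤ wt Fin.val α.1 ^ 2 + wt Fin.val β.1 ^ 2 := by
        nlinarith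
      omega
    · rintro ⟨h1', h2'⟩
      have : wt Fin.val τ.1 ^ 2 + wt Fin.val φ.1 ^ 2 < wt Fin.val α.1 ^ 2 + wt Fin.val β.1 ^ 2 := by
        nlinarith
      omega
  refine ⟨fun τ φ => (key τ φ _ _ le_rfl (wt_sup_add_inf _ τ φ)).1, fun τ φ α β hα _ hc => ?_⟩
  refine (key τ φ α β hα.le (hc _)).2 ?_
  have hs : wt Fin.val (W4bk4grassmannian.sup τ φ).1 < wt Fin.val α.1 := by
    refine Finset.sum_lt_sum (fun t _ => Fin.le_def.1 (hα.le t)) ?_
    by_contra hno
    push_neg at hno
    exact hα.not_ge fun t => Fin.le_def.2 (hno t (Finset.mem_univ _))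
  have h1 : wt Fin.val τ.1 ≤ wt Fin.val (W4bk4grassmannian.sup τ φ).1 :=
    Finset.sum_le_sum fun t _ => Fin.le_def.1 (le_max_left (τ.1 t) (φ.1 t))
  have h2 : wt Fin.val φ.1 ≤ wt Fin.val (W4bk4grassmannian.sup τ φ).1 :=
    Finset.sum_le_sum fun t _ => Fin.le_def.1 (le_max_right (τ.1 t) (φ.1 t))
  omega

lemma below'_antitone (y : ℕ) {a b : Idx d n} (h : a ≤ b) : below' y b ≤ below' y a := by
  simp only [below', wt]
  refine Finset.sum_le_sum fun t _ => ?_
  have := Fin.le_def.1 (h t)
  split_ifs with h1 h2 <;> omega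

lemma below'_sup (y : ℕ) (τ φ : Idx d n) :
    below' y (W4bk4grassmannian.sup τ φ) = min (below' y τ) (below' y φ) ∧
      below' y (W4bk4grassmannian.inf τ φ) = max (below' y τ) (below' y φ) := by
  have hpre : ∀ (θ : Idx d n) (t : Fin d), (θ.1 t).val < y ↔ t.val < below' y θ := by
    intro θ t
    have hF : below' y θ = (Finset.univ.filter fun s => (θ.1 s).val < y).card := by
      simp [below', wt]
    rw [hF]
    constructor
    · intro h
      calc t.val < (Finset.Iic t).card := by simp [Fin.card_Iic]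
        _ ≤ _ := Finset.card_le_card fun s hs => by
          simp only [Finset.mem_Iic] at hs
          simpa using (Fin.le_def.1 (θ.2.monotone hs)).trans_lt h
    · intro h
      by_contra hk
      have hsub : (Finset.univ.filter fun s => (θ.1 s).val < y) ⊆ Finset.Iio t := fun s hs => by
        simp only [Finset.mem_filter, Finset.mem_univ, true_and] at hs
        rw [Finset.mem_Iio]
        by_contra hst
        exact hk ((Fin.le_def.1 (θ.2.monotone (not_lt.1 hst))).trans_lt hs)
      have := Finset.card_le_card hsub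
      rw [Fin.card_Iio] at this
      omega
  have hs : ∀ t : Fin d, t.val < below' y (W4bk4grassmannian.sup τ φ) ↔
      t.val < min (below' y τ) (below' y φ) := fun t => by
    rw [← hpre, lt_min_iff, ← hpre, ← hpre]
    simp only [W4bk4grassmannian.sup]
    rcases le_total (τ.1 t) (φ.1 t) with h | h
    · rw [max_eq_right h]; exact ⟨fun h' => ⟨(Fin.le_def.1 h).trans_lt h', h'⟩, And.right⟩
    · rw [max_eq_left h]; exact ⟨fun h' => ⟨h', (Fin.le_def.1 h).trans_lt h'⟩, And.left⟩
  have hsup : below' y (W4bk4grassmannian.sup τ φ) = min (below' y τ) (below' y φ) := by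
    have h1 := below'_le y (W4bk4grassmannian.sup τ φ)
    have h2 := below'_le y τ
    by_contra hne
    rcases lt_or_gt_of_ne hne with h | h
    · have := (hs ⟨_, lt_of_lt_of_le h ((min_le_left _ _).trans h2)⟩).2 h
      exact lt_irrefl _ this
    · have := (hs ⟨_, lt_of_lt_of_le h h1⟩).1 h
      exact lt_irrefl _ this
  refine ⟨hsup, ?_⟩
  have := wt_sup_add_inf (fun x => if x.val < y then 1 else 0) τ φ
  simp only [below'] at hsup ⊢
  omega

lemma hibiW_sup_inf (τ φ : Idx d n) :
    hibiW (W4bk4grassmannian.sup τ φ) + hibiW (W4bk4grassmannian.inf τ φ) = hibiW τ + hibiW φ := by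
  have h : ∑ y ∈ Finset.range n, below' y (W4bk4grassmannian.sup τ φ) ^ 2 +
      ∑ y ∈ Finset.range n, below' y (W4bk4grassmannian.inf τ φ) ^ 2 =
      ∑ y ∈ Finset.range n, below' y τ ^ 2 + ∑ y ∈ Finset.range n, below' y φ ^ 2 := by
    rw [← Finset.sum_add_distrib, ← Finset.sum_add_distrib]
    refine Finset.sum_congr rfl fun y _ => ?_
    obtain ⟨h1, h2⟩ := below'_sup y τ φ
    rw [h1, h2]
    rcases le_total (below' y τ) (below' y φ) with h | h
    · rw [min_eq_left h, max_eq_right h]
    · rw [min_eq_right h, max_eq_left h, add_comm]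
  have := sum_below'_le τ; have := sum_below'_le φ
  have := sum_below'_le (W4bk4grassmannian.sup τ φ); have := sum_below'_le (W4bk4grassmannian.inf τ φ)
  simp only [hibiW]
  omega

lemma hibiW_isWeight : IsWeight (hibiW (d := d) (n := n)) := by
  refine ⟨fun τ φ => (hibiW_sup_inf τ φ).le, fun τ φ α β hα _ hc => ?_⟩
  rw [← hibiW_sup_inf τ φ]
  set S := W4bk4grassmannian.sup τ φ
  set I := W4bk4grassmannian.inf τ φ
  have hsum : ∀ y, below' y α + below' y β = below' y S + below' y I := fun y =>
    (hc _).trans (wt_sup_add_inf _ τ φ).symm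
  have hSI : ∀ y, below' y S ≤ below' y I := fun y =>
    below'_antitone y fun t => (min_le_left _ _).trans (le_max_left _ _)
  obtain ⟨t, ht⟩ := not_forall.1 fun h : ∀ t, α.1 t ≤ S.1 t => hα.not_ge h
  have hn : (S.1 t).val + 1 < n := by
    have := (α.1 t).isLt; have := Fin.lt_def.1 (not_le.1 ht); omega
  have hstrict : ∑ y ∈ Finset.range n, (below' y S ^ 2 + below' y I ^ 2) <
      ∑ y ∈ Finset.range n, (below' y α ^ 2 + below' y β ^ 2) := by
    refine Finset.sum_lt_sum (fun y _ => ?_) ⟨(S.1 t).val + 1, Finset.mem_range.2 hn, ?_⟩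
    · have := hsum y; have := hSI y; have := below'_antitone y hα.le
      nlinarith
    · have h1 : below' ((S.1 t).val + 1) α < below' ((S.1 t).val + 1) S := by
        simp only [below', wt]
        refine Finset.sum_lt_sum (fun s _ => ?_) ⟨t, Finset.mem_univ t, ?_⟩
        · have := Fin.le_def.1 (hα.le s)
          split_ifs <;> omega
        · have := Fin.lt_def.1 (not_le.1 ht)
          split_ifs <;> omega
      have := hsum ((S.1 t).val + 1); have := hSI ((S.1 t).val + 1)
      nlinarith
  rw [Finset.sum_add_distrib, Finset.sum_add_distrib] at hstrict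
  have := sum_below'_le α; have := sum_below'_le β; have := sum_below'_le S; have := sum_below'_le I
  simp only [hibiW]
  omega

lemma twisted_product_mem_pow (a b : Below w) (hd : 0 < d) (hW : IsWeight W) (hab : ¬ a ≤ b) (hba : ¬ b ≤ a) :
    ∃ z : Degen (K := K) w W,
      (⟨twisted w W a, Algebra.subset_adjoin ⟨a, rfl⟩⟩ * ⟨twisted w W b, Algebra.subset_adjoin ⟨b, rfl⟩⟩ :
          Degen (K := K) w W) =
        (Polynomial.X : Polynomial K) ^ (W a.1 + W b.1 - (W (Below.sup a b).1 + W (Below.inf a b).1)) •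
          (⟨twisted w W (Below.sup a b), Algebra.subset_adjoin ⟨_, rfl⟩⟩ *
            ⟨twisted w W (Below.inf a b), Algebra.subset_adjoin ⟨_, rfl⟩⟩) +
        (Polynomial.X : Polynomial K) • z := by
  obtain ⟨g, hg, he⟩ := twisted_pair (K := K) hd hW a b hab hba
  have hgm : g ∈ Subalgebra.toSubmodule (Degen (K := K) w W) := by
    refine Submodule.span_le.2 ?_ hg
    rintro _ ⟨p, -, rfl⟩
    exact Subalgebra.mul_mem _ (Algebra.subset_adjoin ⟨_, rfl⟩) (Algebra.subset_adjoin ⟨_, rfl⟩)
  exact ⟨⟨g, hgm⟩, Subtype.ext he⟩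

/-- Degeneration to the Hibi ring. -/
theorem hibi_degeneration (hd : 0 < d) (w : Idx d n) :
    ∃ (R : Type u) (_ : CommRing R) (_ : Algebra K R) (_ : Algebra (Polynomial K) R)
      (_ : IsScalarTower K (Polynomial K) R),
      Module.Free (Polynomial K) R ∧
      Nonempty ((R ⧸ Ideal.span {algebraMap (Polynomial K) R Polynomial.X}) ≃ₐ[K]
        (MvPolynomial (Below w) K ⧸ hibiIdeal K w)) ∧
      ∀ c : K, c ≠ 0 →
        Nonempty ((R ⧸ Ideal.span {algebraMap (Polynomial K) R (Polynomial.X - Polynomial.C c)}) ≃ₐ[K]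
          (PlRing K d n ⧸ schubertVanishing K d n w)) := by
  classical
  refine ⟨Degen (K := K) w hibiW, inferInstance, inferInstance, inferInstance, inferInstance,
    Module.Free.of_basis (degenBasis hd hibiW_isWeight),
    fibre_zero hd hibiW_isWeight _ ?_ fun a b hab hba => ?_, fun c hc => fibre_ne_zero hd hibiW_isWeight hc⟩
  · refine Ideal.span_le.2 ?_
    rintro _ ⟨a, b, rfl⟩
    rw [SetLike.mem_coe, RingHom.mem_ker, AlgHom.comp_apply, Ideal.Quotient.mkₐ_eq_mk,
      Ideal.Quotient.eq_zero_iff_mem, map_sub, map_mul, map_mul, aeval_X, aeval_X, aeval_X, aeval_X]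
    by_cases hab : a ≤ b
    · have h1 : Below.sup a b = b := Subtype.ext (Subtype.ext (funext fun t => max_eq_right (hab t)))
      have h2 : Below.inf a b = a := Subtype.ext (Subtype.ext (funext fun t => min_eq_left (hab t)))
      rw [h1, h2, mul_comm, sub_self]
      exact zero_mem _
    by_cases hba : b ≤ a
    · have h1 : Below.sup a b = a := Subtype.ext (Subtype.ext (funext fun t => max_eq_left (hba t)))
      have h2 : Below.inf a b = b := Subtype.ext (Subtype.ext (funext fun t => min_eq_right (hba t)))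
      rw [h1, h2, sub_self]
      exact zero_mem _
    obtain ⟨z, hz⟩ := twisted_product_mem_pow (K := K) a b hd hibiW_isWeight hab hba
    rw [hz, show hibiW a.1 + hibiW b.1 - (hibiW (Below.sup a b).1 + hibiW (Below.inf a b).1) = 0 by
      have := hibiW_sup_inf a.1 b.1; simp only [Below.sup, Below.inf]; omega, pow_zero, one_smul,
      add_sub_cancel_left]
    exact smul_mem_span_self _ _
  · have h : Ideal.Quotient.mk (hibiIdeal K w) (X a * X b) =
        Ideal.Quotient.mk (hibiIdeal K w) (X (Below.sup a b) * X (Below.inf a b)) :=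
      (Ideal.Quotient.mk_eq_mk_iff_sub_mem _ _).2 (Ideal.subset_span ⟨a, b, rfl⟩)
    rw [h]
    exact Submodule.subset_span ⟨(_, _), spread_sup_inf a b hab hba, rfl⟩

/-- Degeneration to the Stanley–Reisner ring. -/
theorem sr_degeneration (hd : 0 < d) (w : Idx d n) :
    ∃ (R : Type u) (_ : CommRing R) (_ : Algebra K R) (_ : Algebra (Polynomial K) R)
      (_ : IsScalarTower K (Polynomial K) R),
      Module.Free (Polynomial K) R ∧
      Nonempty ((R ⧸ Ideal.span {algebraMap (Polynomial K) R Polynomial.X}) ≃ₐ[K]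
        (MvPolynomial (Below w) K ⧸ srIdeal K w)) ∧
      ∀ c : K, c ≠ 0 →
        Nonempty ((R ⧸ Ideal.span {algebraMap (Polynomial K) R (Polynomial.X - Polynomial.C c)}) ≃ₐ[K]
          (PlRing K d n ⧸ schubertVanishing K d n w)) := by
  classical
  refine ⟨Degen (K := K) w srW, inferInstance, inferInstance, inferInstance, inferInstance,
    Module.Free.of_basis (degenBasis hd srW_isWeight),
    fibre_zero hd srW_isWeight _ ?_ fun a b hab hba => ?_, fun c hc => fibre_ne_zero hd srW_isWeight hc⟩
  · refine Ideal.span_le.2 ?_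
    rintro _ ⟨a, b, hab, hba, rfl⟩
    rw [SetLike.mem_coe, RingHom.mem_ker, AlgHom.comp_apply, Ideal.Quotient.mkₐ_eq_mk,
      Ideal.Quotient.eq_zero_iff_mem, map_mul, aeval_X, aeval_X]
    obtain ⟨z, hz⟩ := twisted_product_mem_pow (K := K) a b hd srW_isWeight hab hba
    have hlt : srW (Below.sup a b).1 + srW (Below.inf a b).1 < srW a.1 + srW b.1 := by
      have h := spread_sup_inf a b hab hba
      have := sq_wt_le a.1; have := sq_wt_le b.1
      have := sq_wt_le (Below.sup a b).1; have := sq_wt_le (Below.inf a b).1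
      simp only [srW]
      omega
    obtain ⟨k, hk⟩ := Nat.exists_eq_add_of_lt hlt
    rw [hz, show srW a.1 + srW b.1 - (srW (Below.sup a b).1 + srW (Below.inf a b).1) = k + 1 by omega,
      pow_succ', mul_smul]
    exact Ideal.add_mem _ (smul_mem_span_self _ _) (smul_mem_span_self _ _)
  · rw [Ideal.Quotient.eq_zero_iff_mem.2 (show (X a * X b : MvPolynomial (Below w) K) ∈ srIdeal K w from
      Ideal.subset_span ⟨a, b, hab, hba, rfl⟩)]
    exact Submodule.zero_mem _

end Groth.Agent.W4Gr15
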