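import Groth.Agent.W4Gr15.Chart
import Groth.Prelude.Def_CAlgX
import Mathlib.Data.Matrix.Block
import Mathlib.LinearAlgebra.Matrix.Determinant.Basic

/-!
# Plücker coordinates on the opposite cell are minors of the lower block
-/

universe u

open MvPolynomial W4bk4grassmannian

namespace Groth.Agent.W4Gr15

/-- Ideals of minors decrease with the size. -/
lemma minorIdeal_antitone {R : Type u} [CommRing R] {m n : Type} [Fintype m] [Fintype n]
    (A : Matrix m n R) {t k : ℕ} (h : t ≤ k) : CAlgX.minorIdeal A k ≤ CAlgX.minorIdeal A t := by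
  induction k, h using Nat.le_induction with
  | base => exact le_rfl
  | succ k _ ih =>
    refine le_trans (Ideal.span_le.2 ?_) ih
    rintro _ ⟨⟨f, g⟩, rfl⟩
    rw [SetLike.mem_coe]
    dsimp only
    rw [Matrix.det_succ_row_zero]
    refine Ideal.sum_mem _ fun j _ => Ideal.mul_mem_left _ _ ?_
    rw [Matrix.submatrix_submatrix]
    exact Ideal.subset_span ⟨(f ∘ Fin.succ, g ∘ j.succAbove), rfl⟩

variable (K : Type u) [CommRing K] {d r : ℕ}

/-- Minors of `[I ; Z]` on an arbitrary tuple of rows. -/
noncomputable def cellDet (a : Fin d → Fin (d + r)) : CellRing K d r :=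
  rowDet (fun i t => cellMatrix K d r i t) a

lemma cellDet_idx (θ : Idx d (d + r)) : cellDet K θ.1 = cellMinor K d r θ := rfl

open scoped Classical in
/-- The tuple which is the identity off `T` and takes the lower rows `S` at the positions `T`. -/
noncomputable def cellTuple {k : ℕ} (S : Fin k → Fin r) (T : Fin k → Fin d) (t : Fin d) : Fin (d + r) :=
  if h : ∃ b, T b = t then Fin.natAdd d (S h.choose) else Fin.castAdd r t

variable {K}

lemma cellTuple_apply {k : ℕ} (S : Fin k → Fin r) {T : Fin k → Fin d} (hT : Function.Injective T)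
    (b : Fin k) : cellTuple S T (T b) = Fin.natAdd d (S b) := by
  rw [cellTuple, dif_pos ⟨b, rfl⟩]
  congr 2
  exact hT (Classical.choose_spec (⟨b, rfl⟩ : ∃ b', T b' = T b))

lemma cellTuple_of_notMem {k : ℕ} (S : Fin k → Fin r) {T : Fin k → Fin d} {t : Fin d}
    (h : ∀ b, T b ≠ t) : cellTuple S T t = Fin.castAdd r t := by
  rw [cellTuple, dif_neg (fun ⟨b, hb⟩ => h b hb)]

lemma cellMatrix_natAdd (i : Fin r) (j : Fin d) :
    cellMatrix K d r (Fin.natAdd d i) j = genMatrix K r d i j := by
  simp [cellMatrix, genMatrix]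

lemma cellMatrix_castAdd (s j : Fin d) :
    cellMatrix K d r (Fin.castAdd r s) j = if s = j then 1 else 0 := by
  simp [cellMatrix, Fin.ext_iff]

variable (K) in
/-- The minor of `[I ; Z]` on `cellTuple S T` is the minor `[S | T]` of `Z`. -/
theorem cellDet_cellTuple {k : ℕ} (S : Fin k → Fin r) {T : Fin k → Fin d} (hT : Function.Injective T) :
    cellDet K (cellTuple S T) = ((genMatrix K r d).submatrix S T).det := by
  classical
  let e : Fin k ⊕ {t : Fin d // t ∉ Set.range T} ≃ Fin d :=
    ((Equiv.ofInjective T hT).sumCongr (Equiv.refl _)).trans (Equiv.sumCompl fun t => t ∈ Set.range T)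
  have hl : ∀ b, e (Sum.inl b) = T b := fun b => rfl
  have hr : ∀ t, e (Sum.inr t) = t.1 := fun t => rfl
  rw [cellDet, rowDet, ← Matrix.det_submatrix_equiv_self e]
  have hblock : (Matrix.of fun s t => cellMatrix K d r (cellTuple S T s) t).submatrix e e =
      Matrix.fromBlocks ((genMatrix K r d).submatrix S T)
        (Matrix.of fun b (t : {t : Fin d // t ∉ Set.range T}) => genMatrix K r d (S b) t.1) 0 1 := by
    ext x y
    rcases x with b | t <;> rcases y with b' | t'
    · simp [hl, cellTuple_apply S hT, cellMatrix_natAdd]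
    · simp [hl, hr, cellTuple_apply S hT, cellMatrix_natAdd]
    · simp only [Matrix.submatrix_apply, Matrix.of_apply, hl, hr, Matrix.fromBlocks_apply₂₁,
        Matrix.zero_apply, cellTuple_of_notMem S (fun b hb => t.2 ⟨b, hb⟩), cellMatrix_castAdd]
      rw [if_neg fun h => t.2 ⟨b', h.symm⟩]
    · simp only [Matrix.submatrix_apply, Matrix.of_apply, hr, Matrix.fromBlocks_apply₂₂,
        cellTuple_of_notMem S (fun b hb => t.2 ⟨b, hb⟩), cellMatrix_castAdd, Matrix.one_apply,
        Subtype.ext_iff]
  rw [hblock, Matrix.det_fromBlocks_zero₂₁, Matrix.det_one, mul_one]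

lemma cellDet_eq (a : Fin d → Fin (d + r)) :
    cellDet K a = if h : (Finset.univ.image a).card = d
      then (-1) ^ invCount d (d + r) a * cellMinor K d r (sortIdx d (d + r) a h) else 0 := by
  exact det_rows_eq (fun i t => cellMatrix K d r i t) a

section idx

open scoped Classical

/-- The lower rows of `θ`. -/
noncomputable def rowSet (θ : Idx d (d + r)) : Finset (Fin r) :=
  Finset.univ.filter fun i => Fin.natAdd d i ∈ Finset.univ.image θ.1

/-- The upper rows missing from `θ`. -/
noncomputable def colSet (θ : Idx d (d + r)) : Finset (Fin d) :=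
  Finset.univ.filter fun t => Fin.castAdd r t ∉ Finset.univ.image θ.1

lemma natAdd_ne_castAdd (i : Fin r) (t : Fin d) : Fin.natAdd d i ≠ Fin.castAdd r t := fun h => by
  have := congrArg Fin.val h
  simp at this
  omega

lemma image_idx_eq (θ : Idx d (d + r)) :
    Finset.univ.image θ.1 = (colSet θ)ᶜ.image (Fin.castAdd r) ∪ (rowSet θ).image (Fin.natAdd d) := by
  ext x
  refine Fin.addCases (fun t => ?_) (fun i => ?_) x
  · simp only [colSet, rowSet, Finset.mem_union, Finset.mem_compl, Finset.mem_filter, Finset.mem_univ,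
      true_and, not_not, Finset.mem_image (f := Fin.castAdd r), (Fin.castAdd_injective _ _).eq_iff,
      exists_eq_right, Finset.mem_image (f := Fin.natAdd (m := r) d)]
    refine ⟨Or.inl, ?_⟩
    rintro (h | ⟨i, -, hi⟩)
    · exact h
    · exact absurd hi (natAdd_ne_castAdd i t)
  · simp only [colSet, rowSet, Finset.mem_union, Finset.mem_compl, Finset.mem_filter, Finset.mem_univ,
      true_and, not_not, Finset.mem_image (f := Fin.natAdd (m := r) d), (Fin.natAdd_injective _ _).eq_iff,
      exists_eq_right, Finset.mem_image (f := Fin.castAdd r)]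
    refine ⟨Or.inr, ?_⟩
    rintro (⟨t, -, ht⟩ | h)
    · exact absurd ht.symm (natAdd_ne_castAdd i t)
    · exact h

lemma card_colSet (θ : Idx d (d + r)) : (colSet θ).card = (rowSet θ).card := by
  have h := congrArg Finset.card (image_idx_eq θ)
  rw [Finset.card_image_of_injective _ θ.2.injective, Finset.card_fin, Finset.card_union_of_disjoint,
    Finset.card_image_of_injective _ (Fin.castAdd_injective _ _),
    Finset.card_image_of_injective _ (Fin.natAdd_injective _ _), Finset.card_compl, Fintype.card_fin] at h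
  · have := Finset.card_le_univ (colSet θ)
    rw [Fintype.card_fin] at this
    omega
  · rw [Finset.disjoint_left]
    intro x hx hx'
    obtain ⟨t, -, rfl⟩ := Finset.mem_image.1 hx
    obtain ⟨i, -, hi⟩ := Finset.mem_image.1 hx'
    exact natAdd_ne_castAdd i t hi

/-- The tuple attached to `θ`. -/
noncomputable def idxTuple (θ : Idx d (d + r)) : Fin d → Fin (d + r) :=
  cellTuple ((rowSet θ).orderEmbOfFin rfl) ((colSet θ).orderEmbOfFin (card_colSet θ))

lemma image_idxTuple (θ : Idx d (d + r)) :
    Finset.univ.image (idxTuple θ) = Finset.univ.image θ.1 := by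
  set S := (rowSet θ).orderEmbOfFin rfl
  set T := (colSet θ).orderEmbOfFin (card_colSet θ)
  rw [image_idx_eq θ]
  ext x
  simp only [Finset.mem_image, Finset.mem_univ, true_and, Finset.mem_union]
  constructor
  · rintro ⟨t, rfl⟩
    by_cases h : ∃ b, T b = t
    · obtain ⟨b, rfl⟩ := h
      exact Or.inr ⟨S b, Finset.orderEmbOfFin_mem _ _ _, (cellTuple_apply _ T.injective b).symm⟩
    · refine Or.inl ⟨t, Finset.mem_compl.2 fun ht => h ?_, (cellTuple_of_notMem _ fun b hb => h ⟨b, hb⟩).symm⟩
      have : t ∈ Set.range T := by rw [Finset.range_orderEmbOfFin]; exact ht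
      exact this
  · rintro (⟨t, ht, rfl⟩ | ⟨i, hi, rfl⟩)
    · exact ⟨t, cellTuple_of_notMem _ fun b hb =>
        Finset.mem_compl.1 ht (hb ▸ Finset.orderEmbOfFin_mem _ _ _)⟩
    · have : i ∈ Set.range S := by rw [Finset.range_orderEmbOfFin]; exact hi
      obtain ⟨b, rfl⟩ := this
      exact ⟨T b, cellTuple_apply _ T.injective b⟩

variable (K) in
/-- `cellMinor θ` is, up to sign, the minor `[rowSet θ | colSet θ]` of `Z`. -/
theorem cellMinor_eq (θ : Idx d (d + r)) :
    cellMinor K d r θ = (-1) ^ invCount d (d + r) (idxTuple θ) *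
      ((genMatrix K r d).submatrix ((rowSet θ).orderEmbOfFin rfl)
        ((colSet θ).orderEmbOfFin (card_colSet θ))).det := by
  rw [← cellDet_cellTuple K _ ((colSet θ).orderEmbOfFin (card_colSet θ)).injective]
  change _ = _ * cellDet K (idxTuple θ)
  have h : (Finset.univ.image (idxTuple θ)).card = d := by
    rw [image_idxTuple, Finset.card_image_of_injective _ θ.2.injective, Finset.card_fin]
  have hs : sortIdx d (d + r) (idxTuple θ) h = θ := Subtype.ext
    (Finset.orderEmbOfFin_unique h
      (fun x => image_idxTuple θ ▸ Finset.mem_image_of_mem _ (Finset.mem_univ x)) θ.2).symm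
  rw [cellDet_eq, dif_pos h, hs, ← mul_assoc, ← mul_pow, neg_one_mul, neg_neg, one_pow, one_mul]

lemma le_card_rowSet_iff (θ : Idx d (d + r)) {t : ℕ} (hd : 0 < d) (ht : 0 < t) (htd : t ≤ d) :
    t ≤ (rowSet θ).card ↔ d ≤ (θ.1 ⟨d - t, Nat.sub_lt hd ht⟩).val := by
  have hcard : (rowSet θ).card = (Finset.univ.filter fun s => d ≤ (θ.1 s).val).card := by
    rw [← Finset.card_image_of_injective _ (Fin.natAdd_injective r d),
      ← Finset.card_image_of_injective (Finset.univ.filter fun s => d ≤ (θ.1 s).val) θ.2.injective]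
    congr 1
    ext x
    simp only [rowSet, Finset.mem_image, Finset.mem_filter, Finset.mem_univ, true_and]
    constructor
    · rintro ⟨i, ⟨s, hs⟩, rfl⟩
      exact ⟨s, by rw [hs]; simp, hs⟩
    · rintro ⟨s, hs, rfl⟩
      refine ⟨⟨(θ.1 s).val - d, by omega⟩, ⟨s, ?_⟩, ?_⟩ <;> exact Fin.ext (by simp; omega)
  rw [hcard]
  constructor
  · intro h
    by_contra hlt
    push_neg at hlt
    have hsub : (Finset.univ.filter fun s => d ≤ (θ.1 s).val) ⊆ Finset.Ioi ⟨d - t, Nat.sub_lt hd ht⟩ :=
      fun s hs => by
        simp only [Finset.mem_filter, Finset.mem_univ, true_and] at hs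
        rw [Finset.mem_Ioi]
        by_contra hst
        have := Fin.le_def.1 (θ.2.monotone (not_lt.1 hst))
        omega
    have := h.trans (Finset.card_le_card hsub)
    rw [Fin.card_Ioi] at this
    simp only [] at this
    omega
  · intro h
    refine le_trans ?_ (Finset.card_le_card (s := Finset.Ici (⟨d - t, Nat.sub_lt hd ht⟩ : Fin d)) fun s hs => ?_)
    · rw [Fin.card_Ici]; simp only []; omega
    · rw [Finset.mem_Ici] at hs
      simp only [Finset.mem_filter, Finset.mem_univ, true_and]
      exact h.trans (Fin.le_def.1 (θ.2.monotone hs))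

variable (K) in
/-- Determinantal ideals as ideals of opposite cells of Schubert varieties. -/
theorem cellIdeal_eq {t : ℕ} (hd : 0 < d) (ht : 0 < t) (htd : t ≤ d) :
    Ideal.span {f : CellRing K d r | ∃ θ : Idx d (d + r),
        d ≤ (θ.1 ⟨d - t, Nat.sub_lt hd ht⟩).val ∧ f = cellMinor K d r θ} =
      CAlgX.minorIdeal (genMatrix K r d) t := by
  refine le_antisymm (Ideal.span_le.2 ?_) (Ideal.span_le.2 ?_)
  · rintro _ ⟨θ, hθ, rfl⟩
    rw [SetLike.mem_coe, cellMinor_eq K θ]
    exact Ideal.mul_mem_left _ _ (minorIdeal_antitone _ ((le_card_rowSet_iff θ hd ht htd).2 hθ)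
      (Ideal.subset_span ⟨(_, _), rfl⟩))
  · rintro _ ⟨⟨S, T⟩, rfl⟩
    rw [SetLike.mem_coe]
    dsimp only
    by_cases hT : Function.Injective T
    swap
    · obtain ⟨b, b', hb, hne⟩ := Function.not_injective_iff.1 hT
      rw [Matrix.det_zero_of_column_eq hne fun i => by simp [hb]]
      exact zero_mem _
    rw [← cellDet_cellTuple K S hT, cellDet_eq]
    split_ifs with h
    swap
    · exact zero_mem _
    refine Ideal.mul_mem_left _ _ (Ideal.subset_span ⟨_, ?_, rfl⟩)
    set θ := sortIdx d (d + r) (cellTuple S T) h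
    rw [← le_card_rowSet_iff θ hd ht htd]
    have hinj : Function.Injective (cellTuple S T) := by
      rw [← Set.injOn_univ, ← Finset.coe_univ]
      exact Finset.injOn_of_card_image_eq (by rw [h, Finset.card_fin])
    have hS : Function.Injective S := fun b b' hb => hT (hinj (by
      rw [cellTuple_apply S hT, cellTuple_apply S hT, hb]))
    refine le_of_eq_of_le ((Finset.card_image_of_injective _ hS).trans (Finset.card_fin t)).symm
      (Finset.card_le_card fun i hi => ?_)
    obtain ⟨b, -, rfl⟩ := Finset.mem_image.1 hi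
    simp only [rowSet, Finset.mem_filter, Finset.mem_univ, true_and]
    rw [show Finset.univ.image θ.1 = Finset.univ.image (cellTuple S T) from
      Finset.image_orderEmbOfFin_univ _ h]
    exact Finset.mem_image.2 ⟨T b, Finset.mem_univ _, cellTuple_apply S hT b⟩

end idx

end Groth.Agent.W4Gr15
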