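import Groth.Agent.W4Gr15.GradedVertex
import Groth.Agent.W4Gr15.RegGlue
import Groth.Agent.LocCoh.Depth

/-!
# Gluing Cohen–Macaulay graded quotients at the vertex
-/

universe u v

namespace Groth.Agent.W4Gr15

variable {K : Type u} [Field K] {A : Type v} [CommRing A] [Algebra K A] [IsNoetherianRing A]
  (𝒜 : ℕ → Submodule K A) [GradedAlgebra 𝒜] (h0 : ∀ a ∈ 𝒜 0, ∃ c : K, algebraMap K A c = a)

include h0 in
lemma depth_vertex_of_cm {H : Ideal A} (hH : H.IsHomogeneous 𝒜) {e : ℕ}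
    (hcm : LocCoh.IsCohenMacaulayRing (A ⧸ H)) (hdim : ringKrullDim (A ⧸ H) = (e : WithBot ℕ∞))
    [(HomogeneousIdeal.irrelevant 𝒜).toIdeal.IsPrime] :
    (e : ℕ∞) ≤ LocCoh.depth (Localization.AtPrime (HomogeneousIdeal.irrelevant 𝒜).toIdeal)
      (Localization.AtPrime (HomogeneousIdeal.irrelevant 𝒜).toIdeal ⧸
        H.map (algebraMap A (Localization.AtPrime (HomogeneousIdeal.irrelevant 𝒜).toIdeal))) := by
  have hH' : H ≠ ⊤ := fun h => by
    haveI : Subsingleton (A ⧸ H) := Ideal.Quotient.subsingleton_iff.2 h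
    rw [ringKrullDim_eq_bot_of_subsingleton] at hdim
    exact absurd hdim.symm (by simp)
  obtain ⟨hmax, hd⟩ := ringKrullDim_quotient_eq_height 𝒜 h0 hH hH'
  haveI := hmax
  set P := (HomogeneousIdeal.irrelevant 𝒜).toIdeal
  set q := P.map (Ideal.Quotient.mk H)
  have hc : q.comap (Ideal.Quotient.mk H) = P := by
    rw [Ideal.comap_map_of_surjective _ Ideal.Quotient.mk_surjective, ← RingHom.ker_eq_comap_bot, Ideal.mk_ker,
      sup_eq_left.2 (homogeneous_le_irrelevant 𝒜 h0 hH hH')]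
  haveI := hcm.isCohenMacaulayLocalRing_localization q
  have hdepth := (CAlgH3.isCohenMacaulayLocalRing_iff_depth (Localization.AtPrime q)).1 inferInstance
  rw [IsLocalization.AtPrime.ringKrullDim_eq_height q (Localization.AtPrime q), ← hd, hdim] at hdepth
  rw [depth_locQuot_eq H q P hc]
  exact_mod_cast hdepth.le

omit [IsNoetherianRing A] in
lemma ringKrullDim_inf_le (I J : Ideal A) :
    ringKrullDim (A ⧸ (I ⊓ J)) ≤ max (ringKrullDim (A ⧸ I)) (ringKrullDim (A ⧸ J)) := by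
  refine iSup_le fun l => ?_
  have key : ∀ H : Ideal A, (hH : I ⊓ J ≤ H) → H ≤ l.head.asIdeal.comap (Ideal.Quotient.mk (I ⊓ J)) →
      (l.length : WithBot ℕ∞) ≤ ringKrullDim (A ⧸ H) := by
    intro H hH hle
    let g : A ⧸ (I ⊓ J) →+* A ⧸ H := Ideal.Quotient.factor hH
    have hg : ∀ i, RingHom.ker g ≤ (l i).asIdeal := by
      intro i a ha
      obtain ⟨a, rfl⟩ := Ideal.Quotient.mk_surjective a
      rw [RingHom.mem_ker, Ideal.Quotient.factor_mk, Ideal.Quotient.eq_zero_iff_mem] at ha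
      exact (show l.head ≤ l i from l.head_le i) (hle ha)
    have hs : Function.Surjective g := Ideal.Quotient.factor_surjective hH
    exact Order.LTSeries.length_le_krullDim
      ({ length := l.length
         toFun := fun i => ⟨(l i).asIdeal.map g, Ideal.map_isPrime_of_surjective hs (hg i)⟩
         step := fun i => by
          have hlt : l i.castSucc < l i.succ := l.step i
          refine lt_of_le_of_ne (Ideal.map_mono hlt.le) fun he => hlt.ne ?_
          replace he : (l i.castSucc).asIdeal.map g = (l i.succ).asIdeal.map g := he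
          have := congrArg (Ideal.comap g) he
          simp only [Ideal.comap_map_of_surjective g hs, ← RingHom.ker_eq_comap_bot,
            sup_eq_left.2 (hg _)] at this
          exact PrimeSpectrum.ext this } : LTSeries (PrimeSpectrum (A ⧸ H)))
  have hle : I ⊓ J ≤ l.head.asIdeal.comap (Ideal.Quotient.mk (I ⊓ J)) := fun a ha => by
    rw [Ideal.mem_comap, Ideal.Quotient.eq_zero_iff_mem.2 ha]
    exact zero_mem _
  rcases (Ideal.IsPrime.inf_le (Ideal.IsPrime.comap _)).1 hle with h | h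
  · exact (key I inf_le_left h).trans (le_max_left _ _)
  · exact (key J inf_le_right h).trans (le_max_right _ _)

include h0 in
theorem cm_glue (I J : Ideal A) (hI : I.IsHomogeneous 𝒜) (hJ : J.IsHomogeneous 𝒜) {e : ℕ} (he : 1 ≤ e)
    (hIcm : LocCoh.IsCohenMacaulayRing (A ⧸ I)) (hJcm : LocCoh.IsCohenMacaulayRing (A ⧸ J))
    (hIJcm : LocCoh.IsCohenMacaulayRing (A ⧸ (I ⊔ J)))
    (hIdim : ringKrullDim (A ⧸ I) = (e : WithBot ℕ∞)) (hJdim : ringKrullDim (A ⧸ J) = (e : WithBot ℕ∞))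
    (hIJdim : ringKrullDim (A ⧸ (I ⊔ J)) = ((e - 1 : ℕ) : WithBot ℕ∞))
    [hm : ((HomogeneousIdeal.irrelevant 𝒜).toIdeal.map (Ideal.Quotient.mk (I ⊓ J))).IsPrime] :
    LocCoh.IsCohenMacaulayLocalRing (Localization.AtPrime
        ((HomogeneousIdeal.irrelevant 𝒜).toIdeal.map (Ideal.Quotient.mk (I ⊓ J)))) ∧
      ringKrullDim (Localization.AtPrime
        ((HomogeneousIdeal.irrelevant 𝒜).toIdeal.map (Ideal.Quotient.mk (I ⊓ J)))) = (e : WithBot ℕ∞) := by
  have hH := hI.inf hJ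
  have hI' : I ≠ ⊤ := fun h => by
    haveI : Subsingleton (A ⧸ I) := Ideal.Quotient.subsingleton_iff.2 h
    rw [ringKrullDim_eq_bot_of_subsingleton] at hIdim
    exact absurd hIdim.symm (by simp)
  have hH' : I ⊓ J ≠ ⊤ := fun h => hI' (eq_top_iff.2 (h ▸ inf_le_left))
  haveI : Nontrivial (A ⧸ I) := Ideal.Quotient.nontrivial_iff.2 hI'
  haveI : Nontrivial A := (Ideal.Quotient.mk I).domain_nontrivial
  haveI := irrelevant_isMaximal 𝒜 h0
  set P := (HomogeneousIdeal.irrelevant 𝒜).toIdeal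
  set q := P.map (Ideal.Quotient.mk (I ⊓ J))
  set L := Localization.AtPrime P
  set f := algebraMap A L
  have hqdim : ringKrullDim (Localization.AtPrime q) = (e : WithBot ℕ∞) := by
    rw [IsLocalization.AtPrime.ringKrullDim_eq_height q (Localization.AtPrime q),
      ← (ringKrullDim_quotient_eq_height 𝒜 h0 hH hH').2]
    refine le_antisymm ((ringKrullDim_inf_le I J).trans (by rw [hIdim, hJdim, max_self])) ?_
    rw [← hIdim]
    exact ringKrullDim_le_of_surjective (Ideal.Quotient.factor (inf_le_left : I ⊓ J ≤ I))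
      (Ideal.Quotient.factor_surjective _)
  refine ⟨(CAlgH3.isCohenMacaulayLocalRing_iff_depth _).2 (le_antisymm ?_ ?_), hqdim⟩
  · rw [hqdim]
    have hc : q.comap (Ideal.Quotient.mk (I ⊓ J)) = P := by
      rw [Ideal.comap_map_of_surjective _ Ideal.Quotient.mk_surjective, ← RingHom.ker_eq_comap_bot, Ideal.mk_ker,
        sup_eq_left.2 (homogeneous_le_irrelevant 𝒜 h0 hH hH')]
    rw [← depth_locQuot_eq (I ⊓ J) q P hc]
    have dI := depth_vertex_of_cm 𝒜 h0 hI hIcm hIdim
    have dJ := depth_vertex_of_cm 𝒜 h0 hJ hJcm hJdim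
    have dS := depth_vertex_of_cm 𝒜 h0 (hI.sup hJ) hIJcm hIJdim
    rw [CAlgH3.depth_congr (R := L) (Submodule.quotEquivOfEq _ _ (Ideal.map_sup f I J) :
      (L ⧸ (I ⊔ J).map f) ≃ₗ[L] L ⧸ (I.map f ⊔ J.map f))] at dS
    rw [CAlgH3.depth_congr (R := L) (Submodule.quotEquivOfEq _ _ (IsLocalization.map_inf P.primeCompl L I J) :
      (L ⧸ (I ⊓ J).map f) ≃ₗ[L] L ⧸ (I.map f ⊓ J.map f))]
    obtain ⟨i, p, hi, hex, hp⟩ := exact_inf_sup (I.map f) (J.map f)
    obtain ⟨-, -, hmain⟩ := LocCoh.idealDepth_shortExact (IsLocalRing.maximalIdeal L) _ _ _ i p hi hp hex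
    obtain ⟨hprod, -, -⟩ := LocCoh.idealDepth_shortExact (IsLocalRing.maximalIdeal L) (L ⧸ I.map f)
      ((L ⧸ I.map f) × (L ⧸ J.map f)) (L ⧸ J.map f) (LinearMap.inl L _ _) (LinearMap.snd L _ _)
      LinearMap.inl_injective LinearMap.snd_surjective Function.Exact.inl_snd
    refine WithBot.coe_le_coe.2 (le_trans (le_min ((le_min dI dJ).trans hprod) ?_) hmain)
    calc (e : ℕ∞) = ((e - 1 : ℕ) : ℕ∞) + 1 := by
          conv_lhs => rw [← Nat.sub_add_cancel he, Nat.cast_add, Nat.cast_one]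
      _ ≤ _ := add_le_add dS le_rfl
  · have := CAlgH3.depth_le_supportDim (R := Localization.AtPrime q) (M := Localization.AtPrime q)
    rwa [Module.supportDim_self_eq_ringKrullDim] at this

end Groth.Agent.W4Gr15
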