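import Mathlib.RingTheory.GradedAlgebra.HomogeneousLocalization
import Mathlib.RingTheory.Ideal.UFD
import Mathlib.RingTheory.Algebraic.Basic
import Mathlib.RingTheory.Polynomial.UniqueFactorization
import Mathlib.RingTheory.GradedAlgebra.Basic

/-!
# The homogeneous localization at `s` and `R[1/s]`
-/

open HomogeneousLocalization Polynomial

namespace Groth.Agent.W4Gr15

variable {R : Type*} [CommRing R] [IsDomain R] {σ : Type*} [SetLike σ R] [AddSubgroupClass σ R]
  (𝒜 : ℕ → σ) [GradedRing 𝒜] {e : ℕ} {s : R}

lemma transcendental_away (he : 0 < e) (hs : s ∈ 𝒜 e) :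
    Transcendental (HomogeneousLocalization.Away 𝒜 s) (algebraMap R (Localization.Away s) s) := by
  classical
  rw [transcendental_iff]
  intro p hp
  by_cases hs0 : s = 0
  · haveI := HomogeneousLocalization.subsingleton 𝒜 (x := .powers s) ⟨1, by simp [hs0]⟩
    exact Subsingleton.elim _ _
  choose n a ha hmk using fun i => HomogeneousLocalization.Away.mk_surjective 𝒜 hs (p.coeff i)
  obtain ⟨N, hN⟩ := (p.support.image n).bddAbove
  have hle : ∀ i ∈ p.support, n i ≤ N := fun i hi => hN (Finset.mem_image_of_mem n hi)
  set ι := algebraMap R (Localization.Away s) with hι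
  have hιinj : Function.Injective ι :=
    IsLocalization.injective _ (powers_le_nonZeroDivisors_of_noZeroDivisors hs0)
  have hterm : ∀ i ∈ p.support,
      algebraMap (HomogeneousLocalization.Away 𝒜 s) (Localization.Away s) (p.coeff i) * ι s ^ N =
        ι (a i * s ^ (N - n i)) := by
    intro i hi
    rw [HomogeneousLocalization.algebraMap_apply, ← hmk i, HomogeneousLocalization.Away.val_mk,
      ← map_pow, Localization.mk_eq_mk']
    calc IsLocalization.mk' (Localization.Away s) (a i) (⟨s ^ n i, ⟨n i, rfl⟩⟩ : Submonoid.powers s) * ι (s ^ N)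
        = IsLocalization.mk' (Localization.Away s) (a i) (⟨s ^ n i, pow_mem (Submonoid.mem_powers s) _⟩ : Submonoid.powers s) * ι (s ^ n i) *
            ι (s ^ (N - n i)) := by
          rw [mul_assoc, ← map_mul, ← pow_add, Nat.add_sub_cancel' (hle i hi)]
      _ = _ := by
          rw [IsLocalization.mk'_spec (Localization.Away s) (a i) (⟨s ^ n i, ⟨n i, rfl⟩⟩ : Submonoid.powers s),
            ← map_mul]
  have hsum : ι (∑ i ∈ p.support, a i * s ^ (N - n i) * s ^ i) = ι 0 := by
    rw [map_zero, map_sum]
    have : (∑ i ∈ p.support, algebraMap (HomogeneousLocalization.Away 𝒜 s) (Localization.Away s)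
        (p.coeff i) * ι s ^ i) = 0 := by
      rw [← hp, aeval_eq_sum_range' (n := p.natDegree + 1) (Nat.lt_succ_self _)]
      rw [Finset.sum_subset (fun i hi => Finset.mem_range.2 (Nat.lt_succ_of_le (le_natDegree_of_mem_supp i hi)))
        (fun i _ hi => by rw [notMem_support_iff.1 hi, map_zero, zero_mul])]
      simp only [Algebra.smul_def]
    calc ∑ i ∈ p.support, ι (a i * s ^ (N - n i) * s ^ i)
        = (∑ i ∈ p.support, algebraMap (HomogeneousLocalization.Away 𝒜 s) (Localization.Away s)
            (p.coeff i) * ι s ^ i) * ι s ^ N := by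
          rw [Finset.sum_mul]
          refine Finset.sum_congr rfl fun i hi => ?_
          rw [map_mul, ← hterm i hi, map_pow]
          ring
      _ = 0 := by rw [this, zero_mul]
  have hzero := hιinj hsum
  have hdeg : ∀ i ∈ p.support, a i * s ^ (N - n i) * s ^ i ∈ 𝒜 ((N + i) * e) := by
    intro i hi
    have := SetLike.mul_mem_graded (SetLike.mul_mem_graded (ha i) (SetLike.pow_mem_graded (N - n i) hs))
      (SetLike.pow_mem_graded i hs)
    simp only [smul_eq_mul] at this
    rwa [← add_mul, ← add_mul, Nat.add_sub_cancel' (hle i hi)] at this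
  refine Polynomial.ext fun j => ?_
  rw [coeff_zero]
  by_contra hj
  have hj' : j ∈ p.support := mem_support_iff.2 hj
  have hproj := congrArg (fun x => ((DirectSum.decompose 𝒜 x) ((N + j) * e) : R)) hzero
  simp only [DirectSum.decompose_sum, DirectSum.decompose_zero, DirectSum.sum_apply,
    AddSubmonoidClass.coe_finset_sum, DirectSum.zero_apply, ZeroMemClass.coe_zero] at hproj
  rw [Finset.sum_eq_single j (fun i hi hij => DirectSum.decompose_of_mem_ne 𝒜 (hdeg i hi) (fun h => hij
      (Nat.add_left_cancel (Nat.eq_of_mul_eq_mul_right he h)))) (fun h => absurd hj' h),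
    DirectSum.decompose_of_mem_same 𝒜 (hdeg j hj'), mul_eq_zero, mul_eq_zero] at hproj
  rcases hproj with (h | h) | h
  · refine hj (HomogeneousLocalization.val_injective _ ?_)
    rw [← hmk j, HomogeneousLocalization.Away.val_mk, h, Localization.mk_zero, HomogeneousLocalization.val_zero]
  · exact pow_ne_zero _ hs0 h
  · exact pow_ne_zero _ hs0 h

lemma ufd_of_away [IsNoetherianRing R] (hs : s ∈ 𝒜 1) (hp : Prime s)
    [h : UniqueFactorizationMonoid (HomogeneousLocalization.Away 𝒜 s)] : UniqueFactorizationMonoid R := by
  classical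
  set A := HomogeneousLocalization.Away 𝒜 s
  set L := Localization.Away s
  haveI : IsDomain L := IsLocalization.Away.isDomain L hp.ne_zero
  haveI : IsDomain A := Function.Injective.isDomain (algebraMap A L)
    (HomogeneousLocalization.val_injective _)
  let φ : A[X] →+* L := (Polynomial.aeval (R := A) (algebraMap R L s)).toRingHom
  letI : Algebra A[X] L := φ.toAlgebra
  have hX : algebraMap A[X] L X = algebraMap R L s := by simp [φ, RingHom.algebraMap_toAlgebra]
  haveI : IsLocalization.Away (X : A[X]) L := by
    refine IsLocalization.Away.mk (X : A[X]) ?_ ?_ ?_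
    · rw [hX]
      exact IsLocalization.Away.algebraMap_isUnit s
    · intro z
      obtain ⟨n, r, hr⟩ := IsLocalization.Away.surj s z
      refine ⟨n, ∑ i ∈ (DirectSum.decompose 𝒜 r).support, Polynomial.C (HomogeneousLocalization.Away.mk 𝒜 hs i
        (DirectSum.decompose 𝒜 r i : R) (by simpa using SetLike.coe_mem (DirectSum.decompose 𝒜 r i))) * X ^ i, ?_⟩
      rw [hX, hr, map_sum]
      conv_lhs => rw [← DirectSum.sum_support_decompose 𝒜 r, map_sum]
      refine Finset.sum_congr rfl fun i _ => ?_
      rw [RingHom.algebraMap_toAlgebra, map_mul, map_pow]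
      simp only [φ, AlgHom.toRingHom_eq_coe, RingHom.coe_coe, aeval_C, aeval_X]
      rw [← map_pow]
      erw [HomogeneousLocalization.algebraMap_apply, HomogeneousLocalization.Away.val_mk, Localization.mk_eq_mk']
      exact (IsLocalization.mk'_spec L _ (⟨s ^ i, ⟨i, rfl⟩⟩ : Submonoid.powers s)).symm
    · intro a b hab
      refine ⟨0, ?_⟩
      have := (transcendental_iff_injective.1 (transcendental_away 𝒜 one_pos hs)) hab
      rw [this]
  haveI : UniqueFactorizationMonoid L := UniqueFactorizationMonoid.of_isLocalization (Submonoid.powers (X : A[X])) L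
  exact (UniqueFactorizationMonoid.iff_of_isLocalizationAway_of_prime hp L).2 this

end Groth.Agent.W4Gr15
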