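import Groth.Prelude.Def_W4bk4grassmannianPl
import Mathlib.RingTheory.MvPolynomial.MonomialOrder
import Mathlib.Data.Finsupp.MonomialOrder
import Mathlib.Data.Prod.Lex

/-!
# Leading terms of minors and of standard monomials

In the lexicographic order in which `x_{i t}` precedes `x_{i' t'}` when `(t, i) < (t', i')`, the leading
term of a minor is its diagonal product, and products along chains have distinct leading terms.
-/

universe u

open MvPolynomial W4bk4grassmannian
open scoped MonomialOrder

namespace Groth.Agent.W4Gr15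

variable {d n : ℕ}

/-- The diagonal term order on the entries of an `n × d` matrix. -/
noncomputable def ord (d n : ℕ) : MonomialOrder (Fin n × Fin d) where
  syn := Lex ((Fin d ×ₗ Fin n) →₀ ℕ)
  toSyn := (Finsupp.domCongr ((Equiv.prodComm (Fin n) (Fin d)).trans toLex)).trans
    { toEquiv := toLex, map_add' := fun _ _ => rfl }
  toSyn_monotone a b h := Finsupp.toLex_monotone (α := Fin d ×ₗ Fin n) fun x => h _

lemma ord_lt_iff {a b : Fin n × Fin d →₀ ℕ} :
    a ≺[ord d n] b ↔ ∃ (i : Fin n) (t : Fin d), a (i, t) < b (i, t) ∧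
      ∀ (j : Fin n) (s : Fin d), (s < t ∨ s = t ∧ j < i) → a (j, s) = b (j, s) := by
  constructor
  · rintro ⟨x, hx, hlt⟩
    obtain ⟨t, i⟩ := x
    refine ⟨i, t, hlt, fun j s h => hx (toLex (s, j)) ?_⟩
    exact Prod.Lex.toLex_lt_toLex.2 h
  · rintro ⟨i, t, hlt, h⟩
    refine ⟨toLex (t, i), fun x hx => ?_, hlt⟩
    obtain ⟨s, j⟩ := x
    exact h j s (Prod.Lex.toLex_lt_toLex.1 hx)

/-- The exponent of `∏_t x_{f t, t}`. -/
noncomputable def colExp (f : Fin d → Fin n) : Fin n × Fin d →₀ ℕ :=
  ∑ t, Finsupp.single (f t, t) 1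

lemma colExp_apply (f : Fin d → Fin n) (i : Fin n) (t : Fin d) :
    colExp f (i, t) = if f t = i then 1 else 0 := by
  rw [colExp, Finsupp.finsetSum_apply, Finset.sum_eq_single t]
  · simp [Finsupp.single_apply]
  · intro s _ hs; simp [hs]
  · simp

lemma colExp_perm_lt (θ : Idx d n) {σ : Equiv.Perm (Fin d)} (hσ : σ ≠ 1) :
    colExp (θ.1 ∘ σ) ≺[ord d n] colExp θ.1 := by
  have hne : (Finset.univ.filter fun t => σ t ≠ t).Nonempty := by
    by_contra h
    exact hσ (Equiv.ext fun t => by
      by_contra ht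
      exact h ⟨t, by simpa using ht⟩)
  set t := (Finset.univ.filter fun t => σ t ≠ t).min' hne
  have ht : σ t ≠ t := (Finset.mem_filter.1 (Finset.min'_mem _ hne)).2
  have hlow : ∀ s < t, σ s = s := fun s hs => by
    by_contra h
    exact absurd (Finset.min'_le _ s (by simpa using h)) (not_le.2 hs)
  have hgt : t < σ t := by
    rcases lt_trichotomy (σ t) t with h | h | h
    · exact absurd (σ.injective (hlow _ h)) ht
    · exact absurd h ht
    · exact h
  rw [ord_lt_iff]
  refine ⟨θ.1 t, t, ?_, fun j s h => ?_⟩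
  · rw [colExp_apply, colExp_apply, if_pos rfl, if_neg]
    · exact Nat.one_pos
    · exact (θ.2 hgt).ne'
  · rcases h with h | ⟨rfl, h⟩
    · rw [colExp_apply, colExp_apply, Function.comp_apply, hlow s h]
    · rw [colExp_apply, colExp_apply, if_neg, if_neg h.ne']
      exact (h.trans (θ.2 hgt)).ne'

/-- The exponent of the diagonal term of a product of minors. -/
noncomputable def tabExp {m : ℕ} (c : Fin m → Idx d n) : Fin n × Fin d →₀ ℕ :=
  ∑ k, colExp (c k).1

lemma tabExp_apply {m : ℕ} (c : Fin m → Idx d n) (i : Fin n) (t : Fin d) :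
    tabExp c (i, t) = (Finset.univ.filter fun k => (c k).1 t = i).card := by
  rw [tabExp, Finsupp.finsetSum_apply]
  simp [colExp_apply]

lemma sum_tabExp {m : ℕ} (c : Fin m → Idx d n) (t : Fin d) : ∑ i, tabExp c (i, t) = m := by
  simp_rw [tabExp_apply]
  rw [← Finset.card_eq_sum_card_fiberwise (fun k _ => Finset.mem_univ _), Finset.card_fin]

lemma le_iff_of_antitone {m : ℕ} {f : Fin m → Fin n} (hf : Antitone f) (k : Fin m) (i : ℕ) :
    i ≤ (f k).val ↔ k.val < (Finset.univ.filter fun l => i ≤ (f l).val).card := by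
  constructor
  · intro h
    calc k.val < (Finset.Iic k).card := by simp [Fin.card_Iic]
      _ ≤ _ := Finset.card_le_card fun l hl => by
        simp only [Finset.mem_Iic] at hl
        simpa using h.trans (hf hl)
  · intro h
    by_contra hk
    have : (Finset.univ.filter fun l => i ≤ (f l).val) ⊆ Finset.Iio k := fun l hl => by
      simp only [Finset.mem_filter, Finset.mem_univ, true_and] at hl
      rw [Finset.mem_Iio]
      by_contra hlk
      exact hk (hl.trans (hf (not_lt.1 hlk)))
    have := Finset.card_le_card this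
    rw [Fin.card_Iio] at this
    omega

lemma eq_of_antitone_of_card {m : ℕ} {f g : Fin m → Fin n} (hf : Antitone f) (hg : Antitone g)
    (h : ∀ i, (Finset.univ.filter fun l => f l = i).card = (Finset.univ.filter fun l => g l = i).card) :
    f = g := by
  classical
  have key : ∀ i : ℕ, (Finset.univ.filter fun l => i ≤ (f l).val).card =
      (Finset.univ.filter fun l => i ≤ (g l).val).card := by
    intro i
    rw [Finset.card_eq_sum_card_fiberwise (f := f) (t := Finset.univ) (fun _ _ => Finset.mem_univ _),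
      Finset.card_eq_sum_card_fiberwise (f := g) (t := Finset.univ) (fun _ _ => Finset.mem_univ _)]
    refine Finset.sum_congr rfl fun v _ => ?_
    by_cases hv : i ≤ v.val
    · rw [Finset.filter_filter, Finset.filter_filter]
      convert h v using 3 <;> grind
    · rw [Finset.filter_filter, Finset.filter_filter, Finset.card_eq_zero.2, Finset.card_eq_zero.2] <;>
        (rw [Finset.filter_eq_empty_iff]; rintro l _ ⟨h1, h2⟩; exact hv (h2 ▸ h1))
  funext k
  refine Fin.ext (le_antisymm ?_ ?_)
  · exact (le_iff_of_antitone hg k _).2 (key _ ▸ (le_iff_of_antitone hf k _).1 le_rfl)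
  · exact (le_iff_of_antitone hf k _).2 ((key _).symm ▸ (le_iff_of_antitone hg k _).1 le_rfl)

lemma antitone_entry {m : ℕ} {c : Fin m → Idx d n} (hc : Antitone c) (t : Fin d) :
    Antitone fun k => (c k).1 t := fun _ _ h => hc h t

/-- Chains are determined by their diagonal exponent. -/
lemma tabExp_inj (hd : 0 < d) {m m' : ℕ} {c : Fin m → Idx d n} {c' : Fin m' → Idx d n}
    (hc : Antitone c) (hc' : Antitone c') (h : tabExp c = tabExp c') :
    ∃ e : m = m', c = c' ∘ Fin.cast e := by
  have e : m = m' := by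
    rw [← sum_tabExp c ⟨0, hd⟩, ← sum_tabExp c' ⟨0, hd⟩, h]
  subst e
  refine ⟨rfl, funext fun k => Subtype.ext (funext fun t => ?_)⟩
  have := eq_of_antitone_of_card (antitone_entry hc t) (antitone_entry hc' t) fun i => by
    rw [← tabExp_apply, ← tabExp_apply, h]
  exact congrFun this k

/-- The number of entries `< i` in column `t`. -/
noncomputable def cum (a : Fin n × Fin d →₀ ℕ) (t : Fin d) (i : ℕ) : ℕ :=
  ∑ x ∈ Finset.univ.filter (fun x : Fin n => x.val < i), a (x, t)

lemma cum_add (a b : Fin n × Fin d →₀ ℕ) (t : Fin d) (i : ℕ) :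
    cum (a + b) t i = cum a t i + cum b t i := by
  simp [cum, Finset.sum_add_distrib]

lemma cum_mono (a : Fin n × Fin d →₀ ℕ) (t : Fin d) : Monotone (cum a t) := fun i j h =>
  Finset.sum_le_sum_of_subset fun x hx => by
    simp only [Finset.mem_filter, Finset.mem_univ, true_and] at hx ⊢
    omega

lemma cum_succ (a : Fin n × Fin d →₀ ℕ) (t : Fin d) (i : Fin n) :
    cum a t (i.val + 1) = cum a t i.val + a (i, t) := by
  rw [cum, cum, show (Finset.univ.filter fun x : Fin n => x.val < i.val + 1) =
    insert i (Finset.univ.filter fun x : Fin n => x.val < i.val) by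
      ext x; simp [Fin.ext_iff]; omega, Finset.sum_insert (by simp), add_comm]

lemma cum_top (a : Fin n × Fin d →₀ ℕ) (t : Fin d) : cum a t n = ∑ i, a (i, t) := by
  rw [cum, Finset.filter_true_of_mem fun x _ => x.isLt]

/-- The band of positions `(i, t)` with `lo_t ≤ i ≤ hi_t`. -/
def InBand (lo hi : Idx d n) (p : Fin n × Fin d) : Prop := lo.1 p.2 ≤ p.1 ∧ p.1 ≤ hi.1 p.2

instance (lo hi : Idx d n) (p : Fin n × Fin d) : Decidable (InBand lo hi p) :=
  inferInstanceAs (Decidable (_ ∧ _))

/-- Exponents of diagonal terms of chains of length `m` between `lo` and `hi`. -/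
structure IsTab (lo hi : Idx d n) (m : ℕ) (a : Fin n × Fin d →₀ ℕ) : Prop where
  sum_eq : ∀ t, ∑ i, a (i, t) = m
  band : ∀ p, a p ≠ 0 → InBand lo hi p
  interlace : ∀ t t' : Fin d, t.val + 1 = t'.val → ∀ i, cum a t' (i + 1) ≤ cum a t i

lemma cum_tabExp {m : ℕ} (c : Fin m → Idx d n) (t : Fin d) (i : ℕ) :
    cum (tabExp c) t i = (Finset.univ.filter fun k => ((c k).1 t).val < i).card := by
  simp_rw [cum, tabExp_apply]
  rw [Finset.card_eq_sum_card_fiberwise (f := fun k => (c k).1 t)
    (t := Finset.univ.filter fun x : Fin n => x.val < i) (fun k hk => by simpa using hk)]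
  refine Finset.sum_congr rfl fun x hx => ?_
  simp only [Finset.mem_filter, Finset.mem_univ, true_and] at hx
  rw [Finset.filter_filter]
  congr 1
  ext k
  simp only [Finset.mem_filter, Finset.mem_univ, true_and]
  exact ⟨fun h => ⟨h ▸ hx, h⟩, And.right⟩

lemma isTab_tabExp {lo hi : Idx d n} {m : ℕ} (c : Fin m → Idx d n)
    (hb : ∀ k, lo ≤ c k ∧ c k ≤ hi) : IsTab lo hi m (tabExp c) where
  sum_eq := sum_tabExp c
  band := fun ⟨i, t⟩ h => by
    rw [tabExp_apply] at h
    obtain ⟨k, hk⟩ := Finset.card_ne_zero.1 h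
    simp only [Finset.mem_filter] at hk
    exact hk.2 ▸ ⟨(hb k).1 t, (hb k).2 t⟩
  interlace := fun t t' h i => by
    rw [cum_tabExp, cum_tabExp]
    refine Finset.card_le_card fun k hk => ?_
    simp only [Finset.mem_filter, Finset.mem_univ, true_and] at hk ⊢
    have : ((c k).1 t).val < ((c k).1 t').val := (c k).2 (by rw [Fin.lt_def]; omega)
    omega

lemma IsTab.exists_chain {lo hi : Idx d n} {m : ℕ} {a : Fin n × Fin d →₀ ℕ} (ha : IsTab lo hi m a) :
    ∃ c : Fin m → Idx d n, Antitone c ∧ (∀ k, lo ≤ c k ∧ c k ≤ hi) ∧ tabExp c = a := by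
  classical
  have hex : ∀ (t : Fin d) (k : Fin m), ∃ i : ℕ, k.val < cum a t (i + 1) := fun t k =>
    ⟨n, k.isLt.trans_le <| by
      rw [← ha.sum_eq t, ← cum_top]
      exact cum_mono a t (Nat.le_succ n)⟩
  let s : Fin d → Fin m → ℕ := fun t k => Nat.find (hex t k)
  have hs : ∀ t k i, s t k < i ↔ k.val < cum a t i := by
    intro t k i
    constructor
    · intro h
      exact (Nat.find_spec (hex t k)).trans_le (cum_mono a t h)
    · intro h
      match i with
      | 0 => simp [cum] at h
      | i + 1 => exact Nat.lt_succ_of_le (Nat.find_min' (hex t k) h)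
  have hsn : ∀ t k, s t k < n := fun t k => (hs t k n).2 <| by rw [cum_top, ha.sum_eq]; exact k.isLt
  have hpos : ∀ t k, a (⟨s t k, hsn t k⟩, t) ≠ 0 := fun t k h0 => by
    have h1 := (hs t k (s t k + 1)).1 (Nat.lt_succ_self _)
    have h2 := cum_succ a t ⟨s t k, hsn t k⟩
    simp only [] at h2
    rw [h2, h0, add_zero] at h1
    exact (lt_irrefl _) ((hs t k (s t k)).2 h1)
  have hstep : ∀ t t' : Fin d, t.val + 1 = t'.val → ∀ k, s t k < s t' k := by
    intro t t' h k
    by_contra hle
    have h1 := (hs t' k (s t k + 1)).1 (by omega)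
    exact (lt_irrefl _) ((hs t k (s t k)).2 (h1.trans_le (ha.interlace t t' h _)))
  have hmono : ∀ k, StrictMono fun t => (⟨s t k, hsn t k⟩ : Fin n) := by
    intro k
    cases d with
    | zero => exact fun t => t.elim0
    | succ d =>
      rw [Fin.strictMono_iff_lt_succ]
      intro t
      exact hstep t.castSucc t.succ (by simp) k
  let c : Fin m → Idx d n := fun k => ⟨_, hmono k.rev⟩
  refine ⟨c, fun k l h t => ?_, fun k => ⟨fun t => ?_, fun t => ?_⟩, ?_⟩
  · change s t l.rev ≤ s t k.rev
    by_contra hlt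
    have h1 := (hs t k.rev (s t k.rev + 1)).1 (Nat.lt_succ_self _)
    have h2 : l.rev.val ≤ k.rev.val := Fin.rev_le_rev.2 h
    have := (hs t l.rev (s t k.rev + 1)).2 (h2.trans_lt h1)
    omega
  · exact (ha.band _ (hpos t k.rev)).1
  · exact (ha.band _ (hpos t k.rev)).2
  · have hc : ∀ t i, i ≤ n → cum (tabExp c) t i = cum a t i := by
      intro t i hi
      rw [cum_tabExp]
      have hle : cum a t i ≤ m := by rw [← ha.sum_eq t, ← cum_top]; exact cum_mono a t hi
      rw [show (Finset.univ.filter fun k => ((c k).1 t).val < i) =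
          (Finset.univ.filter fun k : Fin m => k.val < cum a t i).map Fin.revPerm.toEmbedding by
        ext k
        simp only [Finset.mem_filter, Finset.mem_univ, true_and, Finset.mem_map,
          Equiv.coe_toEmbedding, Fin.revPerm_apply]
        constructor
        · exact fun h => ⟨k.rev, (hs t _ i).1 h, Fin.rev_rev k⟩
        · rintro ⟨l, hl, rfl⟩
          change s t l.rev.rev < i
          rw [Fin.rev_rev]
          exact (hs t l i).2 hl]
      rw [Finset.card_map]
      rw [show (Finset.univ.filter fun k : Fin m => k.val < cum a t i) =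
          (Finset.univ.map ⟨fun k : Fin (cum a t i) => (⟨k.val, k.isLt.trans_le hle⟩ : Fin m),
            fun x y h => Fin.ext (by simpa using h)⟩) by
        ext k
        simp only [Finset.mem_filter, Finset.mem_univ, true_and, Finset.mem_map,
          Function.Embedding.coeFn_mk]
        exact ⟨fun h => ⟨⟨k.val, h⟩, rfl⟩, fun ⟨l, hl⟩ => hl ▸ l.isLt⟩]
      simp
    ext ⟨i, t⟩
    have h1 := cum_succ (tabExp c) t i
    rw [hc t _ i.isLt, hc t _ i.isLt.le, cum_succ] at h1
    omega

variable (K : Type u) [CommRing K]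

/-- Restriction to the matrices supported in the band. -/
noncomputable def kill (lo hi : Idx d n) : MatRing K d n →ₐ[K] MatRing K d n :=
  MvPolynomial.aeval fun p => if InBand lo hi p then X p else 0

lemma kill_kill (lo hi : Idx d n) (f : MatRing K d n) : kill K lo hi (kill K lo hi f) = kill K lo hi f := by
  rw [← AlgHom.comp_apply]
  congr 1
  refine MvPolynomial.algHom_ext fun p => ?_
  by_cases h : InBand lo hi p <;> simp [kill, h]

/-- The Plücker coordinate restricted to the band. -/
noncomputable def bandMinor (lo hi θ : Idx d n) : MatRing K d n := kill K lo hi (minor K d n θ.1)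

lemma bandMinor_eq (lo hi θ : Idx d n) :
    bandMinor K lo hi θ = ∑ σ : Equiv.Perm (Fin d), if ∀ t, InBand lo hi (θ.1 (σ t), t)
      then monomial (colExp (θ.1 ∘ σ)) ((Equiv.Perm.sign σ : ℤ) : K) else 0 := by
  rw [bandMinor, minor, Matrix.det_apply', map_sum]
  refine Finset.sum_congr rfl fun σ _ => ?_
  simp only [map_mul, map_intCast, map_prod, Matrix.of_apply, kill, aeval_X]
  split_ifs with h
  · rw [colExp, MvPolynomial.monomial_sum_index, ← map_intCast (C : K →+* MatRing K d n)]
    congr 1
    exact Finset.prod_congr rfl fun t _ => by rw [if_pos (h t)]; rfl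
  · obtain ⟨t, ht⟩ := not_forall.1 h
    rw [Finset.prod_eq_zero (Finset.mem_univ t) (if_neg ht), mul_zero]

lemma exists_le_perm (σ : Equiv.Perm (Fin d)) (t : Fin d) : ∃ s ≤ t, t ≤ σ s := by
  by_contra h
  push_neg at h
  have : (Finset.Iic t).image σ ⊆ Finset.Iio t := by
    intro x hx
    obtain ⟨s, hs, rfl⟩ := Finset.mem_image.1 hx
    exact Finset.mem_Iio.2 (h s (Finset.mem_Iic.1 hs))
  have := Finset.card_le_card this
  rw [Finset.card_image_of_injective _ σ.injective, Fin.card_Iic, Fin.card_Iio] at this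
  omega

lemma bandMinor_eq_zero {lo hi θ : Idx d n} (h : ¬ (lo ≤ θ ∧ θ ≤ hi)) :
    bandMinor K lo hi θ = 0 := by
  rw [bandMinor_eq]
  refine Finset.sum_eq_zero fun σ _ => if_neg fun hσ => h ⟨fun t => ?_, fun t => ?_⟩
  · obtain ⟨s, hs, hst⟩ := exists_le_perm σ.symm t
    have := (hσ (σ.symm s)).1
    simp only [Equiv.apply_symm_apply] at this
    exact (lo.2.monotone hst).trans (this.trans (θ.2.monotone hs))
  · obtain ⟨s, hs, hst⟩ := exists_le_perm σ t
    exact (θ.2.monotone hst).trans ((hσ s).2.trans (hi.2.monotone hs))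

lemma coeff_bandMinor {lo hi θ : Idx d n} (h : lo ≤ θ ∧ θ ≤ hi) :
    coeff (colExp θ.1) (bandMinor K lo hi θ) = 1 := by
  classical
  rw [bandMinor_eq, coeff_sum, Finset.sum_eq_single (1 : Equiv.Perm (Fin d))]
  · rw [if_pos fun t => ⟨h.1 t, h.2 t⟩]
    simp
  · intro σ _ hσ
    split_ifs
    · rw [coeff_monomial, if_neg]
      exact fun he => (colExp_perm_lt θ hσ).ne (congrArg (ord d n).toSyn he)
    · simp
  · simp

lemma degree_bandMinor [Nontrivial K] {lo hi θ : Idx d n} (h : lo ≤ θ ∧ θ ≤ hi) :
    (ord d n).degree (bandMinor K lo hi θ) = colExp θ.1 ∧ (ord d n).Monic (bandMinor K lo hi θ) := by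
  classical
  have hc := coeff_bandMinor K h
  have hle : (ord d n).toSyn ((ord d n).degree (bandMinor K lo hi θ)) ≤
      (ord d n).toSyn (colExp θ.1) := by
    rw [MonomialOrder.degree_le_iff]
    intro b hb
    rw [bandMinor_eq] at hb
    obtain ⟨σ, -, hσ⟩ := Finset.mem_biUnion.1 (MvPolynomial.support_sum hb)
    split_ifs at hσ
    · rw [Finset.mem_singleton.1 (MvPolynomial.support_monomial_subset hσ)]
      by_cases h1 : σ = 1
      · subst h1; exact le_rfl
      · exact (colExp_perm_lt θ h1).le
    · simp at hσ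
  have hd : (ord d n).degree (bandMinor K lo hi θ) = colExp θ.1 :=
    (ord d n).toSyn.injective <| le_antisymm hle <|
      (ord d n).le_degree (by rw [MvPolynomial.mem_support_iff, hc]; exact one_ne_zero)
  exact ⟨hd, by rw [MonomialOrder.Monic, MonomialOrder.leadingCoeff, hd, hc]⟩

/-- The product of band minors along a tuple. -/
noncomputable def bandProd (lo hi : Idx d n) {m : ℕ} (c : Fin m → Idx d n) : MatRing K d n :=
  ∏ k, bandMinor K lo hi (c k)

lemma degree_bandProd [Nontrivial K] {lo hi : Idx d n} {m : ℕ} {c : Fin m → Idx d n}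
    (h : ∀ k, lo ≤ c k ∧ c k ≤ hi) :
    (ord d n).degree (bandProd K lo hi c) = tabExp c ∧ (ord d n).Monic (bandProd K lo hi c) := by
  refine ⟨?_, MonomialOrder.Monic.prod fun k _ => (degree_bandMinor K (h k)).2⟩
  rw [bandProd, MonomialOrder.degree_prod_of_regular fun k _ => ?_, tabExp]
  · exact Finset.sum_congr rfl fun k _ => (degree_bandMinor K (h k)).1
  · rw [(degree_bandMinor K (h k)).2.leadingCoeff_eq_one]
    exact isRegular_one

/-- Indices of standard monomials between `lo` and `hi`. -/
abbrev Std (lo hi : Idx d n) : Type :=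
  Σ m : ℕ, {c : Fin m → Idx d n // Antitone c ∧ ∀ k, lo ≤ c k ∧ c k ≤ hi}

lemma std_tabExp_injective (hd : 0 < d) {lo hi : Idx d n} :
    Function.Injective fun c : Std lo hi => tabExp c.2.1 := by
  rintro ⟨m, c, hc⟩ ⟨m', c', hc'⟩ h
  obtain ⟨e, he⟩ := tabExp_inj hd hc.1 hc'.1 h
  subst e
  have : c = c' := he
  subst this
  rfl

variable {K}

/-- A nonzero combination of standard products has the leading term of one of them. -/
lemma leading_comb [Nontrivial K] (hd : 0 < d) {lo hi : Idx d n} (v : Std lo hi →₀ K) (hv : v ≠ 0) :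
    ∃ c₀ ∈ v.support,
      (ord d n).degree (v.sum fun c a => a • bandProd K lo hi c.2.1) = tabExp c₀.2.1 ∧
      (ord d n).leadingCoeff (v.sum fun c a => a • bandProd K lo hi c.2.1) = v c₀ ∧
      ∀ c ∈ v.support, (ord d n).toSyn (tabExp c.2.1) ≤ (ord d n).toSyn (tabExp c₀.2.1) := by
  classical
  obtain ⟨c₀, hc₀, hmax⟩ := v.support.exists_max_image (fun c => (ord d n).toSyn (tabExp c.2.1))
    (Finsupp.support_nonempty_iff.2 hv)
  have hdeg : ∀ c : Std lo hi, (ord d n).degree (bandProd K lo hi c.2.1) = tabExp c.2.1 ∧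
      (ord d n).Monic (bandProd K lo hi c.2.1) := fun c => degree_bandProd K c.2.2.2
  set p := v.sum fun c a => a • bandProd K lo hi c.2.1
  have hcoeff : coeff (tabExp c₀.2.1) p = v c₀ := by
    simp only [p, Finsupp.sum]
    rw [coeff_sum, Finset.sum_eq_single c₀]
    · rw [coeff_smul, ← (hdeg c₀).1, (hdeg c₀).2.coeff_degree, smul_eq_mul, mul_one]
    · intro c hc hne
      rw [coeff_smul, (ord d n).coeff_eq_zero_of_lt, smul_zero]
      rw [(hdeg c).1]
      exact lt_of_le_of_ne (hmax c hc) fun he =>
        hne (std_tabExp_injective hd ((ord d n).toSyn.injective he))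
    · exact fun h => absurd hc₀ h
  have hle : (ord d n).toSyn ((ord d n).degree p) ≤ (ord d n).toSyn (tabExp c₀.2.1) := by
    refine (MonomialOrder.degree_sum_le).trans (Finset.sup_le fun c hc => ?_)
    exact ((ord d n).degree_smul_le.trans_eq (by rw [(hdeg c).1])).trans (hmax c hc)
  have heq : (ord d n).degree p = tabExp c₀.2.1 :=
    (ord d n).toSyn.injective <| le_antisymm hle <| (ord d n).le_degree <| by
      rw [MvPolynomial.mem_support_iff, hcoeff]; exact Finsupp.mem_support_iff.1 hc₀
  exact ⟨c₀, hc₀, heq, by rw [MonomialOrder.leadingCoeff, heq, hcoeff], hmax⟩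

/-- Standard products between `lo` and `hi` are linearly independent on the band. -/
theorem linearIndependent_bandProd [Nontrivial K] (hd : 0 < d) (lo hi : Idx d n) :
    LinearIndependent K fun c : Std lo hi => bandProd K lo hi c.2.1 := by
  rw [linearIndependent_iff]
  intro v hv
  by_contra h
  obtain ⟨c₀, hc₀, -, hlc, -⟩ := leading_comb hd v h
  rw [Finsupp.linearCombination_apply] at hv
  rw [hv, MonomialOrder.leadingCoeff_zero] at hlc
  exact Finsupp.mem_support_iff.1 hc₀ hlc.symm

end Groth.Agent.W4Gr15
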