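import Groth.Agent.W4Gr15.Straighten
import Groth.Agent.W4Gr15.Order
import Mathlib.Algebra.MvPolynomial.Funext
import Mathlib.Algebra.MvPolynomial.Nilpotent
import Mathlib.LinearAlgebra.Finsupp.LinearCombination

/-!
# Standard monomial bases of Schubert varieties and their opposite counterparts

For `lo, hi` the kernel of `X θ ↦ (minor θ restricted to the band of lo, hi)` is generated by the shuffle
relations and the variables outside `[lo, hi]`; chains in `[lo, hi]` give a basis of the quotient.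
-/

universe u

open MvPolynomial W4bk4grassmannian

namespace Groth.Agent.W4Gr15

variable {d n : ℕ}

lemma idx_le_of_nonempty (a : Idx d n) : d ≤ n := by
  simpa using Fintype.card_le_of_injective a.1 a.2.injective

lemma val_le_idx (a : Idx d n) (t : Fin d) : t.val ≤ (a.1 t).val := by
  have h := Finset.card_le_card (s := (Finset.Iio t).image a.1) (t := Finset.Iio (a.1 t)) fun x hx => by
    obtain ⟨s, hs, rfl⟩ := Finset.mem_image.1 hx
    exact Finset.mem_Iio.2 (a.2 (Finset.mem_Iio.1 hs))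
  rwa [Finset.card_image_of_injective _ a.2.injective, Fin.card_Iio, Fin.card_Iio] at h

lemma idx_add_le (a : Idx d n) (t : Fin d) : (a.1 t).val + d ≤ n + t.val := by
  have h := Finset.card_le_card (s := (Finset.Ici t).image a.1) (t := Finset.Ici (a.1 t)) fun x hx => by
    obtain ⟨s, hs, rfl⟩ := Finset.mem_image.1 hx
    exact Finset.mem_Ici.2 (a.2.monotone (Finset.mem_Ici.1 hs))
  rw [Finset.card_image_of_injective _ a.2.injective, Fin.card_Ici, Fin.card_Ici] at h
  omega

/-- The least index. -/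
def idxBot (h : d ≤ n) : Idx d n := ⟨fun t => ⟨t.val, by omega⟩, fun _ _ h => h⟩

/-- The greatest index. -/
def idxTop (h : d ≤ n) : Idx d n :=
  ⟨fun t => ⟨n - d + t.val, by omega⟩, fun _ _ h => Fin.lt_def.2 (by simpa using h)⟩

lemma idxBot_le (h : d ≤ n) (a : Idx d n) : idxBot h ≤ a := fun t => Fin.le_def.2 (val_le_idx a t)

lemma le_idxTop (h : d ≤ n) (a : Idx d n) : a ≤ idxTop h := fun t =>
  Fin.le_def.2 (by have := idx_add_le a t; simp only [idxTop]; omega)

/-- Chains inside `[lo, hi]`. -/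
def InB (lo hi : Idx d n) (e : Chain d n) : Prop := ∀ k, lo ≤ e.2.1 k ∧ e.2.1 k ≤ hi

variable (K : Type u) [CommRing K]

/-- The map `X θ ↦` the band minor. -/
noncomputable def psi (lo hi : Idx d n) : PlRing K d n →ₐ[K] MatRing K d n :=
  MvPolynomial.aeval (bandMinor K lo hi)

@[simp] lemma psi_X (lo hi θ : Idx d n) : psi K lo hi (X θ) = bandMinor K lo hi θ := aeval_X _ _

/-- Shuffle relations and the variables outside `[lo, hi]`. -/
noncomputable def bandIdeal (lo hi : Idx d n) : Ideal (PlRing K d n) :=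
  plIdealTop K ⊔ Ideal.span {f | ∃ φ : Idx d n, ¬ (lo ≤ φ ∧ φ ≤ hi) ∧ f = X φ}

lemma X_mem_bandIdeal {lo hi φ : Idx d n} (h : ¬ (lo ≤ φ ∧ φ ≤ hi)) : X φ ∈ bandIdeal K lo hi :=
  Ideal.mem_sup_right (Ideal.subset_span ⟨φ, h, rfl⟩)

lemma plIdealTop_le_bandIdeal (lo hi : Idx d n) : plIdealTop K ≤ bandIdeal K lo hi := le_sup_left

lemma bandMinor_eq_det (lo hi θ : Idx d n) :
    bandMinor K lo hi θ = (Matrix.of fun s t => kill K lo hi (X (θ.1 s, t))).det := by
  rw [bandMinor, minor, AlgHom.map_det]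
  rfl

lemma psi_shuffleRel (lo hi i j : Idx d n) (r : Fin d) : psi K lo hi (shuffleRel K i j r) = 0 := by
  rw [psi, show bandMinor K lo hi = fun θ => (Matrix.of fun s t => kill K lo hi (X (θ.1 s, t))).det
    from funext (bandMinor_eq_det K lo hi)]
  exact aeval_shuffleRel K (fun i t => kill K lo hi (X (i, t))) i j r

lemma bandIdeal_le_ker (lo hi : Idx d n) : bandIdeal K lo hi ≤ RingHom.ker (psi K lo hi) := by
  refine sup_le (Ideal.span_le.2 ?_) (Ideal.span_le.2 ?_)
  · rintro _ ⟨i, j, r, -, rfl⟩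
    exact psi_shuffleRel K lo hi i j r
  · rintro _ ⟨φ, hφ, rfl⟩
    exact (psi_X K lo hi φ).trans (bandMinor_eq_zero K hφ)

/-- A combination of standard monomials. -/
noncomputable def comb : (Chain d n →₀ K) →ₗ[K] PlRing K d n := Finsupp.linearCombination K (mon K)

lemma comb_single (e : Chain d n) (a : K) : comb K (Finsupp.single e a) = a • mon K e :=
  Finsupp.linearCombination_single K a e

/-- Every polynomial is a combination of standard monomials modulo the shuffle relations. -/
lemma exists_comb (f : PlRing K d n) : ∃ v, f - comb K v ∈ plIdealTop (d := d) (n := n) K := by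
  have h : Ideal.Quotient.mk (plIdealTop (d := d) (n := n) K) f ∈ Submodule.span K (Set.range fun e =>
      Ideal.Quotient.mk (plIdealTop (d := d) (n := n) K) (mon K e)) := by
    rw [span_chains]; exact Submodule.mem_top
  rw [Finsupp.mem_span_range_iff_exists_finsupp] at h
  obtain ⟨v, hv⟩ := h
  refine ⟨v, ?_⟩
  rw [← Ideal.Quotient.mk_eq_mk_iff_sub_mem, ← hv, comb, Finsupp.linearCombination_apply]
  change _ = Ideal.Quotient.mkₐ K _ _
  rw [map_finsuppSum]
  exact Finsupp.sum_congr fun e _ => (map_smul (Ideal.Quotient.mkₐ K _) _ _).symm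

lemma psi_mon (lo hi : Idx d n) (e : Chain d n) : psi K lo hi (mon K e) = bandProd K lo hi e.2.1 := by
  simp [mon, chainMon, bandProd, map_prod]

lemma mon_mem_of_exists {lo hi : Idx d n} {e : Chain d n} {k : Fin e.1}
    (h : ¬ (lo ≤ e.2.1 k ∧ e.2.1 k ≤ hi)) : mon K e ∈ bandIdeal K lo hi := by
  rw [mon, chainMon, ← Finset.mul_prod_erase _ _ (Finset.mem_univ k)]
  exact Ideal.mul_mem_right _ _ (X_mem_bandIdeal K h)

lemma mon_mem_bandIdeal {lo hi : Idx d n} {e : Chain d n} (h : ¬ InB lo hi e) :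
    mon K e ∈ bandIdeal K lo hi := by
  obtain ⟨k, hk⟩ := not_forall.1 h
  exact mon_mem_of_exists K hk

lemma comb_mem {I : Ideal (PlRing K d n)} {v : Chain d n →₀ K}
    (h : ∀ e, v e ≠ 0 → mon K e ∈ I) : comb K v ∈ I := by
  rw [comb, Finsupp.linearCombination_apply]
  exact I.sum_mem fun e he => I.smul_of_tower_mem _ (h e (Finsupp.mem_support_iff.1 he))

variable {K}

lemma comb_mem_bandIdeal {lo hi : Idx d n} {v : Chain d n →₀ K}
    (h : ∀ e, InB lo hi e → v e = 0) : comb K v ∈ bandIdeal K lo hi :=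
  comb_mem K fun e he => mon_mem_bandIdeal K fun hb => he (h e hb)

lemma eq_zero_of_psi_comb [Nontrivial K] (hd : 0 < d) {lo hi : Idx d n} {v : Chain d n →₀ K}
    (h : psi K lo hi (comb K v) = 0) {e : Chain d n} (he : InB lo hi e) : v e = 0 := by
  classical
  let g : {e : Chain d n // InB lo hi e} → Std lo hi :=
    fun e => ⟨e.1.1, e.1.2.1, e.1.2.2, e.2⟩
  have hg : Function.Injective g := by
    rintro ⟨⟨m, c, hc⟩, h1⟩ ⟨⟨m', c', hc'⟩, h2⟩ h
    obtain ⟨rfl, h'⟩ := Sigma.mk.inj h
    simp only [heq_eq_eq, Subtype.mk.injEq] at h'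
    subst h'
    rfl
  have hli := (linearIndependent_bandProd (K := K) hd lo hi).comp g hg
  rw [linearIndependent_iff'] at hli
  by_contra hne
  refine hne (hli (v.support.subtype (InB lo hi)) (fun e => v e.1) ?_ ⟨e, he⟩
    (Finset.mem_subtype.2 (Finsupp.mem_support_iff.2 hne)))
  rw [comb, Finsupp.linearCombination_apply, map_finsuppSum, Finsupp.sum] at h
  refine Eq.trans ?_ h
  simp only [Function.comp_apply, g]
  rw [Finset.sum_subtype_eq_sum_filter (fun e => v e • bandProd K lo hi e.2.1)]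
  refine Eq.trans ?_ (Finset.sum_congr rfl fun e _ => by rw [map_smul, psi_mon])
  refine Finset.sum_filter_of_ne fun x _ hx k => ?_
  by_contra hk
  exact hx (by rw [bandProd, Finset.prod_eq_zero (Finset.mem_univ k) (bandMinor_eq_zero K hk),
    smul_zero])

lemma mem_bandIdeal_iff [Nontrivial K] (hd : 0 < d) {lo hi : Idx d n} {f : PlRing K d n}
    {v : Chain d n →₀ K} (h : f - comb K v ∈ plIdealTop (d := d) (n := n) K) :
    f ∈ bandIdeal K lo hi ↔ ∀ e, InB lo hi e → v e = 0 := by
  have h' : f - comb K v ∈ bandIdeal K lo hi := plIdealTop_le_bandIdeal K lo hi h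
  constructor
  · intro hf e he
    refine eq_zero_of_psi_comb hd (bandIdeal_le_ker K lo hi ?_) he
    simpa using (bandIdeal K lo hi).sub_mem hf h'
  · intro hv
    simpa using (bandIdeal K lo hi).add_mem h' (comb_mem_bandIdeal hv)

lemma ker_psi [Nontrivial K] (hd : 0 < d) (lo hi : Idx d n) :
    RingHom.ker (psi K lo hi) = bandIdeal K lo hi := by
  refine le_antisymm (fun f hf => ?_) (bandIdeal_le_ker K lo hi)
  obtain ⟨v, hv⟩ := exists_comb K f
  refine (mem_bandIdeal_iff hd hv).2 fun e he => eq_zero_of_psi_comb hd ?_ he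
  have h' := bandIdeal_le_ker K lo hi (plIdealTop_le_bandIdeal K lo hi hv)
  rw [RingHom.mem_ker] at hf h'
  rw [map_sub, hf, zero_sub, neg_eq_zero] at h'
  exact h'

lemma bandIdeal_isPrime [IsDomain K] (hd : 0 < d) (lo hi : Idx d n) :
    (bandIdeal K lo hi).IsPrime := by
  rw [← ker_psi hd]
  exact RingHom.ker_isPrime _

lemma plIdeal_eq_bandIdeal (h : d ≤ n) (τ : Idx d n) :
    plIdeal K τ = bandIdeal K (idxBot h) τ := by
  simp [plIdeal, bandIdeal, plIdealTop, Ideal.span_union, idxBot_le]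

lemma bandIdeal_bot_top (h : d ≤ n) :
    bandIdeal K (idxBot h) (idxTop h) = plIdealTop (d := d) (n := n) K := by
  refine le_antisymm (sup_le le_rfl (Ideal.span_le.2 ?_)) le_sup_left
  rintro _ ⟨φ, hφ, rfl⟩
  exact absurd ⟨idxBot_le h φ, le_idxTop h φ⟩ hφ

section vanishing

variable {F : Type u} [Field F]

lemma evalMinors_shuffleRel (A : Matrix (Fin n) (Fin d) F) (i j : Idx d n) (r : Fin d) :
    evalMinors F d n A (shuffleRel F i j r) = 0 :=
  aeval_shuffleRel F (fun i t => A i t) i j r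

lemma plIdeal_le_schubertVanishing (τ : Idx d n) : plIdeal F τ ≤ schubertVanishing F d n τ := by
  refine Ideal.span_le.2 ?_
  rintro _ (⟨i, j, r, -, rfl⟩ | ⟨φ, hφ, rfl⟩) <;>
    simp only [SetLike.mem_coe, schubertVanishing, Ideal.mem_iInf]
  · exact fun A _ => evalMinors_shuffleRel A i j r
  · exact fun A hA => (aeval_X _ φ).trans (hA φ hφ)

lemma plIdealTop_le_vanishing : plIdealTop (d := d) (n := n) F ≤ vanishing F d n := by
  refine Ideal.span_le.2 ?_
  rintro _ ⟨i, j, r, -, rfl⟩
  simp only [SetLike.mem_coe, vanishing, Ideal.mem_iInf]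
  exact fun A => evalMinors_shuffleRel A i j r

lemma eval_psi (lo hi : Idx d n) (a : Fin n × Fin d → F) (f : PlRing F d n) :
    MvPolynomial.eval a (psi F lo hi f) =
      evalMinors F d n (Matrix.of fun i t => if InBand lo hi (i, t) then a (i, t) else 0) f := by
  rw [← MvPolynomial.coe_aeval_eq_eval a]
  change ((MvPolynomial.aeval a).comp (psi F lo hi)) f = _
  congr 1
  refine MvPolynomial.algHom_ext fun θ => ?_
  rw [AlgHom.comp_apply, psi_X, bandMinor_eq_det, AlgHom.map_det, evalMinors, aeval_X]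
  congr 1
  ext s t
  by_cases h : InBand lo hi (θ.1 s, t) <;> simp [kill, h]

theorem schubertVanishing_eq [Infinite F] (hd : 0 < d) (τ : Idx d n) :
    schubertVanishing F d n τ = plIdeal F τ := by
  refine le_antisymm (fun f hf => ?_) (plIdeal_le_schubertVanishing τ)
  have h := idx_le_of_nonempty τ
  rw [plIdeal_eq_bandIdeal h, ← ker_psi hd, RingHom.mem_ker]
  refine MvPolynomial.funext fun a => ?_
  rw [map_zero, eval_psi]
  simp only [schubertVanishing, Ideal.mem_iInf] at hf
  refine hf _ fun φ hφ => ?_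
  have := eval_psi (idxBot h) τ a (X φ)
  rw [psi_X, bandMinor_eq_zero F (fun h' => hφ h'.2), map_zero, evalMinors, aeval_X] at this
  exact this.symm

theorem vanishing_eq [Infinite F] (hd : 0 < d) (h : d ≤ n) :
    vanishing F d n = plIdealTop (d := d) (n := n) F := by
  refine le_antisymm (fun f hf => ?_) plIdealTop_le_vanishing
  rw [← bandIdeal_bot_top h, ← ker_psi hd, RingHom.mem_ker]
  refine MvPolynomial.funext fun a => ?_
  rw [map_zero, eval_psi]
  simp only [vanishing, Ideal.mem_iInf] at hf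
  exact hf _

lemma schubertVanishing_eq_bandIdeal [Infinite F] (hd : 0 < d) (h : d ≤ n) (τ : Idx d n) :
    schubertVanishing F d n τ = bandIdeal F (idxBot h) τ := by
  rw [schubertVanishing_eq hd, plIdeal_eq_bandIdeal h]

lemma schubertVanishing_isPrime [Infinite F] (hd : 0 < d) (τ : Idx d n) :
    (schubertVanishing F d n τ).IsPrime := by
  rw [schubertVanishing_eq_bandIdeal hd (idx_le_of_nonempty τ)]
  exact bandIdeal_isPrime hd _ _

/-- `X φ` lies in `J(τ)` exactly when `φ ≰ τ`. -/
lemma mem_schubertVanishing_iff [Infinite F] (hd : 0 < d) {τ : Idx d n} {f : PlRing F d n}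
    {v : Chain d n →₀ F} (h : f - comb F v ∈ plIdealTop (d := d) (n := n) F) :
    f ∈ schubertVanishing F d n τ ↔ ∀ e : Chain d n, (∀ k, e.2.1 k ≤ τ) → v e = 0 := by
  rw [schubertVanishing_eq_bandIdeal hd (idx_le_of_nonempty τ), mem_bandIdeal_iff hd h]
  exact ⟨fun hh e he => hh e fun k => ⟨idxBot_le _ _, he k⟩,
    fun hh e he => hh e fun k => (he k).2⟩

end vanishing

end Groth.Agent.W4Gr15
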