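import Groth.Agent.W4Gr15.CM
import Groth.Agent.W4Gr15.CellMinor
import Mathlib.RingTheory.Polynomial.Basic

/-!
# Opposite cells of Schubert varieties

`S/J(w)[1/X ι] ≅ A[T, 1/T]` where `A = K[Z]/(q_θ : θ ≰ w)` is the coordinate ring of the opposite cell.
-/

universe u

open MvPolynomial W4bk4grassmannian

namespace Groth.Agent.W4Gr15

/-- A quotient of a Cohen–Macaulay domain by a nonzero element is Cohen–Macaulay. -/
lemma cm_of_surjective_ker_span {B A : Type u} [CommRing B] [IsDomain B] [CommRing A]
    [LocCoh.IsCohenMacaulayRing B] (f : B →+* A) (hf : Function.Surjective f) {y : B} (hy : y ≠ 0)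
    (hker : RingHom.ker f = Ideal.span {y}) : LocCoh.IsCohenMacaulayRing A := by
  suffices h : LocCoh.IsCohenMacaulayRing (B ⧸ Ideal.span {y}) by
    let e : B ⧸ Ideal.span {y} ≃+* A :=
      (Ideal.quotEquivOfEq hker.symm).trans (RingHom.quotientKerEquivOfSurjective hf)
    exact CAlgH3.isCohenMacaulayRing_of_ringEquiv e
  refine { isCohenMacaulayLocalRing_localization := fun q hq => ?_ }
  let p := q.comap (Ideal.Quotient.mk (Ideal.span {y}))
  have hcm := LocCoh.IsCohenMacaulayRing.isCohenMacaulayLocalRing_localization (R := B) p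
  obtain ⟨e, -⟩ := CAlgH3.exists_quotientLocalEquiv (Ideal.span {y}) q
  let x := algebraMap B (Localization.AtPrime p) y
  have hmem : y ∈ p := by
    change Ideal.Quotient.mk _ y ∈ q
    rw [Ideal.Quotient.eq_zero_iff_mem.2 (Ideal.mem_span_singleton_self y)]
    exact zero_mem _
  have hx : x ∈ IsLocalRing.maximalIdeal (Localization.AtPrime p) :=
    (IsLocalization.AtPrime.to_map_mem_maximal_iff _ p y).2 hmem
  haveI : IsDomain (Localization.AtPrime p) :=
    IsLocalization.isDomain_localization p.primeCompl_le_nonZeroDivisors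
  have hreg : IsSMulRegular (Localization.AtPrime p) x := by
    refine (isRegular_iff_ne_zero.2 ?_).left
    simpa [x] using hy
  have hmap : (Ideal.span {y}).map (algebraMap B (Localization.AtPrime p)) = Ideal.span {x} := by
    rw [Ideal.map_span, Set.image_singleton]
  haveI : IsLocalRing (Localization.AtPrime p ⧸ Ideal.span {x}) :=
    ((Ideal.quotEquivOfEq hmap.symm).trans e).symm.isLocalRing
  haveI := (CAlgH3.isCohenMacaulayLocalRing_quotient_span_iff hx hreg).2 hcm
  exact CAlgH3.isCohenMacaulayLocalRing_of_ringEquiv ((Ideal.quotEquivOfEq hmap.symm).trans e)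

variable {d r : ℕ} {K : Type u} [Field K]

variable (K) in
/-- The coordinates of `[I ; Z]`. -/
noncomputable def cellSigma : PlRing K d (d + r) →ₐ[K] CellRing K d r :=
  MvPolynomial.aeval fun θ => cellMinor K d r θ

lemma cellSigma_coord (a : Fin d → Fin (d + r)) : cellSigma K (coord K d (d + r) a) = cellDet K a :=
  map_coord K (fun i t => cellMatrix K d r i t) a

variable (K) in
/-- The ideal of the opposite cell in `X(w)`. -/
noncomputable def oppIdeal (w : Idx d (d + r)) : Ideal (CellRing K d r) :=
  Ideal.span {f | ∃ θ : Idx d (d + r), ¬ θ ≤ w ∧ f = cellMinor K d r θ}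

variable (K) in
/-- The coordinate ring of the opposite cell in `X(w)`. -/
abbrev OppRing (w : Idx d (d + r)) : Type u := CellRing K d r ⧸ oppIdeal K w

variable (K) in
/-- The least index. -/
abbrev bot' (d r : ℕ) : Idx d (d + r) := idxBot (Nat.le_add_right d r)

lemma cellDet_bot : cellDet K (bot' d r).1 = 1 := by
  rw [cellDet, rowDet, show (Matrix.of fun s t => cellMatrix K d r ((bot' d r).1 s) t) = 1 by
    refine Matrix.ext fun s t => ?_
    change cellMatrix K d r (Fin.castAdd r s) t = _
    rw [cellMatrix_castAdd, Matrix.one_apply], Matrix.det_one]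

lemma cellSigma_bot : cellSigma K (X (bot' d r)) = 1 := by
  rw [← coord_idx K (bot' d r), cellSigma_coord, cellDet_bot]

lemma cellDet_update_natAdd (i : Fin r) (j : Fin d) :
    cellDet K (Function.update (bot' d r).1 j (Fin.natAdd d i)) = X (i, j) := by
  have : Function.update (bot' d r).1 j (Fin.natAdd d i) = cellTuple (fun _ : Fin 1 => i) (fun _ => j) := by
    funext t
    by_cases h : t = j
    · subst h
      rw [Function.update_self]
      exact (cellTuple_apply (fun _ : Fin 1 => i) (T := fun _ : Fin 1 => t)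
        (fun a b _ => Subsingleton.elim a b) 0).symm
    · rw [Function.update_of_ne h, cellTuple_of_notMem _ fun _ => Ne.symm h]
      rfl
  rw [this, cellDet_cellTuple K _ (fun a b _ => Subsingleton.elim a b), Matrix.det_fin_one]
  rfl

variable [Infinite K]

lemma cellSigma_kill (hd : 0 < d) (w : Idx d (d + r)) :
    ∀ f ∈ schubertVanishing K d (d + r) w, Ideal.Quotient.mkₐ K (oppIdeal K w) (cellSigma K f) = 0 := by
  intro f hf
  rw [schubertVanishing_eq hd] at hf
  induction hf using Submodule.span_induction with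
  | zero => rw [map_zero, map_zero]
  | add x y _ _ hx hy => rw [map_add, map_add, hx, hy, add_zero]
  | smul a x _ hx => rw [smul_eq_mul, map_mul, map_mul, hx, mul_zero]
  | mem x hx =>
    rcases hx with ⟨i, j, p, -, rfl⟩ | ⟨φ, hφ, rfl⟩
    · have h : cellSigma K (shuffleRel K i j p) = 0 :=
        aeval_shuffleRel K (fun i t => cellMatrix K d r i t) i j p
      rw [h, map_zero]
    · rw [cellSigma, aeval_X]
      exact Ideal.Quotient.eq_zero_iff_mem.2 (Ideal.subset_span ⟨φ, hφ, rfl⟩)

/-- Dehomogenisation. -/
noncomputable def oppHom (hd : 0 < d) (w : Idx d (d + r)) : SRing K w →ₐ[K] OppRing K w :=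
  Ideal.Quotient.liftₐ _ ((Ideal.Quotient.mkₐ K (oppIdeal K w)).comp (cellSigma K)) (cellSigma_kill hd w)

lemma oppHom_mk (hd : 0 < d) (w : Idx d (d + r)) (f : PlRing K d (d + r)) :
    oppHom hd w (Ideal.Quotient.mk _ f) = Ideal.Quotient.mk (oppIdeal K w) (cellSigma K f) := rfl

lemma oppHom_surjective (hd : 0 < d) (w : Idx d (d + r)) :
    Function.Surjective (oppHom (K := K) hd w) := by
  intro a
  obtain ⟨a, rfl⟩ := Ideal.Quotient.mk_surjective a
  induction a using MvPolynomial.induction_on with
  | C c => exact ⟨algebraMap K _ c, (oppHom hd w).commutes c⟩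
  | add p q hp hq =>
    obtain ⟨a, ha⟩ := hp
    obtain ⟨b, hb⟩ := hq
    exact ⟨a + b, by rw [map_add, ha, hb, map_add]⟩
  | mul_X p v hp =>
    obtain ⟨a, ha⟩ := hp
    refine ⟨a * Ideal.Quotient.mk _ (coord K d (d + r) (Function.update (bot' d r).1 v.2 (Fin.natAdd d v.1))), ?_⟩
    rw [map_mul, ha, oppHom_mk, cellSigma_coord, cellDet_update_natAdd, map_mul]

/-- The class of `X ι`. -/
noncomputable abbrev botCls (w : Idx d (d + r)) : SRing K w := Ideal.Quotient.mk _ (X (bot' d r))

lemma botCls_ne_zero (hd : 0 < d) (w : Idx d (d + r)) : botCls (K := K) w ≠ 0 := fun h =>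
  X_notMem_schubertVanishing hd (idxBot_le _ w) (Ideal.Quotient.eq_zero_iff_mem.1 h)

variable (K) in
/-- `S/J(w)[1/X ι]`. -/
abbrev OppLoc (w : Idx d (d + r)) : Type u := Localization.Away (botCls (K := K) w)

omit [Infinite K] in
lemma mk_chart' [Infinite K] (hd : 0 < d) (w : Idx d (d + r)) (b θ : Idx d (d + r)) :
    Ideal.Quotient.mk (schubertVanishing K d (d + r) w) (X θ) *
        Ideal.Quotient.mk (schubertVanishing K d (d + r) w) (X b) ^ (d - 1) =
      (Matrix.of fun s t => Ideal.Quotient.mk (schubertVanishing K d (d + r) w)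
        (coord K d (d + r) (Function.update b.1 t (θ.1 s)))).det := by
  have h : Ideal.Quotient.mk (schubertVanishing K d (d + r) w) (X θ * X b ^ (d - 1) -
      (Matrix.of fun s t => coord K d (d + r) (Function.update b.1 t (θ.1 s))).det) = 0 := by
    refine Ideal.Quotient.eq_zero_iff_mem.2 (mem_vanishing_of_psi hd ?_)
    rw [map_sub, map_mul, map_pow, sub_eq_zero, ← coord_idx K θ, ← coord_idx K b, psi_coord (K := K),
      psi_coord (K := K), AlgHom.map_det, ← chart_det]
    congr 1
    exact Matrix.ext fun s t => (psi_coord (K := K) _ _ _).symm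
  rw [map_sub, map_mul, map_pow, sub_eq_zero, RingHom.map_det] at h
  exact h

/-- The chart coordinates at `ι`. -/
noncomputable def tau (w : Idx d (d + r)) : CellRing K d r →ₐ[K] OppLoc K w :=
  MvPolynomial.aeval fun v => algebraMap (SRing K w) (OppLoc K w)
    (Ideal.Quotient.mk _ (coord K d (d + r) (Function.update (bot' d r).1 v.2 (Fin.natAdd d v.1)))) *
    IsLocalization.Away.invSelf (botCls (K := K) w)

lemma tau_cellMatrix (w : Idx d (d + r)) (x : Fin (d + r)) (t : Fin d) :
    tau w (cellMatrix K d r x t) = algebraMap (SRing K w) (OppLoc K w)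
      (Ideal.Quotient.mk _ (coord K d (d + r) (Function.update (bot' d r).1 t x))) *
      IsLocalization.Away.invSelf (botCls (K := K) w) := by
  refine Fin.addCases (fun s => ?_) (fun i => ?_) x
  · rw [cellMatrix_castAdd]
    change tau w (if s = t then 1 else 0) = algebraMap _ _ (Ideal.Quotient.mk _
      (coord K d (d + r) (Function.update (bot' d r).1 t ((bot' d r).1 s)))) * _
    by_cases hst : s = t
    · subst hst
      rw [if_pos rfl, map_one, Function.update_eq_self, coord_idx, IsLocalization.Away.mul_invSelf]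
    · rw [if_neg hst, map_zero, coord_update_pivot _ hst, map_zero, map_zero, zero_mul]
  · rw [cellMatrix_natAdd, genMatrix, Matrix.of_apply, tau, aeval_X]

lemma tau_cellMinor (hd : 0 < d) (w θ : Idx d (d + r)) :
    tau w (cellMinor K d r θ) = algebraMap (SRing K w) (OppLoc K w) (Ideal.Quotient.mk _ (X θ)) *
      IsLocalization.Away.invSelf (botCls (K := K) w) := by
  set x := algebraMap (SRing K w) (OppLoc K w) (botCls (K := K) w)
  set v := IsLocalization.Away.invSelf (S := OppLoc K w) (botCls (K := K) w)
  have hxv : x * v = 1 := IsLocalization.Away.mul_invSelf _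
  rw [← cellDet_idx, cellDet, rowDet, AlgHom.map_det]
  have h := congrArg (algebraMap (SRing K w) (OppLoc K w)) (mk_chart' hd w (bot' d r) θ)
  rw [map_mul, map_pow, RingHom.map_det] at h
  have hM : (tau w).mapMatrix (Matrix.of fun s t => cellMatrix K d r (θ.1 s) t) =
      Matrix.of fun s t => (fun _ : Fin d => v) t *
        (algebraMap (SRing K w) (OppLoc K w)).mapMatrix (Matrix.of fun s t =>
          Ideal.Quotient.mk (schubertVanishing K d (d + r) w)
            (coord K d (d + r) (Function.update (bot' d r).1 t (θ.1 s)))) s t := by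
    ext s t
    simp [tau_cellMatrix, v, mul_comm]
  rw [hM, Matrix.det_mul_row, ← h, Finset.prod_const, Finset.card_fin]
  change v ^ d * (_ * x ^ (d - 1)) = _
  obtain ⟨e, rfl⟩ : ∃ e, d = e + 1 := ⟨d - 1, by omega⟩
  simp only [Nat.add_sub_cancel, pow_succ]
  calc _ = algebraMap _ (OppLoc K w) (Ideal.Quotient.mk _ (X θ)) * v * (x * v) ^ e := by
        rw [mul_pow]; ring
    _ = _ := by rw [hxv, one_pow, mul_one]

lemma tau_kill (hd : 0 < d) (w : Idx d (d + r)) : ∀ a ∈ oppIdeal K w, tau w a = 0 := by
  have h : oppIdeal K w ≤ RingHom.ker (tau (K := K) w) := by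
    refine Ideal.span_le.2 ?_
    rintro _ ⟨θ, hθ, rfl⟩
    rw [SetLike.mem_coe, RingHom.mem_ker, tau_cellMinor hd,
      Ideal.Quotient.eq_zero_iff_mem.2 (X_mem_schubertVanishing w θ hθ), map_zero, zero_mul]
  exact fun a ha => h ha

/-- The section `A → S/J(w)[1/X ι]`. -/
noncomputable def tauBar (hd : 0 < d) (w : Idx d (d + r)) : OppRing K w →ₐ[K] OppLoc K w :=
  Ideal.Quotient.liftₐ _ (tau w) (tau_kill hd w)

lemma tauBar_mk (hd : 0 < d) (w : Idx d (d + r)) (a : CellRing K d r) :
    tauBar hd w (Ideal.Quotient.mk _ a) = tau w a := rfl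

lemma tauBar_oppHom (hd : 0 < d) (w θ : Idx d (d + r)) :
    tauBar hd w (oppHom hd w (Ideal.Quotient.mk _ (X θ))) =
      algebraMap (SRing K w) (OppLoc K w) (Ideal.Quotient.mk _ (X θ)) *
        IsLocalization.Away.invSelf (botCls (K := K) w) := by
  rw [oppHom_mk, cellSigma, aeval_X, tauBar_mk, tau_cellMinor hd]

lemma oppHom_botCls (hd : 0 < d) (w : Idx d (d + r)) : oppHom hd w (botCls (K := K) w) = 1 := by
  rw [oppHom_mk, cellSigma_bot, map_one]

/-- Dehomogenisation on the localisation. -/
noncomputable def oppEval (hd : 0 < d) (w : Idx d (d + r)) : OppLoc K w →ₐ[K] OppRing K w :=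
  IsLocalization.liftAlgHom (M := Submonoid.powers (botCls (K := K) w)) (f := oppHom hd w) fun y => by
    obtain ⟨k, hk⟩ := y.2
    rw [← hk, map_pow, oppHom_botCls, one_pow]
    exact isUnit_one

lemma oppEval_algebraMap (hd : 0 < d) (w : Idx d (d + r)) (a : SRing K w) :
    oppEval hd w (algebraMap _ _ a) = oppHom hd w a := by simp [oppEval]

lemma oppEval_invSelf (hd : 0 < d) (w : Idx d (d + r)) :
    oppEval (K := K) hd w (IsLocalization.Away.invSelf (S := OppLoc K w) (botCls (K := K) w)) = 1 := by
  have h := congrArg (oppEval (K := K) hd w) (IsLocalization.Away.mul_invSelf (S := OppLoc K w) (botCls (K := K) w))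
  rwa [map_mul, oppEval_algebraMap, oppHom_botCls, one_mul, map_one] at h

lemma oppEval_tauBar (hd : 0 < d) (w : Idx d (d + r)) (a : OppRing K w) :
    oppEval hd w (tauBar hd w a) = a := by
  obtain ⟨a, rfl⟩ := Ideal.Quotient.mk_surjective a
  change ((oppEval hd w).comp (tau w)) a = Ideal.Quotient.mkₐ K (oppIdeal K w) a
  congr 1
  refine MvPolynomial.algHom_ext fun v => ?_
  rw [AlgHom.comp_apply, tau, aeval_X, map_mul, oppEval_algebraMap, oppEval_invSelf, mul_one, oppHom_mk,
    cellSigma_coord, cellDet_update_natAdd]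
  rfl

lemma tauBar_injective (hd : 0 < d) (w : Idx d (d + r)) : Function.Injective (tauBar (K := K) hd w) :=
  Function.LeftInverse.injective (oppEval_tauBar hd w)

lemma oppLoc_isDomain (hd : 0 < d) (w : Idx d (d + r)) : IsDomain (OppLoc K w) :=
  haveI := sring_isDomain (K := K) hd w
  IsLocalization.isDomain_localization (powers_le_nonZeroDivisors_of_noZeroDivisors (botCls_ne_zero hd w))

theorem oppRing_isDomain (hd : 0 < d) (w : Idx d (d + r)) : IsDomain (OppRing K w) :=
  haveI := oppLoc_isDomain (K := K) hd w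
  (tauBar_injective (K := K) hd w).isDomain (tauBar (K := K) hd w).toRingHom

/-- A retract of a normal domain is normal. -/
theorem oppRing_isIntegrallyClosed (hd : 0 < d) (hr : 0 < r) (w : Idx d (d + r)) :
    IsIntegrallyClosed (OppRing K w) := by
  haveI := oppRing_isDomain (K := K) hd w
  haveI := oppLoc_isDomain (K := K) hd w
  haveI := sring_isDomain (K := K) hd w
  haveI := sring_isIntegrallyClosed (K := K) hd (show d < d + r by omega) w
  haveI : IsIntegrallyClosed (OppLoc K w) :=
    isIntegrallyClosed_of_isLocalization _ (Submonoid.powers (botCls (K := K) w))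
      (powers_le_nonZeroDivisors_of_noZeroDivisors (botCls_ne_zero hd w))
  rw [isIntegrallyClosed_iff (FractionRing (OppRing K w))]
  intro z hz
  obtain ⟨a, b, hb, rfl⟩ := IsFractionRing.div_surjective (A := OppRing K w) z
  let j : FractionRing (OppRing K w) →+* FractionRing (OppLoc K w) :=
    IsFractionRing.map (j := (tauBar (K := K) hd w).toRingHom) (tauBar_injective (K := K) hd w)
  have hb0 : b ≠ 0 := nonZeroDivisors.ne_zero hb
  obtain ⟨y, hy⟩ := IsIntegrallyClosed.isIntegral_iff.1
    (show IsIntegral (OppLoc K w) (j (algebraMap _ _ a / algebraMap _ _ b)) from by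
      obtain ⟨p, hmon, hp⟩ := hz
      refine ⟨p.map (tauBar (K := K) hd w).toRingHom, hmon.map _, ?_⟩
      rw [Polynomial.eval₂_map]
      have hc : (algebraMap (OppLoc K w) (FractionRing (OppLoc K w))).comp (tauBar (K := K) hd w).toRingHom =
          j.comp (algebraMap (OppRing K w) (FractionRing (OppRing K w))) :=
        RingHom.ext fun x => by simp [j, IsFractionRing.map, IsLocalization.map_eq]
      rw [hc, ← Polynomial.hom_eval₂, hp, map_zero])
  refine ⟨oppEval hd w y, ?_⟩
  rw [eq_div_iff (by simpa using hb0), ← map_mul]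
  congr 1
  have h : y * tauBar hd w b = tauBar hd w a := by
    refine IsFractionRing.injective (OppLoc K w) (FractionRing (OppLoc K w)) ?_
    rw [map_mul, hy, map_div₀]
    simp only [j, IsFractionRing.map, IsLocalization.map_eq]
    refine div_mul_cancel₀ _ ?_
    rw [ne_eq, map_eq_zero_iff _ (IsFractionRing.injective (OppLoc K w) _)]
    exact fun h0 => hb0 (tauBar_injective hd w (h0.trans (map_zero _).symm))
  have h' := congrArg (oppEval hd w) h
  rwa [map_mul, oppEval_tauBar, oppEval_tauBar] at h'

variable (K) in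
/-- `A[T, 1/T]`. -/
abbrev OppLaurent (w : Idx d (d + r)) : Type u := Localization.Away (Polynomial.X : Polynomial (OppRing K w))

lemma homog_kill (hd : 0 < d) (w : Idx d (d + r)) :
    ∀ f ∈ schubertVanishing K d (d + r) w, MvPolynomial.aeval
      (fun θ : Idx d (d + r) => Polynomial.X * Polynomial.C (Ideal.Quotient.mk (oppIdeal K w) (cellMinor K d r θ))) f = 0 := by
  intro f hf
  rw [schubertVanishing_eq hd] at hf
  let M : Fin (d + r) → Fin d → Polynomial (OppRing K w) := fun i t =>
    (if t.val = 0 then Polynomial.X else 1) * Polynomial.C (Ideal.Quotient.mk (oppIdeal K w) (cellMatrix K d r i t))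
  have hM : (fun θ : Idx d (d + r) => Polynomial.X * Polynomial.C (Ideal.Quotient.mk (oppIdeal K w) (cellMinor K d r θ))) =
      fun θ => (Matrix.of fun s t => M (θ.1 s) t).det := funext fun θ => by
    rw [show (Matrix.of fun s t => M (θ.1 s) t) = Matrix.of fun s t =>
      (fun t : Fin d => if t.val = 0 then Polynomial.X else 1) t *
        ((Polynomial.C.comp (Ideal.Quotient.mk (oppIdeal K w))).mapMatrix
          (Matrix.of fun s t => cellMatrix K d r (θ.1 s) t)) s t from rfl,
      Matrix.det_mul_row, ← RingHom.map_det, Finset.prod_eq_single (⟨0, hd⟩ : Fin d)]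
    · simp only [if_true]; rfl
    · intro t _ ht
      rw [if_neg fun h => ht (Fin.ext h)]
    · simp
  induction hf using Submodule.span_induction with
  | zero => rw [map_zero]
  | add x y _ _ hx hy => rw [map_add, hx, hy, add_zero]
  | smul a x _ hx => rw [smul_eq_mul, map_mul, hx, mul_zero]
  | mem x hx =>
    rcases hx with ⟨i, j, p, -, rfl⟩ | ⟨φ, hφ, rfl⟩
    · rw [hM]; exact aeval_shuffleRel K M i j p
    · rw [aeval_X, Ideal.Quotient.eq_zero_iff_mem.2 (show cellMinor K d r φ ∈ oppIdeal K w from
        Ideal.subset_span ⟨φ, hφ, rfl⟩), map_zero, mul_zero]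

/-- Homogenisation. -/
noncomputable def homog (hd : 0 < d) (w : Idx d (d + r)) : SRing K w →ₐ[K] Polynomial (OppRing K w) :=
  Ideal.Quotient.liftₐ _ (MvPolynomial.aeval fun θ : Idx d (d + r) =>
    Polynomial.X * Polynomial.C (Ideal.Quotient.mk (oppIdeal K w) (cellMinor K d r θ)))
    (homog_kill (K := K) hd w)

lemma homog_X (hd : 0 < d) (w θ : Idx d (d + r)) :
    homog (K := K) hd w (Ideal.Quotient.mk _ (X θ)) =
      Polynomial.X * Polynomial.C (oppHom hd w (Ideal.Quotient.mk _ (X θ))) := by
  rw [oppHom_mk, cellSigma, aeval_X]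
  exact aeval_X _ θ

lemma homog_botCls (hd : 0 < d) (w : Idx d (d + r)) : homog hd w (botCls (K := K) w) = Polynomial.X := by
  rw [homog_X, oppHom_botCls, map_one, mul_one]

/-- The structure map of the Laurent ring. -/
noncomputable abbrev lm (w : Idx d (d + r)) : Polynomial (OppRing K w) →+* OppLaurent K w :=
  @algebraMap (Polynomial (OppRing K w)) (OppLaurent K w) Polynomial.commSemiring _ _

/-- Homogenisation into the Laurent ring. -/
noncomputable def homogLaurent (hd : 0 < d) (w : Idx d (d + r)) : SRing K w →+* OppLaurent K w :=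
  (lm w).comp (homog (K := K) hd w).toRingHom

lemma homogLaurent_apply (hd : 0 < d) (w : Idx d (d + r)) (a : SRing K w) :
    homogLaurent hd w a = lm w (homog hd w a) := rfl

/-- Evaluation of `A[T]` in `S/J(w)[1/X ι]`. -/
noncomputable def oppEval₂ (hd : 0 < d) (w : Idx d (d + r)) : Polynomial (OppRing K w) →+* OppLoc K w :=
  Polynomial.eval₂RingHom (tauBar (K := K) hd w).toRingHom
    (algebraMap (SRing K w) (OppLoc K w) (botCls (K := K) w))

lemma oppEval₂_C (hd : 0 < d) (w : Idx d (d + r)) (a : OppRing K w) :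
    oppEval₂ hd w (Polynomial.C a) = tauBar hd w a := by
  simp [oppEval₂]

lemma oppEval₂_X (hd : 0 < d) (w : Idx d (d + r)) :
    oppEval₂ hd w Polynomial.X = algebraMap (SRing K w) (OppLoc K w) (botCls (K := K) w) := by
  simp [oppEval₂]

/-- Forward map. -/
noncomputable def oppForward (hd : 0 < d) (w : Idx d (d + r)) : OppLoc K w →+* OppLaurent K w :=
  IsLocalization.Away.lift (botCls (K := K) w) (g := homogLaurent hd w) (by
    rw [homogLaurent_apply, homog_botCls]
    exact IsLocalization.Away.algebraMap_isUnit _)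

lemma oppForward_algebraMap (hd : 0 < d) (w : Idx d (d + r)) (a : SRing K w) :
    oppForward hd w (algebraMap (SRing K w) (OppLoc K w) a) = lm w (homog hd w a) :=
  IsLocalization.Away.lift_eq _ _ _

/-- Backward map. -/
noncomputable def oppBackward (hd : 0 < d) (w : Idx d (d + r)) : OppLaurent K w →+* OppLoc K w :=
  IsLocalization.Away.lift (Polynomial.X : Polynomial (OppRing K w)) (g := oppEval₂ hd w) (by
    rw [oppEval₂_X]
    exact IsLocalization.Away.algebraMap_isUnit _)

lemma oppBackward_lm (hd : 0 < d) (w : Idx d (d + r)) (p : Polynomial (OppRing K w)) :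
    oppBackward hd w (lm w p) = oppEval₂ hd w p :=
  IsLocalization.Away.lift_eq _ _ _

lemma homog_algebraMap (hd : 0 < d) (w : Idx d (d + r)) (c : K) :
    homog hd w (algebraMap K (SRing K w) c) = Polynomial.C (algebraMap K (OppRing K w) c) :=
  (homog hd w).commutes c

lemma oppBackward_oppForward (hd : 0 < d) (w : Idx d (d + r)) (a : SRing K w) :
    oppBackward hd w (oppForward hd w (algebraMap (SRing K w) (OppLoc K w) a)) =
      algebraMap (SRing K w) (OppLoc K w) a := by
  rw [oppForward_algebraMap, oppBackward_lm]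
  obtain ⟨f, rfl⟩ := Ideal.Quotient.mk_surjective a
  induction f using MvPolynomial.induction_on with
  | C c =>
    change oppEval₂ hd w (homog hd w (algebraMap K (SRing K w) c)) =
      algebraMap (SRing K w) (OppLoc K w) (algebraMap K (SRing K w) c)
    rw [homog_algebraMap, oppEval₂_C, AlgHom.commutes, IsScalarTower.algebraMap_apply K (SRing K w)]
  | add p q hp hq => simp only [map_add, hp, hq]
  | mul_X p θ hp =>
    rw [map_mul, map_mul, map_mul, hp, homog_X, map_mul, oppEval₂_X, oppEval₂_C, tauBar_oppHom, map_mul]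
    congr 1
    rw [mul_left_comm, IsLocalization.Away.mul_invSelf, mul_one]

lemma oppForward_invSelf (hd : 0 < d) (w : Idx d (d + r)) :
    oppForward hd w (IsLocalization.Away.invSelf (S := OppLoc K w) (botCls (K := K) w)) *
      lm w Polynomial.X = 1 := by
  have := congrArg (oppForward (K := K) hd w)
    (IsLocalization.Away.mul_invSelf (S := OppLoc K w) (botCls (K := K) w))
  rwa [map_mul, oppForward_algebraMap, homog_botCls, map_one, mul_comm] at this

lemma oppForward_tauBar (hd : 0 < d) (w : Idx d (d + r)) (a : OppRing K w) :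
    oppForward hd w (tauBar hd w a) = lm w (Polynomial.C a) := by
  obtain ⟨a, rfl⟩ := Ideal.Quotient.mk_surjective a
  rw [tauBar_mk]
  induction a using MvPolynomial.induction_on with
  | C c =>
    rw [← MvPolynomial.algebraMap_eq, AlgHom.commutes, IsScalarTower.algebraMap_apply K (SRing K w),
      oppForward_algebraMap, homog_algebraMap]
    rfl
  | add p q hp hq => simp only [map_add, hp, hq]
  | mul_X p v hp =>
    rw [map_mul, map_mul, hp, map_mul, map_mul, map_mul]
    congr 1
    have hc : homog hd w (Ideal.Quotient.mk _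
        (coord K d (d + r) (Function.update (bot' d r).1 v.2 (Fin.natAdd d v.1)))) =
        Polynomial.X * Polynomial.C (Ideal.Quotient.mk (oppIdeal K w) (X v)) := by
      rw [← cellDet_update_natAdd v.1 v.2, coord, cellDet_eq]
      split_ifs with h
      · rw [map_mul, map_mul, map_pow, map_neg, map_one, map_pow, map_neg, map_one, homog_X, oppHom_mk,
          cellSigma, aeval_X]
        simp only [map_mul, map_pow, map_neg, map_one]
        ring
      · simp
    rw [tau, aeval_X, map_mul, oppForward_algebraMap, hc, map_mul]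
    linear_combination (lm w (Polynomial.C (Ideal.Quotient.mk (oppIdeal K w) (X v)))) *
      (oppForward_invSelf (K := K) hd w)

/-- The two localisations agree. -/
noncomputable def oppEquiv (hd : 0 < d) (w : Idx d (d + r)) : OppLoc K w ≃+* OppLaurent K w :=
  RingEquiv.ofRingHom (oppForward hd w) (oppBackward hd w)
    (IsLocalization.ringHom_ext (Submonoid.powers (Polynomial.X : Polynomial (OppRing K w))) <|
      Polynomial.ringHom_ext
        (fun a => by
          change oppForward hd w (oppBackward hd w (lm w (Polynomial.C a))) = lm w (Polynomial.C a)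
          rw [oppBackward_lm, oppEval₂_C, oppForward_tauBar])
        (by
          change oppForward hd w (oppBackward hd w (lm w Polynomial.X)) = lm w Polynomial.X
          rw [oppBackward_lm, oppEval₂_X, oppForward_algebraMap, homog_botCls]))
    (IsLocalization.ringHom_ext (Submonoid.powers (botCls (K := K) w)) <|
      RingHom.ext fun a => oppBackward_oppForward hd w a)

lemma oppLaurent_isDomain (hd : 0 < d) (w : Idx d (d + r)) : IsDomain (OppLaurent K w) :=
  haveI := oppLoc_isDomain (K := K) hd w
  MulEquiv.isDomain (OppLoc K w) (oppEquiv hd w).symm.toMulEquiv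

theorem ringKrullDim_oppRing (hd : 0 < d) (w : Idx d (d + r)) :
    ringKrullDim (OppRing K w) = ((codeg w : ℕ) : WithBot ℕ∞) := by
  haveI := oppRing_isDomain (K := K) hd w
  haveI := sring_isDomain (K := K) hd w
  refine CAlgH3.withBot_add_one_cancel ?_
  rw [← Polynomial.ringKrullDim_of_isNoetherianRing,
    ← ringKrullDim_away (K := K) (Polynomial.X_ne_zero (R := OppRing K w)),
    ← ringKrullDim_eq_of_ringEquiv (oppEquiv hd w), ringKrullDim_away (K := K) (botCls_ne_zero hd w),
    ringKrullDim_sring hd]
  norm_cast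

theorem oppRing_cm (hd : 0 < d) (hr : 0 < r) (w : Idx d (d + r)) :
    LocCoh.IsCohenMacaulayRing (OppRing K w) := by
  haveI := oppRing_isDomain (K := K) hd w
  haveI := sring_cm (K := K) hd (show d < d + r by omega) w
  haveI : LocCoh.IsCohenMacaulayRing (OppLoc K w) :=
    CAlgH3.isCohenMacaulayRing_of_isLocalization (Submonoid.powers (botCls (K := K) w))
  haveI : LocCoh.IsCohenMacaulayRing (OppLaurent K w) :=
    CAlgH3.isCohenMacaulayRing_of_ringEquiv (oppEquiv hd w)
  haveI := oppLaurent_isDomain (K := K) hd w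
  have hu : IsUnit ((Polynomial.evalRingHom (1 : OppRing K w)) Polynomial.X) := by simp
  let f : OppLaurent K w →+* OppRing K w := IsLocalization.Away.lift Polynomial.X hu
  have hfa : ∀ p : Polynomial (OppRing K w), f (lm w p) = p.eval 1 := fun p => IsLocalization.Away.lift_eq _ _ _
  have hinj : Function.Injective (lm (K := K) w) :=
    @IsLocalization.injective (Polynomial (OppRing K w)) Polynomial.commRing _ (OppLaurent K w) _ _ _
      (powers_le_nonZeroDivisors_of_noZeroDivisors (Polynomial.X_ne_zero (R := OppRing K w)))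
  refine cm_of_surjective_ker_span f (fun a => ⟨lm w (Polynomial.C a), by rw [hfa, Polynomial.eval_C]⟩)
    (y := lm w (Polynomial.X - Polynomial.C 1)) ?_ ?_
  · rw [ne_eq, map_eq_zero_iff _ hinj]
    exact Polynomial.X_sub_C_ne_zero _
  · refine le_antisymm (fun z hz => ?_) ?_
    · obtain ⟨p, ⟨_, k, rfl⟩, rfl⟩ := IsLocalization.exists_mk'_eq (Submonoid.powers (Polynomial.X : Polynomial (OppRing K w))) z
      rw [RingHom.mem_ker] at hz
      have h1 := congrArg f (IsLocalization.mk'_spec (M := Submonoid.powers (Polynomial.X : Polynomial (OppRing K w)))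
        (OppLaurent K w) p ⟨Polynomial.X ^ k, k, rfl⟩)
      rw [map_mul, hz, zero_mul, hfa] at h1
      obtain ⟨q, hq⟩ := Polynomial.dvd_iff_isRoot.2 (h1.symm : p.IsRoot 1)
      rw [hq, ← IsLocalization.mul_mk'_eq_mk'_of_mul]
      exact Ideal.mul_mem_right _ _ (Ideal.mem_span_singleton_self _)
    · rw [Ideal.span_le, Set.singleton_subset_iff, SetLike.mem_coe, RingHom.mem_ker, hfa]
      simp

end Groth.Agent.W4Gr15
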