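import Groth.Prelude.Def_W4bk4grassmannianPl
import Mathlib.LinearAlgebra.Matrix.Determinant.Basic
import Mathlib.LinearAlgebra.Multilinear.Basis
import Mathlib.GroupTheory.Perm.Sign
import Mathlib.LinearAlgebra.StdBasis
import Mathlib.Data.Fintype.Pigeonhole
import Mathlib.Algebra.Order.BigOperators.Group.Finset

/-!
# Shuffle relations hold for the minors
-/

universe u

open MvPolynomial W4bk4grassmannian

namespace Groth.Agent.W4Gr15

variable {d n : ℕ}

lemma sign_eq_signAux {d : ℕ} (σ : Equiv.Perm (Fin d)) : Equiv.Perm.sign σ = Equiv.Perm.signAux σ := by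
  induction σ using Equiv.Perm.swap_induction_on with
  | one => simp
  | swap_mul f x y hxy ih =>
    rw [map_mul, Equiv.Perm.signAux_mul, ih, Equiv.Perm.sign_swap hxy, Equiv.Perm.signAux_swap hxy]

lemma det_rows_eq {B : Type u} [CommRing B] (M : Fin n → Fin d → B) (a : Fin d → Fin n) :
    (Matrix.of fun s t => M (a s) t).det =
      if h : (Finset.univ.image a).card = d
      then (-1) ^ invCount d n a * (Matrix.of fun s t => M ((sortIdx d n a h).1 s) t).det
      else 0 := by
  classical
  split_ifs with h
  · have hinj : Function.Injective a := by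
      rw [← Set.injOn_univ, ← Finset.coe_univ]
      exact Finset.injOn_of_card_image_eq (by rw [h, Finset.card_fin])
    have hmem : ∀ t, ∃ s, (sortIdx d n a h).1 s = a t := fun t => by
      have : a t ∈ Set.range (Finset.orderEmbOfFin (Finset.univ.image a) h) := by
        rw [Finset.range_orderEmbOfFin]; simp
      exact this
    choose f hf using hmem
    have hfinj : Function.Injective f := fun x y hxy => hinj (by rw [← hf x, ← hf y, hxy])
    let σ : Equiv.Perm (Fin d) := Equiv.ofBijective f ((Finite.injective_iff_bijective).1 hfinj)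
    have hσ : (Equiv.Perm.sign σ : ℤ) = (-1) ^ invCount d n a := by
      rw [sign_eq_signAux, Equiv.Perm.signAux, Units.coe_prod]
      simp only [apply_ite Units.val, Units.val_neg, Units.val_one]
      rw [Finset.prod_ite, Finset.prod_const_one, mul_one, Finset.prod_const]
      congr 1
      rw [invCount]
      refine Finset.card_bij (fun x _ => (x.2, x.1)) ?_ ?_ ?_
      · intro x hx
        simp only [Finset.mem_filter, Equiv.Perm.mem_finPairsLT, Finset.mem_univ, true_and] at hx ⊢
        refine ⟨hx.1, ?_⟩
        rw [← hf x.1, ← hf x.2]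
        refine (sortIdx d n a h).2 (lt_of_le_of_ne hx.2 fun e => ?_)
        exact hx.1.ne' (hfinj e)
      · rintro ⟨x1, x2⟩ _ ⟨y1, y2⟩ _ e
        simp only [Prod.mk.injEq] at e
        obtain ⟨rfl, rfl⟩ := e
        rfl
      · rintro ⟨x, y⟩ hxy
        simp only [Finset.mem_filter, Finset.mem_univ, true_and] at hxy
        refine ⟨⟨y, x⟩, ?_, rfl⟩
        simp only [Finset.mem_filter, Equiv.Perm.mem_finPairsLT]
        refine ⟨hxy.1, le_of_not_gt fun hlt => ?_⟩
        have := (sortIdx d n a h).2 hlt
        simp only [σ, Equiv.ofBijective_apply, hf] at this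
        exact this.asymm hxy.2
    rw [show (Matrix.of fun s t => M (a s) t) =
        (Matrix.of fun s t => M ((sortIdx d n a h).1 s) t).submatrix σ id by
      ext s t; simp [σ, hf], Matrix.det_permute, hσ]
    simp
  · obtain ⟨x, y, hxy, hne⟩ : ∃ x y, a x = a y ∧ x ≠ y := by
      by_contra hno
      push_neg at hno
      exact h (by rw [Finset.card_image_of_injective _ fun x y => hno x y, Finset.card_fin])
    exact Matrix.det_zero_of_row_eq hne (funext fun t => by simp [hxy])

variable (K : Type u) [CommRing K]

lemma map_coord {B : Type u} [CommRing B] [Algebra K B] (M : Fin n → Fin d → B) (a : Fin d → Fin n) :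
    MvPolynomial.aeval (fun θ : Idx d n => (Matrix.of fun s t => M (θ.1 s) t).det) (coord K d n a) =
      (Matrix.of fun s t => M (a s) t).det := by
  rw [det_rows_eq M a, coord]
  split_ifs <;> simp

section identity

variable {B : Type u} [CommRing B] (r : Fin d) (u w : Fin d → Fin d → B)

/-- The rows of the first factor of a shuffle term. -/
def rowsI (A : Finset (Fin (d + 1))) (hA : A.card = r.val + 1) (v : Fin (d + 1) → Fin d → B) :
    Matrix (Fin d) (Fin d) B :=
  Matrix.of fun t => if h : t.val ≤ r.val then v (A.orderEmbOfFin hA ⟨t.val, by omega⟩) else u t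

lemma card_compl_of_card (A : Finset (Fin (d + 1))) (hA : A.card = r.val + 1) :
    Aᶜ.card = d - r.val := by
  rw [Finset.card_compl, hA, Fintype.card_fin]; omega

/-- The rows of the second factor of a shuffle term. -/
def rowsJ (A : Finset (Fin (d + 1))) (hA : A.card = r.val + 1) (v : Fin (d + 1) → Fin d → B) :
    Matrix (Fin d) (Fin d) B :=
  Matrix.of fun t => if h : t.val < r.val then w t
    else v (Aᶜ.orderEmbOfFin (card_compl_of_card r A hA) ⟨t.val - r.val, by have := t.isLt; omega⟩)

lemma exists_posI (A : Finset (Fin (d + 1))) (hA : A.card = r.val + 1) {k : Fin (d + 1)}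
    (hk : k ∈ A) : ∃ t : Fin d, ∃ h : t.val ≤ r.val, A.orderEmbOfFin hA ⟨t.val, by omega⟩ = k := by
  have : k ∈ Set.range (A.orderEmbOfFin hA) := by rw [Finset.range_orderEmbOfFin]; exact hk
  obtain ⟨p, hp⟩ := this
  exact ⟨⟨p.val, by omega⟩, Nat.lt_succ_iff.1 p.isLt, hp⟩

lemma exists_posJ (A : Finset (Fin (d + 1))) (hA : A.card = r.val + 1) {k : Fin (d + 1)}
    (hk : k ∉ A) : ∃ t : Fin d, ∃ h : ¬ t.val < r.val, Aᶜ.orderEmbOfFin (card_compl_of_card r A hA)
      ⟨t.val - r.val, by have := t.isLt; omega⟩ = k := by
  have : k ∈ Set.range (Aᶜ.orderEmbOfFin (card_compl_of_card r A hA)) := by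
    rw [Finset.range_orderEmbOfFin]; simpa using hk
  obtain ⟨p, hp⟩ := this
  refine ⟨⟨r.val + p.val, by omega⟩, by simp, ?_⟩
  rw [← hp]; congr 1; ext; simp

lemma rowsI_update_mem (A : Finset (Fin (d + 1))) (hA : A.card = r.val + 1) {k : Fin (d + 1)}
    (hk : k ∈ A) : ∃ p : Fin d, ∀ (v : Fin (d + 1) → Fin d → B) x,
      rowsI r u A hA (Function.update v k x) = (rowsI r u A hA v).updateRow p x := by
  obtain ⟨p, hp, hpk⟩ := exists_posI r A hA hk
  refine ⟨p, fun v x => ?_⟩
  ext t l
  by_cases htp : t = p
  · subst htp; simp [rowsI, Matrix.updateRow_self, Fin.le_def.2 hp, hp, hpk, -Fin.val_fin_le]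
  · rw [Matrix.updateRow_ne htp]
    simp only [rowsI, Matrix.of_apply]
    split_ifs with h
    · rw [Function.update_of_ne]
      intro he
      rw [← hpk] at he
      exact htp (Fin.ext (by simpa using congrArg Fin.val ((A.orderEmbOfFin hA).injective he)))
    · rfl

lemma rowsI_update_notMem (A : Finset (Fin (d + 1))) (hA : A.card = r.val + 1) {k : Fin (d + 1)}
    (hk : k ∉ A) (v : Fin (d + 1) → Fin d → B) (x : Fin d → B) :
    rowsI r u A hA (Function.update v k x) = rowsI r u A hA v := by
  ext t l
  simp only [rowsI, Matrix.of_apply]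
  split_ifs
  · rw [Function.update_of_ne]
    exact fun he => hk (he ▸ A.orderEmbOfFin_mem hA _)
  · rfl

lemma rowsJ_update_notMem (A : Finset (Fin (d + 1))) (hA : A.card = r.val + 1) {k : Fin (d + 1)}
    (hk : k ∉ A) : ∃ p : Fin d, ∀ (v : Fin (d + 1) → Fin d → B) x,
      rowsJ r w A hA (Function.update v k x) = (rowsJ r w A hA v).updateRow p x := by
  obtain ⟨p, hp, hpk⟩ := exists_posJ r A hA hk
  refine ⟨p, fun v x => ?_⟩
  ext t l
  by_cases htp : t = p
  · subst htp; simp [rowsJ, Matrix.updateRow_self, hp, hpk, -Fin.val_fin_lt]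
  · rw [Matrix.updateRow_ne htp]
    simp only [rowsJ, Matrix.of_apply]
    split_ifs with h
    · rfl
    · rw [Function.update_of_ne]
      intro he
      rw [← hpk] at he
      have := congrArg Fin.val ((Aᶜ.orderEmbOfFin (card_compl_of_card r A hA)).injective he)
      simp only [] at this
      exact htp (Fin.ext (by omega))

lemma rowsJ_update_mem (A : Finset (Fin (d + 1))) (hA : A.card = r.val + 1) {k : Fin (d + 1)}
    (hk : k ∈ A) (v : Fin (d + 1) → Fin d → B) (x : Fin d → B) :
    rowsJ r w A hA (Function.update v k x) = rowsJ r w A hA v := by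
  ext t l
  simp only [rowsJ, Matrix.of_apply]
  split_ifs
  · rfl
  · rw [Function.update_of_ne]
    intro he
    exact Finset.mem_compl.1 (he ▸ Aᶜ.orderEmbOfFin_mem _ _) hk

/-- One shuffle term. -/
def term (A : Finset (Fin (d + 1))) (v : Fin (d + 1) → Fin d → B) : B :=
  if hA : A.card = r.val + 1
  then (-1) ^ shuffleSign r A * (rowsI r u A hA v).det * (rowsJ r w A hA v).det
  else 0

lemma term_update (A : Finset (Fin (d + 1))) (k : Fin (d + 1)) :
    ∃ L : (Fin (d + 1) → Fin d → B) → (Fin d → B) → B,
      (∀ v x, term r u w A (Function.update v k x) = L v x) ∧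
      (∀ v x y, L v (x + y) = L v x + L v y) ∧ ∀ v (c : B) x, L v (c • x) = c * L v x := by
  by_cases hA : A.card = r.val + 1
  · by_cases hk : k ∈ A
    · obtain ⟨p, hp⟩ := rowsI_update_mem r u A hA hk
      refine ⟨fun v x => (-1) ^ shuffleSign r A * ((rowsI r u A hA v).updateRow p x).det *
          (rowsJ r w A hA v).det, fun v x => ?_, fun v x y => ?_, fun v c x => ?_⟩
      · rw [term, dif_pos hA, hp, rowsJ_update_mem r w A hA hk]
      · simp only [Matrix.det_updateRow_add]; ring
      · simp only [Matrix.det_updateRow_smul]; ring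
    · obtain ⟨p, hp⟩ := rowsJ_update_notMem r w A hA hk
      refine ⟨fun v x => (-1) ^ shuffleSign r A * (rowsI r u A hA v).det *
          ((rowsJ r w A hA v).updateRow p x).det, fun v x => ?_, fun v x y => ?_, fun v c x => ?_⟩
      · rw [term, dif_pos hA, hp, rowsI_update_notMem r u A hA hk]
      · simp only [Matrix.det_updateRow_add]; ring
      · simp only [Matrix.det_updateRow_smul]; ring
  · exact ⟨fun _ _ => 0, fun v x => by rw [term, dif_neg hA], by simp, by simp⟩

/-- The signed sum of all shuffle terms, as a multilinear map in the moving rows. -/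
def shuffleSum : MultilinearMap B (fun _ : Fin (d + 1) => Fin d → B) B where
  toFun v := ∑ A, term r u w A v
  map_update_add' := by
    intro inst v k x y
    obtain rfl : inst = instDecidableEqFin (d + 1) := Subsingleton.elim _ _
    rw [← Finset.sum_add_distrib]
    refine Finset.sum_congr rfl fun A _ => ?_
    obtain ⟨L, h1, h2, -⟩ := term_update r u w A k
    rw [h1, h1, h1, h2]
  map_update_smul' := by
    intro inst v k c x
    obtain rfl : inst = instDecidableEqFin (d + 1) := Subsingleton.elim _ _
    rw [Finset.smul_sum]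
    refine Finset.sum_congr rfl fun A _ => ?_
    obtain ⟨L, h1, -, h3⟩ := term_update r u w A k
    rw [h1, h1, h3, smul_eq_mul]

lemma sum_orderEmb_val_ge {k : ℕ} (A : Finset (Fin (d + 1))) (hA : A.card = k) (p : Fin k) :
    p.val ≤ (A.orderEmbOfFin hA p).val := by
  obtain ⟨p, hp⟩ := p
  induction p with
  | zero => exact Nat.zero_le _
  | succ p ih =>
    refine (Nat.succ_le_succ (ih (by omega))).trans ?_
    exact (A.orderEmbOfFin hA).strictMono (by simp)

lemma sum_eq_sum_orderEmb {k : ℕ} (A : Finset (Fin (d + 1))) (hA : A.card = k) {M : Type*}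
    [AddCommMonoid M] (g : Fin (d + 1) → M) : ∑ x ∈ A, g x = ∑ p, g (A.orderEmbOfFin hA p) := by
  conv_lhs => rw [← Finset.map_orderEmbOfFin_univ A hA]
  rw [Finset.sum_map]
  rfl

lemma le_sum_of_card (A : Finset (Fin (d + 1))) (hA : A.card = r.val + 1) :
    r.val * (r.val + 1) / 2 ≤ A.sum fun a => a.val := by
  rw [sum_eq_sum_orderEmb A hA]
  calc r.val * (r.val + 1) / 2 = ∑ p : Fin (r.val + 1), p.val := by
        rw [Fin.sum_univ_eq_sum_range (fun i => i), Finset.sum_range_id, Nat.add_sub_cancel,
          mul_comm]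
    _ ≤ _ := Finset.sum_le_sum fun p _ => sum_orderEmb_val_ge A hA p

lemma term_of_swap {a b : Fin (d + 1)} (hab : a.val + 1 = b.val) {v : Fin (d + 1) → Fin d → B}
    (hv : v a = v b) {A : Finset (Fin (d + 1))} (haA : a ∈ A) (hbA : b ∉ A) :
    term r u w A v + term r u w (A.map (Equiv.swap a b).toEmbedding) v = 0 := by
  classical
  set A' := A.map (Equiv.swap a b).toEmbedding with hA'
  have hcard : A'.card = A.card := Finset.card_map _
  by_cases hA : A.card = r.val + 1
  swap
  · rw [term, term, dif_neg hA, dif_neg (by rwa [hcard]), add_zero]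
  have hA1 : A'.card = r.val + 1 := hcard.trans hA
  have hsw : ∀ x : Fin (d + 1), v (Equiv.swap a b x) = v x := fun x => by
    rcases eq_or_ne x a with rfl | hxa
    · rw [Equiv.swap_apply_left, hv]
    rcases eq_or_ne x b with rfl | hxb
    · rw [Equiv.swap_apply_right, hv]
    · rw [Equiv.swap_apply_of_ne_of_ne hxa hxb]
  have hmono : ∀ x y : Fin (d + 1), x < y → ¬ (x = a ∧ y = b) →
      Equiv.swap a b x < Equiv.swap a b y := by
    intro x y hxy hne
    rw [Equiv.swap_apply_def, Equiv.swap_apply_def]
    simp only [Fin.lt_def, Fin.ext_iff] at *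
    split_ifs <;> omega
  have hI : rowsI r u A' hA1 v = rowsI r u A hA v := by
    have he : (fun p => Equiv.swap a b (A.orderEmbOfFin hA p)) = A'.orderEmbOfFin hA1 :=
      Finset.orderEmbOfFin_unique hA1
        (fun p => Finset.mem_map.2 ⟨_, A.orderEmbOfFin_mem hA p, rfl⟩)
        fun p q hpq => hmono _ _ ((A.orderEmbOfFin hA).strictMono hpq)
          fun h => hbA (h.2 ▸ A.orderEmbOfFin_mem hA q)
    ext t l
    simp only [rowsI, Matrix.of_apply, ← he, hsw]
  have hJ : rowsJ r w A' hA1 v = rowsJ r w A hA v := by
    have he : (fun p => Equiv.swap a b (Aᶜ.orderEmbOfFin (card_compl_of_card r A hA) p)) =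
        A'ᶜ.orderEmbOfFin (card_compl_of_card r A' hA1) :=
      Finset.orderEmbOfFin_unique _
        (fun p => by
          rw [Finset.mem_compl, hA', Finset.mem_map_equiv, Equiv.symm_swap, Equiv.swap_apply_self]
          exact Finset.mem_compl.1 (Aᶜ.orderEmbOfFin_mem _ p))
        fun p q hpq => hmono _ _ ((Aᶜ.orderEmbOfFin _).strictMono hpq)
          fun h => Finset.mem_compl.1 (h.1 ▸ Aᶜ.orderEmbOfFin_mem _ p) haA
    ext t l
    simp only [rowsJ, Matrix.of_apply, ← he, hsw]
  have hsum : (A'.sum fun x => x.val) = (A.sum fun x => x.val) + 1 := by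
    rw [hA', Finset.sum_map, ← Finset.add_sum_erase A _ haA, ← Finset.add_sum_erase A _ haA]
    simp only [Equiv.coe_toEmbedding, Equiv.swap_apply_left]
    rw [← hab, add_right_comm]
    congr 1
    congr 1
    refine Finset.sum_congr rfl fun x hx => ?_
    rw [Equiv.swap_apply_of_ne_of_ne (Finset.ne_of_mem_erase hx)
      fun h => hbA (by subst h; exact Finset.mem_of_mem_erase hx)]
  have hsign : shuffleSign r A' = shuffleSign r A + 1 := by
    have := le_sum_of_card r A hA
    simp only [shuffleSign, hsum]
    omega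
  rw [term, term, dif_pos hA, dif_pos hA1, hI, hJ, hsign, pow_succ]
  ring

lemma shuffleSum_eq_zero_of_adjacent {a b : Fin (d + 1)} (hab : a.val + 1 = b.val)
    (v : Fin (d + 1) → Fin d → B) (hv : v a = v b) : shuffleSum r u w v = 0 := by
  classical
  have hne : a ≠ b := fun h => by subst h; omega
  have hboth : ∀ A : Finset (Fin (d + 1)), (a ∈ A ↔ b ∈ A) → term r u w A v = 0 := by
    intro A hiff
    by_cases hA : A.card = r.val + 1
    swap
    · rw [term, dif_neg hA]
    rw [term, dif_pos hA]
    by_cases ha : a ∈ A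
    · obtain ⟨p, hp, hpa⟩ := exists_posI r A hA ha
      obtain ⟨q, hq, hqb⟩ := exists_posI r A hA (hiff.1 ha)
      have : (rowsI r u A hA v).det = 0 :=
        Matrix.det_zero_of_row_eq (i := p) (j := q) (fun h => hne (by subst h; exact hpa.symm.trans hqb))
          (funext fun l => by simp [rowsI, hp, hq, hpa, hqb, hv, -Fin.val_fin_le])
      rw [this, mul_zero, zero_mul]
    · obtain ⟨p, hp, hpa⟩ := exists_posJ r A hA ha
      obtain ⟨q, hq, hqb⟩ := exists_posJ r A hA (fun h => ha (hiff.2 h))
      have : (rowsJ r w A hA v).det = 0 :=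
        Matrix.det_zero_of_row_eq (i := p) (j := q) (fun h => hne (by subst h; exact hpa.symm.trans hqb))
          (funext fun l => by simp [rowsJ, hp, hq, hpa, hqb, hv, -Fin.val_fin_lt])
      rw [this, mul_zero]
  refine Finset.sum_involution (fun (A : Finset (Fin (d + 1))) _ => A.map (Equiv.swap a b).toEmbedding) (fun A _ => ?_)
    (fun A _ hA => ?_) (fun _ _ => Finset.mem_univ _) (fun A _ => ?_)
  · have hmem : ∀ x, x ∈ A.map (Equiv.swap a b).toEmbedding ↔ Equiv.swap a b x ∈ A := fun x => by
      rw [Finset.mem_map_equiv, Equiv.symm_swap]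
    by_cases ha : a ∈ A <;> by_cases hb : b ∈ A
    · rw [hboth A ⟨fun _ => hb, fun _ => ha⟩,
        hboth _ (by simp [hmem, ha, hb]), add_zero]
    · exact term_of_swap r u w hab hv ha hb
    · have h := term_of_swap r u w hab hv (A := A.map (Equiv.swap a b).toEmbedding)
        ((hmem a).2 (by simpa using hb)) (fun h => ha (by simpa using (hmem b).1 h))
      rw [Finset.map_map] at h
      rw [add_comm]
      convert h using 3
      conv_lhs => rw [← A.map_refl]
      congr 1
      ext x; simp
    · rw [hboth A ⟨fun h => absurd h ha, fun h => absurd h hb⟩,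
        hboth _ (by simp [hmem, ha, hb]), add_zero]
  · intro he
    refine hA (hboth A ?_)
    have : Equiv.swap a b a ∈ A ↔ a ∈ A := by
      conv_rhs => rw [← he, Finset.mem_map_equiv, Equiv.symm_swap]
    rw [Equiv.swap_apply_left] at this
    exact this.symm
  · rw [Finset.map_map]
    conv_rhs => rw [← A.map_refl]
    congr 1
    ext x; simp

lemma shuffleSum_eq_zero_of_eq {a b : Fin (d + 1)} (hab : a < b) (v : Fin (d + 1) → Fin d → B)
    (hv : v a = v b) : shuffleSum r u w v = 0 := by
  classical
  generalize hk : b.val - a.val = k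
  induction k generalizing b v with
  | zero => omega
  | succ k ih =>
    rcases Nat.eq_zero_or_pos k with rfl | hpos
    · exact shuffleSum_eq_zero_of_adjacent r u w (by omega) v hv
    let c : Fin (d + 1) := ⟨b.val - 1, by omega⟩
    have hcb : c.val + 1 = b.val := by simp [c]; omega
    have hca : a < c := Fin.lt_def.2 (by simp [c]; omega)
    have hne : c ≠ b := fun h => by have := congrArg Fin.val h; omega
    -- exchange the values at `c` and `b`
    let e : (Fin d → B) → (Fin d → B) → Fin (d + 1) → Fin d → B := fun x y =>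
      Function.update (Function.update v c x) b y
    have hz : ∀ x, shuffleSum r u w (e x x) = 0 := fun x =>
      shuffleSum_eq_zero_of_adjacent r u w hcb _ (by simp [e, hne])
    have hl : ∀ x x' y, shuffleSum r u w (e (x + x') y) =
        shuffleSum r u w (e x y) + shuffleSum r u w (e x' y) := fun x x' y => by
      simp only [e, Function.update_comm hne _ _ v]
      exact (shuffleSum r u w).map_update_add _ c x x'
    have hr : ∀ x y y', shuffleSum r u w (e x (y + y')) =
        shuffleSum r u w (e x y) + shuffleSum r u w (e x y') := fun x y y' =>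
      (shuffleSum r u w).map_update_add _ b y y'
    have hanti : shuffleSum r u w (e (v c) (v b)) + shuffleSum r u w (e (v b) (v c)) = 0 := by
      have := hz (v c + v b)
      rw [hl, hr, hr, hz, hz, zero_add, add_zero] at this
      exact this
    have hswap : shuffleSum r u w (e (v b) (v c)) = 0 := by
      refine ih (b := c) hca (e (v b) (v c)) ?_ (by simp [c]; omega)
      simp only [e]
      rw [Function.update_of_ne (ne_of_lt hab), Function.update_of_ne (ne_of_lt hca),
        Function.update_of_ne hne, Function.update_self, hv]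
    rw [hswap, add_zero] at hanti
    simpa [e] using hanti

/-- The shuffle identity. -/
theorem shuffleSum_eq_zero : shuffleSum r u w = 0 := by
  refine Module.Basis.ext_multilinear (fun _ => Pi.basisFun B (Fin d)) fun f => ?_
  obtain ⟨a, b, hne, hf⟩ := Fintype.exists_ne_map_eq_of_card_lt f (by simp)
  rw [MultilinearMap.zero_apply]
  rcases lt_or_gt_of_ne hne with h | h
  · exact shuffleSum_eq_zero_of_eq r u w h _ (by rw [hf])
  · exact shuffleSum_eq_zero_of_eq r u w h _ (by rw [hf])

end identity

/-- Shuffle relations vanish on the minors of any matrix over any algebra. -/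
theorem aeval_shuffleRel {B : Type u} [CommRing B] [Algebra K B] (M : Fin n → Fin d → B)
    (i j : Idx d n) (r : Fin d) :
    MvPolynomial.aeval (fun θ : Idx d n => (Matrix.of fun s t => M (θ.1 s) t).det)
      (shuffleRel K i j r) = 0 := by
  have h : shuffleSum r (fun t => M (i.1 t)) (fun t => M (j.1 t))
      (fun k => M (movingRows i j r k)) = 0 := by rw [shuffleSum_eq_zero]; rfl
  rw [shuffleRel, map_sum]
  refine Eq.trans (Finset.sum_congr rfl fun A _ => ?_) h
  rw [shuffleTerm, term]
  split_ifs with hA
  · rw [map_mul, map_mul, map_coord, map_coord, map_pow, map_neg, map_one]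
    congr 3
    · ext t l; simp only [rowsI, shuffleI, Matrix.of_apply]; split_ifs <;> rfl
    · ext t l; simp only [rowsJ, shuffleJ, Matrix.of_apply]; split_ifs <;> rfl
  · rw [map_zero]

end Groth.Agent.W4Gr15
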